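import Cfsg.Agent.H58.Elusive.Criterion
import Cfsg.Prelude.Def_GeometricClasses

/-!
From matrices in `omegaGL` to the criterion for elements of odd prime order.
-/

set_option autoImplicit false
set_option linter.unusedSectionVars false
set_option linter.style.haveILetI false

namespace Cfsg.Agent.H58.Elusive

open Module QuadraticMap Orthogonal H68.EvenOrtho H53

section Abstract

variable {F V : Type*} [Field F] [Finite F] [AddCommGroup V] [Module F V] [FiniteDimensional F V]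
variable {Q : QuadraticForm F V}

/-- Squares of isometries lie in the commutator subgroup. -/
theorem sq_mem_commutator (hQ : Nondeg Q) (h4 : finrank F V ≠ 4) (g : O Q) :
    g ^ 2 ∈ commutator (O Q) := by
  have htop := reflGroup_eq_top hQ (Or.inr h4)
  rw [← Abelianization.ker_of, MonoidHom.mem_ker, map_pow]
  have hg : g ∈ reflGroup Q := by rw [htop]; trivial
  induction hg using Subgroup.closure_induction with
  | mem x hx => obtain ⟨v, rfl⟩ := hx; rw [← map_pow, pow_two, rO_mul_self, map_one]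
  | one => simp
  | mul a b _ _ ha hb => rw [map_mul, mul_pow, ha, hb, one_mul]
  | inv a _ ha => rw [map_inv, inv_pow, ha, inv_one]

theorem mem_commutator_of_odd (hQ : Nondeg Q) (h4 : finrank F V ≠ 4) {r : ℕ} (hr : Odd r) (g : O Q)
    (hg : g ^ r = 1) : g ∈ commutator (O Q) := by
  obtain ⟨a, ha⟩ := hr
  have : g = (g ^ (a + 1)) ^ 2 := by
    rw [← pow_mul, show (a + 1) * 2 = r + 1 by omega, pow_succ, hg, one_mul]
  rw [this]
  exact sq_mem_commutator hQ h4 _

theorem exists_isoOn_iff {W₀ : Submodule F V} (hW₀ : Nondeg (restr Q W₀)) {a : ℕ}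
    (hd : finrank F W₀ = 2 * a) (W : Submodule F V) :
    IsoOn Q W W₀ ↔ finrank F W = 2 * a ∧ Nondeg (restr Q W) ∧ sg (restr Q W) = sg (restr Q W₀) := by
  constructor
  · exact fun h => ⟨h.finrank_eq.trans hd, h.symm.nondeg hW₀, h.sg_eq⟩
  · rintro ⟨h1, h2, h3⟩
    exact isoOn_of_sg h2 hW₀ (h1.trans hd.symm) (h1 ▸ even_two_mul a) h3

/-- Plus type inside the space. -/
theorem sg_restr_eq_one_iff {W : Submodule F V} (hW : Nondeg (restr Q W)) {a : ℕ}
    (hd : finrank F W = 2 * a) :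
    sg (restr Q W) = 1 ↔ ∃ U ≤ W, (∀ u ∈ U, Q u = 0) ∧ finrank F U = a := by
  rw [sg_eq_one_iff hW hd]
  constructor
  · rintro ⟨U, hU, hd⟩
    refine ⟨U.map W.subtype, Submodule.map_subtype_le W U, ?_, ?_⟩
    · rintro - ⟨u, hu, rfl⟩
      exact hU u hu
    · exact (Submodule.equivMapOfInjective _ W.injective_subtype U).finrank_eq.symm.trans hd
  · rintro ⟨U, hUW, hU, hd⟩
    exact ⟨U.comap W.subtype, fun u hu => hU _ hu,
      (Submodule.comapSubtypeEquivOfLe hUW).finrank_eq.trans hd⟩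

theorem nondegOn_iff_nondeg (W : Submodule F V) :
    (∀ u ∈ W, u ≠ 0 → ∃ v ∈ W, polar Q u v ≠ 0) ↔ Nondeg (restr Q W) := by
  constructor
  · intro h x hx
    by_contra hne
    obtain ⟨v, hv, hv'⟩ := h x x.2 fun h0 => hne (Subtype.ext h0)
    have := hx ⟨v, hv⟩
    rw [polar_restr] at this
    exact hv' this
  · intro h u hu hne
    obtain ⟨⟨v, hv⟩, hv'⟩ := h.exists_polar_ne (x := ⟨u, hu⟩) fun h0 => hne (congrArg Subtype.val h0)
    rw [polar_restr] at hv'
    exact ⟨v, hv, hv'⟩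

end Abstract

variable {F : Type*} [Field F] [Finite F] {ι : Type} [Fintype ι] [DecidableEq ι]
variable {Q : QuadraticForm F (ι → F)}

theorem geo_nondeg_iff (W : Submodule F (ι → F)) :
    Cfsg.Geo.IsNondegenerateOn (QuadraticMap.polar ⇑Q) W ↔ Nondeg (restr Q W) := by
  rw [← nondegOn_iff_nondeg]
  constructor
  · intro h u hu hne
    exact (h u hu hne).2
  · intro h u hu hne
    obtain ⟨v, hv, hne'⟩ := h u hu hne
    exact ⟨⟨v, hv, by rwa [QuadraticMap.polar_comm]⟩, v, hv, hne'⟩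

theorem geo_plus_iff {W : Submodule F (ι → F)} (hW : Nondeg (restr Q W)) {a : ℕ}
    (hd : finrank F W = 2 * a) :
    Cfsg.Geo.IsPlusTypeOn ⇑Q W ↔ sg (restr Q W) = 1 := by
  rw [sg_restr_eq_one_iff hW hd]
  constructor
  · rintro ⟨U, hUW, hU, h2⟩
    exact ⟨U, hUW, hU, by omega⟩
  · rintro ⟨U, hUW, hU, h2⟩
    exact ⟨U, hUW, hU, by omega⟩

/-- The isometry of a matrix in `omegaGL`. -/
theorem exists_iso_of_mem {x : GL ι F} (hx : x ∈ Cfsg.Geo.omegaGL ⇑Q) :
    ∃ g : O Q, g ∈ commutator (O Q) ∧ (∀ v, (g : (ι → F) ≃ₗ[F] (ι → F)) v = (x : Matrix ι ι F).mulVec v) ∧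
      ((toO Q).symm g : GL ι F) = x := by
  obtain ⟨y, hy, rfl⟩ := Subgroup.mem_map.1 hx
  refine ⟨toO Q y, (mem_omega_iff Q y).1 hy, fun v => toO_apply Q y v, ?_⟩
  rw [MulEquiv.symm_apply_apply]; rfl

theorem mem_omegaGL_of_commutator (g : O Q) (hg : g ∈ commutator (O Q)) :
    (((toO Q).symm g : Cfsg.isometryGroup F ⇑Q) : GL ι F) ∈ Cfsg.Geo.omegaGL ⇑Q :=
  Subgroup.mem_map.2 ⟨(toO Q).symm g, (mem_omega_iff Q _).2 (by rwa [MulEquiv.apply_symm_apply]), rfl⟩

theorem map_le_iff (g : O Q) (x : GL ι F)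
    (hgx : ∀ v, (g : (ι → F) ≃ₗ[F] (ι → F)) v = (x : Matrix ι ι F).mulVec v) (W : Submodule F (ι → F)) :
    W.map (Matrix.toLin' (x : Matrix ι ι F)) ≤ W ↔ ∀ v ∈ W, (g : (ι → F) ≃ₗ[F] (ι → F)) v ∈ W := by
  rw [Submodule.map_le_iff_le_comap]
  constructor
  · intro h v hv; rw [hgx]; exact h hv
  · intro h v hv
    have := h v hv
    rwa [hgx] at this

/-- Elements `x` of `omegaGL` with `x ^ r` scalar, against elements of order `r` of the orthogonal group. -/
theorem forall_scalar_iff (hQ : Nondeg Q) (h4 : Fintype.card ι ≠ 4) (h2 : 2 ≤ Fintype.card ι) {r : ℕ}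
    [Fact r.Prime] (hr2 : r ≠ 2) {W₀ : Submodule F (ι → F)} {P : Submodule F (ι → F) → Prop}
    (hP : ∀ W, P W ↔ IsoOn Q W W₀) :
    (∀ x : GL ι F, x ∈ Cfsg.Geo.omegaGL ⇑Q →
      (∃ z : F, ((x ^ r : GL ι F) : Matrix ι ι F) = z • (1 : Matrix ι ι F)) →
      (∀ z : F, (x : Matrix ι ι F) ≠ z • (1 : Matrix ι ι F)) →
      ∃ W : Submodule F (ι → F), P W ∧ W.map (Matrix.toLin' (x : Matrix ι ι F)) ≤ W) ↔
      AllFix Q W₀ r := by
  have hodd := (Fact.out : r.Prime).odd_of_ne_two hr2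
  have hd : finrank F (ι → F) = Fintype.card ι := Module.finrank_fintype_fun_eq_card F
  constructor
  · intro h g hg hne
    set x : GL ι F := ((toO Q).symm g : GL ι F) with hx
    have hgx : ∀ v, (g : (ι → F) ≃ₗ[F] (ι → F)) v = (x : Matrix ι ι F).mulVec v :=
      fun v => (toO_symm_apply Q g v).symm
    suffices hns : ∀ z : F, (x : Matrix ι ι F) ≠ z • (1 : Matrix ι ι F) by
      obtain ⟨W, hW, hWx⟩ := h x (mem_omegaGL_of_commutator g (mem_commutator_of_odd hQ (by omega) hodd g hg))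
        ⟨1, by rw [hx, ← Subgroup.coe_pow, ← map_pow, hg, map_one, Subgroup.coe_one, Units.val_one, one_smul]⟩ hns
      exact ⟨W, (hP W).1 hW, (map_le_iff g x hgx W).1 hWx⟩
    intro z hz
    have hgz : ∀ v, (g : (ι → F) ≃ₗ[F] (ι → F)) v = z • v := fun v => by
      rw [hgx, hz, Matrix.smul_mulVec, Matrix.one_mulVec]
    obtain ⟨v, hv⟩ := hQ.exists_value (by omega) 1
    have hz2 : z ^ 2 = 1 := by
      have := O.map_app g v
      rwa [hgz, qmap_smul, hv, mul_one] at this
    have hpow : ∀ j, ((g ^ j : O Q) : (ι → F) ≃ₗ[F] (ι → F)) v = z ^ j • v := by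
      intro j
      induction j with
      | zero => rw [pow_zero, pow_zero, one_smul]; rfl
      | succ j ih => rw [pow_succ', Subgroup.coe_mul, mul_app, ih, map_smul, hgz, smul_smul, pow_succ]
    have hr' := hpow r
    rw [hg] at hr'
    have hv0 : v ≠ 0 := fun h0 => by rw [h0, QuadraticMap.map_zero] at hv; exact zero_ne_one hv
    have hzr : z ^ r = 1 := by
      by_contra hne'
      refine hv0 ((smul_eq_zero.1 (show (z ^ r - 1) • v = 0 by
        rw [sub_smul, one_smul, ← hr']; exact sub_self v)).resolve_left (sub_ne_zero.2 hne'))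
    obtain ⟨a, ha⟩ := hodd
    have hz1 : z = 1 := by rwa [ha, pow_succ, pow_mul, hz2, one_pow, one_mul] at hzr
    exact hne (O.ext_app fun w => by rw [hgz, hz1, one_smul]; rfl)
  · intro h x hx ⟨z, hz⟩ hns
    obtain ⟨g, -, hgx, hgs⟩ := exists_iso_of_mem hx
    have hgr : ∀ v, ((g ^ r : O Q) : (ι → F) ≃ₗ[F] (ι → F)) v = z • v := fun v => by
      rw [← toO_symm_apply, map_pow, Subgroup.coe_pow, hgs, hz, Matrix.smul_mulVec, Matrix.one_mulVec]
    obtain ⟨v, hv⟩ := hQ.exists_value (by omega) 1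
    have hz2 : z ^ 2 = 1 := by
      have := O.map_app (g ^ r) v
      rwa [hgr, qmap_smul, hv, mul_one] at this
    have hsq : (g ^ r) ^ 2 = 1 := O.ext_app fun w => by
      rw [pow_two, Subgroup.coe_mul, mul_app, hgr, hgr, smul_smul, ← pow_two, hz2, one_smul]; rfl
    obtain ⟨a, ha⟩ := hodd
    have hh : (g ^ (r + 1)) ^ r = 1 := by
      rw [← pow_mul, show (r + 1) * r = r * 2 * (a + 1) by rw [ha]; ring, pow_mul, pow_mul, hsq, one_pow]
    have happ : ∀ w, ((g ^ (r + 1) : O Q) : (ι → F) ≃ₗ[F] (ι → F)) w = z • (x : Matrix ι ι F).mulVec w :=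
      fun w => by rw [pow_succ, Subgroup.coe_mul, mul_app, hgr, hgx]
    have hz0 : z ≠ 0 := fun h0 => by rw [h0] at hz2; simp at hz2
    have hne : g ^ (r + 1) ≠ 1 := fun h1 => hns z (Matrix.ext_iff_mulVec.2 fun w => by
      have := happ w
      rw [h1] at this
      change w = _ at this
      rw [Matrix.smul_mulVec, Matrix.one_mulVec]
      conv_rhs => rw [this, smul_smul, ← pow_two, hz2, one_smul])
    obtain ⟨W, hW, hinv⟩ := h _ hh hne
    refine ⟨W, (hP W).2 hW, (map_le_iff g x hgx W).2 fun w hw => ?_⟩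
    have := W.smul_mem z (hinv w hw)
    rwa [happ, smul_smul, ← pow_two, hz2, one_smul, ← hgx] at this

/-- The version for elements of order `r`. -/
theorem forall_order_iff (hQ : Nondeg Q) (h4 : Fintype.card ι ≠ 4) {r : ℕ} [Fact r.Prime] (hr2 : r ≠ 2)
    {W₀ : Submodule F (ι → F)} {P : Submodule F (ι → F) → Prop} (hP : ∀ W, P W ↔ IsoOn Q W W₀) :
    (∀ x : GL ι F, x ∈ Cfsg.Geo.omegaGL ⇑Q → orderOf x = r →
      ∃ W : Submodule F (ι → F), P W ∧ W.map (Matrix.toLin' (x : Matrix ι ι F)) ≤ W) ↔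
      AllFix Q W₀ r := by
  have hodd := (Fact.out : r.Prime).odd_of_ne_two hr2
  have hd : finrank F (ι → F) = Fintype.card ι := Module.finrank_fintype_fun_eq_card F
  constructor
  · intro h g hg hne
    have hinj : Function.Injective fun g : O Q => (((toO Q).symm g : Cfsg.isometryGroup F ⇑Q) : GL ι F) :=
      Subtype.val_injective.comp (toO Q).symm.injective
    obtain ⟨W, hW, hWx⟩ := h ((toO Q).symm g : GL ι F)
      (mem_omegaGL_of_commutator g (mem_commutator_of_odd hQ (by omega) hodd g hg))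
      (orderOf_eq_prime (by rw [← Subgroup.coe_pow, ← map_pow, hg, map_one, Subgroup.coe_one])
        fun h1 => hne (hinj (h1.trans (by simp))))
    exact ⟨W, (hP W).1 hW, (map_le_iff g _ (fun v => (toO_symm_apply Q g v).symm) W).1 hWx⟩
  · intro h x hx ho
    obtain ⟨g, -, hgx, hgs⟩ := exists_iso_of_mem hx
    have hg : g ^ r = 1 := by
      refine (toO Q).symm.injective (Subtype.ext ?_)
      rw [map_pow, Subgroup.coe_pow, hgs, ← ho, pow_orderOf_eq_one, map_one, Subgroup.coe_one]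
    have hne : g ≠ 1 := fun h1 => by
      rw [h1, map_one, Subgroup.coe_one] at hgs
      rw [← hgs, orderOf_one] at ho
      exact (Fact.out : r.Prime).one_lt.ne ho
    obtain ⟨W, hW, hinv⟩ := h g hg hne
    exact ⟨W, (hP W).2 hW, (map_le_iff g x hgx W).2 hinv⟩

end Cfsg.Agent.H58.Elusive
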