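import Cfsg.Agent.H58.Elusive.TwoBridge

/-!
The criterion in terms of residues, and the orbits of the standard types.
-/

set_option autoImplicit false
set_option linter.unusedSectionVars false

namespace Cfsg.Agent.H58.Elusive

open Module QuadraticMap Orthogonal

theorem ee_pow_eq (q r M : ℕ) :
    (ee q r ^ M = 1 ↔ (Even (ii q r) → Even M)) ∧ (ee q r ^ M = -1 ↔ Even (ii q r) ∧ Odd M) := by
  unfold ee
  by_cases h : Even (ii q r)
  · rw [if_pos h]
    rcases Nat.even_or_odd M with hM | hM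
    · rw [hM.neg_one_pow]; exact ⟨by simp [h, hM], by simp [Nat.not_odd_iff_even.2 hM]⟩
    · rw [hM.neg_one_pow]; exact ⟨by simp [h, Nat.not_even_iff_odd.2 hM], by simp [h, hM]⟩
  · rw [if_neg h, one_pow]; simp [h]

theorem cc_even {q r : ℕ} (h : Even (ii q r)) : cc q r = ii q r := if_pos h

theorem cc_odd {q r : ℕ} (h : ¬ Even (ii q r)) : cc q r = 2 * ii q r := if_neg h

variable {F : Type*} [Field F] [Finite F] {ι : Type} [Fintype ι] [DecidableEq ι]
variable {Q : QuadraticForm F (ι → F)}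

/-- A plus subspace of every smaller even dimension and the orbit it spans. -/
theorem exists_orbit_plus (hQ : Nondeg Q) {m : ℕ} (hm : 2 ≤ m) (hme : Even m) (hmn : m < Fintype.card ι) :
    ∃ W₀ : Submodule F (ι → F), Nondeg (restr Q W₀) ∧ finrank F W₀ = m ∧ sg (restr Q W₀) = 1 ∧
      ∀ W : Submodule F (ι → F), (Module.finrank F ↥W = m ∧ Cfsg.Geo.IsNondegenerateOn (QuadraticMap.polar ⇑Q) W ∧
        Cfsg.Geo.IsPlusTypeOn ⇑Q W) ↔ IsoOn Q W W₀ := by
  obtain ⟨a, rfl⟩ := hme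
  obtain ⟨W₀, -, hn, hd, hs⟩ := exists_sub_sg (nondeg_restr_top hQ) (a := a) (ε := 1) (Or.inl rfl) (fun _ => rfl)
    (Or.inl (by rw [finrank_top, Module.finrank_fintype_fun_eq_card]; omega))
  refine ⟨W₀, hn, by omega, hs, fun W => ?_⟩
  rw [exists_isoOn_iff hn hd, hs, geo_nondeg_iff, ← two_mul]
  refine and_congr_right fun h1 => and_congr_right fun h2 => ?_
  exact geo_plus_iff h2 h1

/-- A minus subspace of every smaller even dimension and the orbit it spans. -/
theorem exists_orbit_minus (hQ : Nondeg Q) {m : ℕ} (hm : 2 ≤ m) (hme : Even m) (hmn : m < Fintype.card ι) :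
    ∃ W₀ : Submodule F (ι → F), Nondeg (restr Q W₀) ∧ finrank F W₀ = m ∧ sg (restr Q W₀) = -1 ∧
      ∀ W : Submodule F (ι → F), (Module.finrank F ↥W = m ∧ Cfsg.Geo.IsNondegenerateOn (QuadraticMap.polar ⇑Q) W ∧
        ¬ Cfsg.Geo.IsPlusTypeOn ⇑Q W) ↔ IsoOn Q W W₀ := by
  obtain ⟨a, rfl⟩ := hme
  obtain ⟨W₀, -, hn, hd, hs⟩ := exists_sub_sg (nondeg_restr_top hQ) (a := a) (ε := -1) (Or.inr rfl)
    (fun h => absurd h (by omega))
    (Or.inl (by rw [finrank_top, Module.finrank_fintype_fun_eq_card]; omega))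
  refine ⟨W₀, hn, by omega, hs, fun W => ?_⟩
  rw [exists_isoOn_iff hn hd, hs, geo_nondeg_iff, ← two_mul]
  refine and_congr_right fun h1 => and_congr_right fun h2 => ?_
  rw [geo_plus_iff h2 h1]
  rcases sg_or (restr Q W) with h | h <;> simp [h]

theorem card_orbit {W₀ : Submodule F (ι → F)} {P : Submodule F (ι → F) → Prop} (hP : ∀ W, P W ↔ IsoOn Q W W₀) :
    Nat.card {W // P W} = Nat.card {W // IsoOn Q W W₀} :=
  Nat.card_congr (Equiv.subtypeEquivRight hP)

theorem sg_formPlus (d : ℕ) : sg (formPlus F d) = 1 :=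
  sg_eq (formPlus_nondeg F d) (finrank_formPlus F d) (H68.EvenOrtho.sign_formPlus d)

theorem sg_formMinus (k : ℕ) {a b : F}
    (hab : ∀ z₁ z₂ : F, z₁ ^ 2 + a * z₁ * z₂ + b * z₂ ^ 2 = 0 → z₁ = 0 ∧ z₂ = 0) :
    sg (formMinus F k a b) = -1 :=
  sg_eq (formMinus_nondeg k hab) (finrank_formMinus F k) (H68.EvenOrtho.sign_formMinus k hab)

theorem cast_prime_ne_zero {F : Type*} [Field F] {p r : ℕ} [Fact p.Prime] [CharP F p] [Fact r.Prime]
    (h : r ≠ p) : (r : F) ≠ 0 := fun h0 =>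
  h ((Nat.prime_dvd_prime_iff_eq Fact.out Fact.out).1 ((CharP.cast_eq_zero_iff F p r).1 h0)).symm

theorem two_ne_zero_of_odd_card {F : Type*} [Field F] [Fintype F] (hodd : Odd (Fintype.card F)) : (2 : F) ≠ 0 := by
  intro h
  haveI : CharP F 2 := CharTwo.of_one_ne_zero_of_two_eq_zero one_ne_zero h
  exact Nat.not_even_iff_odd.2 hodd (FiniteField.even_card_iff_char_two.1 (ringChar.eq F 2) |> fun h => Nat.even_iff.2 h)

theorem chiSign_eq {F : Type*} [Field F] [Fintype F] (hodd : Odd (Fintype.card F)) :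
    (chiSign F = 1 ↔ Fintype.card F % 4 = 1) ∧ (chiSign F = -1 ↔ Fintype.card F % 4 = 3) := by
  classical
  have h := FiniteField.isSquare_neg_one_iff (F := F)
  have ho := Nat.odd_iff.1 hodd
  unfold chiSign
  split_ifs with hs
  · have := h.1 hs
    constructor <;> simp <;> omega
  · have : Fintype.card F % 4 = 3 := by by_contra hc; exact hs (h.2 hc)
    constructor <;> simp <;> omega

theorem sqSign_two {F : Type*} [Field F] [Fintype F] (hodd : Odd (Fintype.card F)) :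
    sqSign (2 : F) = 1 ↔ (Fintype.card F % 8 = 1 ∨ Fintype.card F % 8 = 7) := by
  have h := FiniteField.isSquare_two_iff (F := F)
  have ho := Nat.odd_iff.1 hodd
  rw [sqSign_eq_one_iff, h]
  omega

theorem units_pow_eq_one {u : ℤˣ} {d : ℕ} : u ^ d = 1 ↔ (Even d ∨ u = 1) := by
  rcases Int.units_eq_one_or u with h | h <;> subst h
  · simp
  · rw [neg_one_pow_eq_one_iff_even (by decide : (-1 : ℤˣ) ≠ 1)]
    simp

theorem neg_one_pow_eq {d : ℕ} : ((-1 : ℤ) ^ d = 1 ↔ Even d) ∧ ((-1 : ℤ) ^ d = -1 ↔ Odd d) := by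
  rcases Nat.even_or_odd d with h | h
  · rw [h.neg_one_pow]; exact ⟨by simp [h], by simp [Nat.not_odd_iff_even.2 h]⟩
  · rw [h.neg_one_pow]; exact ⟨by simp [Nat.not_even_iff_odd.2 h], by simp [h]⟩

end Cfsg.Agent.H58.Elusive
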