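import Cfsg.Agent.H58.Elusive.Bin
import Cfsg.Agent.H58.Elusive.Translate
import Cfsg.Agent.H72.OrthTypeFix

/-!
Elements of order equal to the characteristic: from isometries to matrices, and witnesses.
-/

set_option autoImplicit false
set_option linter.unusedSectionVars false
set_option linter.style.haveILetI false

namespace Cfsg.Agent.H58.Elusive

open Module QuadraticMap Orthogonal H53

section

variable {F : Type*} [Field F] [Finite F] {ι : Type} [Fintype ι] [DecidableEq ι]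
variable {Q : QuadraticForm F (ι → F)}

theorem one_of_pow_char {p : ℕ} [Fact p.Prime] [CharP F p] {z : F} (h : z ^ p = 1) : z = 1 :=
  frobenius_inj F p (by rw [frobenius_def, frobenius_def, one_pow, h])

/-- A scalar `x` with `x ^ p = 1` is trivial. -/
theorem nonscalar_of_pow {p : ℕ} [Fact p.Prime] [CharP F p] {x : GL ι F} (hxp : x ^ p = 1) (hx1 : x ≠ 1) (z : F) :
    (x : Matrix ι ι F) ≠ z • (1 : Matrix ι ι F) := by
  intro hz
  have h := congrArg (Units.val) hxp
  rw [Units.val_pow_eq_pow_val, hz, smul_pow, one_pow, Units.val_one] at h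
  rcases isEmpty_or_nonempty ι with hι | ⟨⟨i⟩⟩
  · exact hx1 (Units.ext (Subsingleton.elim _ _))
  have hzp : z ^ p = 1 := by simpa using congrFun (congrFun h i) i
  exact hx1 (Units.ext (by rw [hz, one_of_pow_char hzp, one_smul, Units.val_one]))

/-- A witness of order `p` refutes the fixing statement. -/
theorem not_forall_scalar {p : ℕ} [Fact p.Prime] [CharP F p] {P : Submodule F (ι → F) → Prop} (g : O Q)
    (hgc : g ∈ commutator (O Q)) (hne : g ≠ 1) (hgp : g ^ p = 1)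
    (hno : ∀ W, P W → (∀ v ∈ W, (g : (ι → F) ≃ₗ[F] (ι → F)) v ∈ W) → False) :
    ¬ ∀ x : GL ι F, x ∈ Cfsg.Geo.omegaGL ⇑Q →
      (∃ z : F, ((x ^ p : GL ι F) : Matrix ι ι F) = z • (1 : Matrix ι ι F)) →
      (∀ z : F, (x : Matrix ι ι F) ≠ z • (1 : Matrix ι ι F)) →
      ∃ W : Submodule F (ι → F), P W ∧ W.map (Matrix.toLin' (x : Matrix ι ι F)) ≤ W := by
  intro h
  set x : GL ι F := ((toO Q).symm g : GL ι F) with hx
  have hgx : ∀ v, (g : (ι → F) ≃ₗ[F] (ι → F)) v = (x : Matrix ι ι F).mulVec v :=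
    fun v => (toO_symm_apply Q g v).symm
  have hxp : x ^ p = 1 := by rw [hx, ← Subgroup.coe_pow, ← map_pow, hgp, map_one, Subgroup.coe_one]
  have hx1 : x ≠ 1 := fun h1 => hne (O.ext_app fun v => by rw [hgx, h1, Units.val_one, Matrix.one_mulVec]; rfl)
  obtain ⟨W, hW, hWx⟩ := h x (mem_omegaGL_of_commutator g hgc)
    ⟨1, by rw [hxp, one_smul, Units.val_one]⟩ (nonscalar_of_pow hxp hx1)
  exact hno W hW ((map_le_iff g x hgx W).1 hWx)

/-- In characteristic two it suffices that involutions of the commutator subgroup fix members. -/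
theorem forall_scalar_char_two [CharP F 2] (hQ : Nondeg Q) (hι : 2 ≤ Fintype.card ι)
    {W₀ : Submodule F (ι → F)} {P : Submodule F (ι → F) → Prop} (hP : ∀ W, P W ↔ IsoOn Q W W₀)
    (h : ∀ g : O Q, g ∈ commutator (O Q) → g ^ 2 = 1 → Fixes Q W₀ g) (x : GL ι F)
    (hx : x ∈ Cfsg.Geo.omegaGL ⇑Q)
    (hxr : ∃ z : F, ((x ^ 2 : GL ι F) : Matrix ι ι F) = z • (1 : Matrix ι ι F)) :
    ∃ W : Submodule F (ι → F), P W ∧ W.map (Matrix.toLin' (x : Matrix ι ι F)) ≤ W := by
  obtain ⟨z, hz⟩ := hxr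
  obtain ⟨g, hgc, hgx, -⟩ := exists_iso_of_mem hx
  obtain ⟨v, hv⟩ := hQ.exists_value (by rw [Module.finrank_fintype_fun_eq_card]; omega) 1
  have hgg : ∀ w, (g : (ι → F) ≃ₗ[F] (ι → F)) ((g : (ι → F) ≃ₗ[F] (ι → F)) w) = z • w := fun w => by
    rw [hgx, hgx, Matrix.mulVec_mulVec, ← Units.val_mul, ← pow_two, hz, Matrix.smul_mulVec, Matrix.one_mulVec]
  have hz2 : z ^ 2 = 1 := by
    have h1 := O.map_app g ((g : (ι → F) ≃ₗ[F] (ι → F)) v)
    rwa [hgg, O.map_app, qmap_smul, hv, mul_one] at h1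
  have hg2 : g ^ 2 = 1 := O.ext_app fun w => by
    rw [pow_two, Subgroup.coe_mul, mul_app, hgg, one_of_pow_char (p := 2) hz2, one_smul]; rfl
  obtain ⟨W, hW, hinv⟩ := h g hgc hg2
  exact ⟨W, (hP W).2 hW, (map_le_iff g x hgx W).2 hinv⟩

end

section

variable {F : Type*} [Field F] [Fintype F] {ι : Type} [Fintype ι] [DecidableEq ι]
variable {p : ℕ} [Fact p.Prime] [CharP F p]

/-- In dimension twice an odd number an element of order `p` fixes no subspace of a given odd dimension. -/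
theorem no_odd_fixed (hp : p ≠ 2) (Q : QuadraticForm F (ι → F)) (hQ : Nondeg Q) {d : ℕ}
    (hι : Fintype.card ι = 2 * d) (hd : Odd d) (hd5 : 4 ≤ d) {m : ℕ} (hm : Odd m) :
    ∃ x : GL ι F, x ∈ Cfsg.Geo.omegaGL ⇑Q ∧ x ^ p = 1 ∧
      (∀ z : F, (x : Matrix ι ι F) ≠ z • (1 : Matrix ι ι F)) ∧
      ∀ W : Submodule F (ι → F), Cfsg.Geo.IsNondegenerateOn (polar ⇑Q) W → finrank F W = m →
        ¬ W.map (Matrix.toLin' (x : Matrix ι ι F)) ≤ W := by
  have h3p : 3 ≤ p := by have := (Fact.out : p.Prime).two_le; omega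
  obtain ⟨j, hj⟩ := hm
  obtain ⟨e, he⟩ := hd
  obtain ⟨c, s, hc, hc0, hs, hsum, hbad⟩ : ∃ c s, Even c ∧ 0 < c ∧ (s = 1 ∨ s = 3) ∧ c + s = d ∧
      ∀ k, Even k → 2 * k + s ≠ m := by
    rcases Nat.even_or_odd j with ⟨i, hi⟩ | ⟨i, hi⟩
    · exact ⟨2 * e - 2, 3, ⟨e - 1, by omega⟩, by omega, Or.inr rfl, by omega, fun k ⟨l, hl⟩ => by omega⟩
    · exact ⟨2 * e, 1, ⟨e, by omega⟩, by omega, Or.inl rfl, by omega, fun k ⟨l, hl⟩ => by omega⟩
  set μ := Multiset.replicate c 2 + Multiset.replicate 2 s with hμ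
  obtain ⟨x, hx, hxo, hxs, hxμ⟩ := H72.OrthTypeFix.exists_element hp Q hQ (μ := μ)
    (fun a ha => by
      rw [hμ] at ha
      rcases Multiset.mem_add.1 ha with ha | ha <;> rw [Multiset.eq_of_mem_replicate ha] <;> omega)
    (fun a ha => by
      rw [hμ, Multiset.count_add, Multiset.count_replicate, Multiset.count_replicate,
        if_neg (show ¬ s = a by rintro rfl; obtain ⟨u, hu⟩ := ha; omega), add_zero]
      split_ifs
      · exact hc
      · exact ⟨0, rfl⟩)
    (by rw [hμ]; simp; omega)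
    ⟨s, by simp [hμ], by rcases hs with rfl | rfl <;> decide⟩
    ⟨2, by rw [hμ]; exact Multiset.mem_add.2 (Or.inl (Multiset.mem_replicate.2 ⟨by omega, rfl⟩)), one_lt_two⟩
  refine ⟨x, hx, hxo ▸ pow_orderOf_eq_one x, hxs, fun W hW hWm hWx => ?_⟩
  obtain ⟨h1, h2, h3, -⟩ := H72.OrthTypeFix.subspace_type hp Q hQ hx (hxo ▸ pow_orderOf_eq_one x) hW hWx
  rw [hxμ] at h1
  rw [hWm] at h2
  set ν := H99.blockParts (Matrix.toLin' (x : Matrix ι ι F) - 1) W p
  have hdec : ν = Multiset.replicate (ν.count 2) 2 + Multiset.replicate (ν.count s) s := by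
    ext a
    rw [Multiset.count_add, Multiset.count_replicate, Multiset.count_replicate]
    by_cases ha : a ∈ ν
    · rcases Multiset.mem_add.1 (hμ ▸ Multiset.mem_of_le h1 ha) with h | h <;>
        rw [Multiset.eq_of_mem_replicate h] <;> split_ifs <;> omega
    · have := Multiset.count_eq_zero.2 ha
      split_ifs <;> subst_vars <;> omega
  have hsum' := congrArg Multiset.sum hdec
  rw [Multiset.sum_add, Multiset.sum_replicate, Multiset.sum_replicate, smul_eq_mul, smul_eq_mul, h2] at hsum'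
  have hle : ν.count s ≤ 2 := by
    have := Multiset.le_iff_count.1 h1 s
    rw [hμ, Multiset.count_add, Multiset.count_replicate, Multiset.count_replicate_self, if_neg (by omega)] at this
    omega
  obtain ⟨k, hk⟩ := h3 2 even_two
  rcases (show ν.count s = 0 ∨ ν.count s = 1 ∨ ν.count s = 2 by omega) with h | h | h <;> rw [h] at hsum'
  · omega
  · exact hbad _ ⟨k, hk⟩ (by omega)
  · omega

/-- An element of order `p` fixing no elliptic subspace, in odd dimension. -/
theorem no_elliptic_fixed (hp : p ≠ 2) (Q : QuadraticForm F (ι → F)) (hQ : Nondeg Q) {d : ℕ}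
    (hι : Fintype.card ι = 2 * d + 1) (hd : 3 ≤ d) :
    ∃ x : GL ι F, x ∈ Cfsg.Geo.omegaGL ⇑Q ∧ orderOf x = p ∧
      ∀ W : Submodule F (ι → F), Cfsg.Geo.IsNondegenerateOn (polar ⇑Q) W → Even (finrank F W) →
        W.map (Matrix.toLin' (x : Matrix ι ι F)) ≤ W → Cfsg.Geo.IsPlusTypeOn ⇑Q W := by
  have h3p : 3 ≤ p := by have := (Fact.out : p.Prime).two_le; omega
  obtain ⟨c, s, hc, hc0, hs, hsum⟩ : ∃ c s, Even c ∧ 0 < c ∧ (s = 1 ∨ s = 3) ∧ 2 * c + s = 2 * d + 1 := by
    rcases Nat.even_or_odd' d with ⟨r, rfl | rfl⟩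
    · exact ⟨2 * r, 1, even_two_mul r, by omega, Or.inl rfl, rfl⟩
    · exact ⟨2 * r, 3, even_two_mul r, by omega, Or.inr rfl, by omega⟩
  obtain ⟨x, hx, hxo, -, hxμ⟩ := H72.OrthTypeFix.exists_element hp Q hQ
    (μ := Multiset.replicate c 2 + {s})
    (fun a ha => by
      rcases Multiset.mem_add.1 ha with ha | ha
      · rw [Multiset.eq_of_mem_replicate ha]; omega
      · rw [Multiset.mem_singleton.1 ha]; omega)
    (fun a ha => by
      rw [Multiset.count_add, Multiset.count_replicate, Multiset.count_singleton,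
        if_neg (show ¬ a = s by rintro rfl; obtain ⟨u, hu⟩ := ha; omega), add_zero]
      split_ifs
      · exact hc
      · exact ⟨0, rfl⟩)
    (by simp; omega)
    ⟨s, by simp, by rcases hs with rfl | rfl <;> decide⟩
    ⟨2, Multiset.mem_add.2 (Or.inl (Multiset.mem_replicate.2 ⟨by omega, rfl⟩)), one_lt_two⟩
  refine ⟨x, hx, hxo, fun W hW hWe hWx => ?_⟩
  obtain ⟨h1, h2, h3, h4⟩ := H72.OrthTypeFix.subspace_type hp Q hQ hx (hxo ▸ pow_orderOf_eq_one x) hW hWx
  rw [hxμ] at h1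
  set ν := H99.blockParts (Matrix.toLin' (x : Matrix ι ι F) - 1) W p
  refine h4 fun a ha => ?_
  rcases Multiset.mem_add.1 (Multiset.mem_of_le h1 ha) with hh | hh
  · rw [Multiset.eq_of_mem_replicate hh]; exact even_two
  · rw [Multiset.mem_singleton.1 hh] at ha
    exfalso
    have hle : Multiset.filter (fun b => b ≠ 2) ν ≤ {s} := by
      refine (Multiset.filter_le_filter _ h1).trans ?_
      rw [Multiset.filter_add, Multiset.filter_eq_nil.2 (fun b hb => by simp [Multiset.eq_of_mem_replicate hb]),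
        zero_add]
      exact Multiset.filter_le _ _
    have hmem : s ∈ Multiset.filter (fun b => b ≠ 2) ν := Multiset.mem_filter.2 ⟨ha, by omega⟩
    have heq : Multiset.filter (fun b => b ≠ 2) ν = {s} :=
      le_antisymm hle (Multiset.singleton_le.2 hmem)
    have hsum' := congrArg Multiset.sum (Multiset.filter_add_not (fun b => b ≠ 2) ν)
    rw [Multiset.sum_add, heq, Multiset.sum_singleton, h2] at hsum'
    have h2' : Multiset.filter (fun b => ¬ b ≠ 2) ν = Multiset.replicate (ν.count 2) 2 := by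
      simpa using Multiset.filter_eq' ν 2
    rw [h2', Multiset.sum_replicate, smul_eq_mul] at hsum'
    obtain ⟨w, hw⟩ := hWe
    omega

end

theorem not_isSquare_iff_mul {F : Type*} [Field F] [Finite F] (h2 : (2 : F) ≠ 0) {s ν a : F} (hs : s ≠ 0)
    (hν : ¬ IsSquare ν) (ha : a ≠ 0) : ¬ (IsSquare (s ^ 2 * (ν * a)) ↔ IsSquare a) := by
  have hν0 : ν ≠ 0 := fun h => hν (h ▸ IsSquare.zero)
  rw [isSquare_mul_iff h2 (pow_ne_zero 2 hs) (mul_ne_zero hν0 ha), isSquare_mul_iff h2 hν0 ha]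
  have : IsSquare (s ^ 2) := IsSquare.sq s
  tauto

end Cfsg.Agent.H58.Elusive
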