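import Cfsg.Agent.H58.Elusive.Unip
import Cfsg.Agent.Symplectic.OrthTwoParity

/-!
Involutions of even rank in characteristic two and the nondegenerate subspaces they fix.
-/

set_option autoImplicit false
set_option linter.unusedSectionVars false
set_option linter.style.haveILetI false

namespace Cfsg.Agent.H58.Elusive

open Module QuadraticMap Orthogonal H53

variable {F V : Type*} [Field F] [Finite F] [AddCommGroup V] [Module F V] [FiniteDimensional F V]
variable {Q : QuadraticForm F V}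

/-- A nondegenerate invariant subspace. -/
def Piece (Q : QuadraticForm F V) (g : O Q) (X : Submodule F V) : Prop :=
  Nondeg (restr Q X) ∧ ∀ x ∈ X, (g : V ≃ₗ[F] V) x ∈ X

theorem neg_eq_of_two (h2 : (2 : F) = 0) (x : F) : -x = x := by
  linear_combination -(x : F) * h2

theorem Piece.even (h2 : (2 : F) = 0) {g : O Q} {X : Submodule F V} (hX : Piece Q g X) : Even (finrank F X) :=
  even_of_two_eq_zero hX.1 h2

theorem Piece.sup {g : O Q} {A B : Submodule F V} (hA : Piece Q g A) (hB : Piece Q g B)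
    (ho : ∀ x ∈ A, ∀ y ∈ B, polar Q x y = 0) :
    Piece Q g (A ⊔ B) ∧ finrank F (A ⊔ B : Submodule F V) = finrank F A + finrank F B := by
  refine ⟨⟨nondeg_sup hA.1 hB.1 ho, fun x hx => ?_⟩, ?_⟩
  · obtain ⟨a, ha, b, hb, rfl⟩ := Submodule.mem_sup.1 hx
    rw [map_add]
    exact Submodule.add_mem_sup (hA.2 a ha) (hB.2 b hb)
  · have := Submodule.finrank_sup_add_finrank_inf_eq A B
    rw [(disjoint_of_ortho hA.1 ho).eq_bot, finrank_bot] at this
    omega

theorem Piece.sg_sup (h2 : (2 : F) = 0) {g : O Q} {A B : Submodule F V} (hA : Piece Q g A) (hB : Piece Q g B)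
    (ho : ∀ x ∈ A, ∀ y ∈ B, polar Q x y = 0) :
    sg (restr Q (A ⊔ B)) = sg (restr Q A) * sg (restr Q B) :=
  Elusive.sg_sup hA.1 hB.1 ho (hA.even h2) (hB.even h2)

theorem Piece.compl (hQ : Nondeg Q) {g : O Q} {A X : Submodule F V} (hA : Piece Q g A) (hX : Piece Q g X)
    (hAX : A ≤ X) : Piece Q g (X ⊓ perp Q A) ∧ A ⊔ (X ⊓ perp Q A) = X ∧
      finrank F A + finrank F (X ⊓ perp Q A : Submodule F V) = finrank F X ∧
      ∀ x ∈ A, ∀ y ∈ X ⊓ perp Q A, polar Q x y = 0 := by
  obtain ⟨h1, h2, h3, h4⟩ := compl_in hQ hA.1 hX.1 hAX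
  exact ⟨⟨h1, fun x hx => ⟨hX.2 x hx.1, inv_perp g hA.2 x hx.2⟩⟩, h2, h3, h4⟩

/-- Identities for an involution in characteristic two. -/
structure IsInvol (Q : QuadraticForm F V) (g : O Q) : Prop where
  two : (2 : F) = 0
  sq : ∀ x, nOp g (nOp g x) = 0
  val : ∀ x, Q (nOp g x) = polar Q x (nOp g x)
  adj : ∀ x y, polar Q (nOp g x) y = polar Q x (nOp g y)

theorem isInvol (h2 : (2 : F) = 0) {g : O Q} (hg : g ^ 2 = 1) : IsInvol Q g := by
  have hgg : ∀ x, (g : V ≃ₗ[F] V) ((g : V ≃ₗ[F] V) x) = x := fun x => by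
    rw [← mul_app, ← Subgroup.coe_mul, ← pow_two, hg]; rfl
  have hsq : ∀ x, nOp g (nOp g x) = 0 := fun x => by
    rw [nOp_app, nOp_app, map_sub, hgg, show x - (g : V ≃ₗ[F] V) x - ((g : V ≃ₗ[F] V) x - x) =
      (2 : F) • (x - (g : V ≃ₗ[F] V) x) by rw [two_smul]; abel, h2, zero_smul]
  refine ⟨h2, hsq, fun x => ?_, fun x y => ?_⟩
  · have h := O.map_app g x
    rw [app_eq_add, map_add_polar] at h
    linear_combination h - polar Q x (nOp g x) * h2
  · have h := O.polar_app g x (nOp g y)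
    rw [app_eq_add g (nOp g y), hsq, add_zero, app_eq_add g x, polar_add_left] at h
    have h' := O.polar_app g x y
    rw [app_eq_add g x, app_eq_add g y, polar_add_left, polar_add_right, polar_add_right] at h'
    linear_combination h' - h - polar Q x (nOp g y) * h2

/-- The plane of a vector with nonsingular image. -/
theorem plane_piece {g : O Q} (hI : IsInvol Q g) {v : V} (hv : Q (nOp g v) ≠ 0) :
    Piece Q g (Submodule.span F {v, nOp g v}) ∧ finrank F (Submodule.span F {v, nOp g v}) = 2 ∧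
      (Submodule.span F {v, nOp g v}).map (nOp g) = Submodule.span F {nOp g v} := by
  have hB : polar Q v (nOp g v) ≠ 0 := hI.val v ▸ hv
  have hn : Nondeg (restr Q (Submodule.span F {v, nOp g v})) := by
    rw [nondeg_restr_iff, eq_bot_iff]
    rintro x ⟨hx, hxp⟩
    obtain ⟨s, t, rfl⟩ := Submodule.mem_span_pair.1 hx
    have h1 := hxp v (Submodule.subset_span (Set.mem_insert _ _))
    have h3 := hxp (nOp g v) (Submodule.subset_span (Set.mem_insert_of_mem _ rfl))
    rw [polar_add_right, polar_smul_right', polar_smul_right', polar_self', hI.two, zero_mul, mul_zero,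
      zero_add] at h1
    rw [polar_add_right, polar_smul_right', polar_smul_right', polar_self', hI.two, zero_mul, mul_zero,
      add_zero, polar_comm (⇑Q) (nOp g v) v] at h3
    simp [(mul_eq_zero.1 h1).resolve_right hB, (mul_eq_zero.1 h3).resolve_right hB]
  refine ⟨⟨hn, fun x hx => ?_⟩, ?_, ?_⟩
  · obtain ⟨s, t, rfl⟩ := Submodule.mem_span_pair.1 hx
    rw [app_eq_add, map_add (nOp g), map_smul, map_smul, hI.sq, smul_zero, add_zero]
    exact Submodule.add_mem _ hx (Submodule.smul_mem _ _ (Submodule.subset_span (Set.mem_insert_of_mem _ rfl)))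
  · have he := even_of_two_eq_zero hn hI.two
    have hle : finrank F (Submodule.span F {v, nOp g v}) ≤ 2 := by
      have h := Submodule.finrank_add_le_finrank_add_finrank (Submodule.span F {v}) (Submodule.span F {nOp g v})
      rw [← Submodule.span_insert] at h
      have := finrank_span_le_card (R := F) ({v} : Set V)
      have := finrank_span_le_card (R := F) ({nOp g v} : Set V)
      simp only [Set.toFinset_singleton, Finset.card_singleton] at *
      omega
    have hne : finrank F (Submodule.span F {v, nOp g v}) ≠ 0 := fun h0 => by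
      have hm : nOp g v ∈ Submodule.span F {v, nOp g v} := Submodule.subset_span (Set.mem_insert_of_mem _ rfl)
      rw [Submodule.finrank_eq_zero.1 h0, Submodule.mem_bot] at hm
      exact hv (by rw [hm, QuadraticMap.map_zero])
    obtain ⟨k, hk⟩ := he
    omega
  · rw [Submodule.map_span, Set.image_pair, hI.sq]
    rw [Set.pair_comm, Submodule.span_insert_zero]

/-- Every value is a square. -/
theorem exists_sq (h2 : (2 : F) = 0) (a : F) : ∃ t, t ^ 2 = a := by
  haveI := Fintype.ofFinite F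
  haveI : CharP F 2 := CharTwo.of_one_ne_zero_of_two_eq_zero one_ne_zero h2
  obtain ⟨t, ht⟩ := FiniteField.isSquare_of_char_two (ringChar.eq F 2) a
  exact ⟨t, by rw [ht, pow_two]⟩

theorem exists_no_root (h2 : (2 : F) = 0) : ∃ a : F, ∀ z : F, z ^ 2 + z ≠ a := by
  by_contra hall
  push Not at hall
  have hinj := Finite.injective_iff_surjective.2 (show Function.Surjective fun z : F => z ^ 2 + z from hall)
  exact zero_ne_one (hinj (show (0 : F) ^ 2 + 0 = 1 ^ 2 + 1 by linear_combination -h2))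

/-- Inside two orthogonal planes both types of invariant planes occur. -/
theorem plane_any {g : O Q} (hI : IsInvol Q g) {v v₂ : V} (hv : Q (nOp g v) ≠ 0) (hv₂ : Q (nOp g v₂) ≠ 0)
    (ho : polar Q v (nOp g v₂) = 0) {Y : Submodule F V} (hY : Piece Q g Y) (hvY : v ∈ Y) (hv₂Y : v₂ ∈ Y)
    {ε : ℤ} (hε : ε = 1 ∨ ε = -1) :
    ∃ P ≤ Y, Piece Q g P ∧ finrank F P = 2 ∧ sg (restr Q P) = ε := by
  obtain ⟨a, ha⟩ := exists_no_root hI.two
  set β := Q (nOp g v)
  obtain ⟨s, hs⟩ : ∃ s, (ε = 1 → s = 0) ∧ (ε = -1 → s = a * β) := by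
    rcases hε with rfl | rfl
    · exact ⟨0, fun _ => rfl, fun h => absurd h (by norm_num)⟩
    · exact ⟨a * β, fun h => absurd h (by norm_num), fun _ => rfl⟩
  obtain ⟨t, ht⟩ := exists_sq hI.two ((s - Q v) / Q (nOp g v₂))
  set v' := v + t • nOp g v₂ with hv'
  have hN : nOp g v' = nOp g v := by rw [hv', map_add, map_smul, hI.sq, smul_zero, add_zero]
  have hQv : Q v' = s := by
    rw [hv', map_add_polar, qmap_smul, polar_smul_right', ho, mul_zero, add_zero, ht, div_mul_cancel₀ _ hv₂]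
    ring
  obtain ⟨hP, hPd, -⟩ := plane_piece hI (v := v') (by rw [hN]; exact hv)
  have hPY : Submodule.span F {v', nOp g v'} ≤ Y := by
    have hm : v' ∈ Y := Y.add_mem hvY (Y.smul_mem _ (nOp_mem hY.2 hv₂Y))
    rw [Submodule.span_le]
    rintro x (rfl | rfl)
    · exact hm
    · exact nOp_mem hY.2 hm
  refine ⟨_, hPY, hP, hPd, ?_⟩
  rcases hε with rfl | rfl
  · have hv0 : v' ≠ 0 := fun h => hv (show Q (nOp g v) = 0 by rw [← hN, h, map_zero, QuadraticMap.map_zero])
    refine (sg_restr_eq_one_iff hP.1 (a := 1) hPd).2 ⟨Submodule.span F {v'}, ?_, ?_, finrank_span_singleton hv0⟩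
    · exact (Submodule.span_singleton_le_iff_mem _ _).2 (Submodule.subset_span (Set.mem_insert _ _))
    · intro x hx
      obtain ⟨c, rfl⟩ := Submodule.mem_span_singleton.1 hx
      rw [qmap_smul, hQv, hs.1 rfl, mul_zero]
  · refine (sg_or _).resolve_left fun h1 => ?_
    obtain ⟨U, hU, hUQ, hUd⟩ := (sg_restr_eq_one_iff hP.1 (a := 1) hPd).1 h1
    obtain ⟨x, hx, hx0⟩ := Submodule.exists_mem_ne_zero_of_ne_bot
      (p := U) (fun hb => by rw [hb, finrank_bot] at hUd; omega)
    obtain ⟨c, d, rfl⟩ := Submodule.mem_span_pair.1 (hU hx)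
    have h := hUQ _ hx
    rw [map_add_polar, qmap_smul, qmap_smul, polar_smul_left', polar_smul_right', ← hI.val v', hQv, hN,
      hs.2 rfl] at h
    have hβ : β ≠ 0 := hv
    by_cases hc : c = 0
    · subst hc
      have hd : d ^ 2 * β = 0 := by linear_combination h
      rw [(pow_eq_zero_iff two_ne_zero).1 ((mul_eq_zero.1 hd).resolve_right hβ)] at hx0
      simp at hx0
    · refine ha (d / c) ?_
      have hd : a * c ^ 2 + d ^ 2 + c * d = 0 := by
        refine (mul_eq_zero.1 (?_ : β * _ = 0)).resolve_left hβ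
        linear_combination h
      field_simp
      linear_combination hd - a * c ^ 2 * hI.two

/-- The first summand of an invariant subspace on which the involution is nontrivial. -/
theorem quad_piece {g : O Q} (hI : IsInvol Q g) {X : Submodule F V} (hX : Piece Q g X)
    (hQN : ∀ x ∈ X, Q (nOp g x) = 0) {v : V} (hv : v ∈ X) (hv0 : nOp g v ≠ 0) :
    ∃ P ≤ X, Piece Q g P ∧ finrank F P = 4 ∧ sg (restr Q P) = 1 := by
  have h2 := hI.two
  obtain ⟨⟨w', hw'⟩, hne⟩ := hX.1.exists_polar_ne (x := ⟨nOp g v, nOp_mem hX.2 hv⟩)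
    (fun h => hv0 (congrArg Subtype.val h))
  rw [polar_restr] at hne
  set w := (polar Q (nOp g v) w')⁻¹ • w'
  have hw : w ∈ X := X.smul_mem _ hw'
  have h1 : polar Q (nOp g v) w = 1 := by
    show polar Q (nOp g v) ((polar Q (nOp g v) w')⁻¹ • w') = 1
    rw [polar_smul_right', inv_mul_cancel₀ hne]
  have h1' : polar Q v (nOp g w) = 1 := by rw [← hI.adj]; exact h1
  have hvv : polar Q v (nOp g v) = 0 := by rw [← hI.val]; exact hQN v hv
  have hww : polar Q w (nOp g w) = 0 := by rw [← hI.val]; exact hQN w hw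
  have hNN : ∀ x y, polar Q (nOp g x) (nOp g y) = 0 := fun x y => by rw [hI.adj, hI.sq, polar_zero_right]
  set vec : Fin 4 → V := ![v, nOp g v, w, nOp g w] with hvec
  set P := Submodule.span F (Set.range vec) with hP
  have hmem : ∀ i, vec i ∈ P := fun i => Submodule.subset_span ⟨i, rfl⟩
  have hPX : P ≤ X := by
    rw [hP, Submodule.span_le]
    rintro - ⟨i, rfl⟩
    fin_cases i
    · exact hv
    · exact nOp_mem hX.2 hv
    · exact hw
    · exact nOp_mem hX.2 hw
  have hPn : Nondeg (restr Q P) := by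
    rw [nondeg_restr_iff, eq_bot_iff]
    rintro x ⟨hx, hxp⟩
    obtain ⟨c, rfl⟩ := (Submodule.mem_span_range_iff_exists_fun F).1 hx
    have e0 := hxp _ (hmem 0)
    have e1 := hxp _ (hmem 1)
    have e2 := hxp _ (hmem 2)
    have e3 := hxp _ (hmem 3)
    simp only [hvec, Fin.sum_univ_four, Matrix.cons_val, polar_add_right, polar_smul_right', polar_self', h2,
      zero_mul, mul_zero, zero_add, add_zero, hNN, hvv, hww, h1, h1', polar_comm (⇑Q) (nOp g v) v,
      polar_comm (⇑Q) (nOp g w) w, polar_comm (⇑Q) (nOp g w) v, polar_comm (⇑Q) w (nOp g v),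
      polar_comm (⇑Q) w v, mul_one] at e0 e1 e2 e3
    rw [e1, zero_mul, zero_add] at e0
    rw [e3, zero_mul, zero_add] at e2
    simp [Fin.sum_univ_four, hvec, e0, e1, e2, e3]
  have hinv : ∀ x ∈ P, (g : V ≃ₗ[F] V) x ∈ P := by
    intro x hx
    rw [app_eq_add]
    refine P.add_mem hx ?_
    obtain ⟨c, rfl⟩ := (Submodule.mem_span_range_iff_exists_fun F).1 hx
    simp only [hvec, Fin.sum_univ_four, Matrix.cons_val, map_add, map_smul, hI.sq, smul_zero, add_zero]
    exact P.add_mem (P.smul_mem _ (hmem 1)) (P.smul_mem _ (hmem 3))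
  have hli : LinearIndependent F ![nOp g v, nOp g w] := by
    refine LinearIndependent.pair_iff.2 fun s t hst => ?_
    have ea := congrArg (fun x => polar Q w x) hst
    have eb := congrArg (fun x => polar Q v x) hst
    simp only [polar_add_right, polar_smul_right', hvv, hww, h1', polar_comm (⇑Q) w (nOp g v), h1, mul_zero,
      mul_one, zero_add, add_zero, polar_zero_right] at ea eb
    exact ⟨ea, eb⟩
  have hUd : finrank F (Submodule.span F (Set.range ![nOp g v, nOp g w])) = 2 := by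
    rw [finrank_span_eq_card hli]; rfl
  have hUP : Submodule.span F (Set.range ![nOp g v, nOp g w]) ≤ P := by
    rw [Submodule.span_le]
    rintro - ⟨i, rfl⟩
    fin_cases i
    · exact hmem 1
    · exact hmem 3
  have hUQ : ∀ x ∈ Submodule.span F (Set.range ![nOp g v, nOp g w]), Q x = 0 := by
    intro x hx
    obtain ⟨c, rfl⟩ := (Submodule.mem_span_range_iff_exists_fun F).1 hx
    simp [Fin.sum_univ_two, map_add_polar, qmap_smul, hQN v hv, hQN w hw, hNN]
  have hd : finrank F P = 4 := by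
    have hle : finrank F P ≤ 4 := (finrank_range_le_card (R := F) vec).trans (by simp)
    have hts : TotSing (restr Q P) ((Submodule.span F (Set.range ![nOp g v, nOp g w])).comap P.subtype) :=
      fun y hy => hUQ _ hy
    have := hts.two_mul_finrank_le hPn
    rw [(Submodule.comapSubtypeEquivOfLe hUP).finrank_eq, hUd] at this
    omega
  exact ⟨P, hPX, ⟨hPn, hinv⟩, hd, (sg_restr_eq_one_iff hPn (a := 2) hd).2 ⟨_, hUP, hUQ, hUd⟩⟩

/-- Invariant plus subspaces of all dimensions divisible by four. -/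
def Quads (Q : QuadraticForm F V) (g : O Q) (X : Submodule F V) : Prop :=
  ∃ h, finrank F X = 4 * h ∧ sg (restr Q X) = 1 ∧
    ∀ a ≤ h, ∃ Z ≤ X, Piece Q g Z ∧ finrank F Z = 4 * a ∧ sg (restr Q Z) = 1

theorem quads_bot (g : O Q) : Quads Q g ⊥ :=
  ⟨0, by rw [finrank_bot], sg_of_zero nondeg_bot (finrank_bot F V), fun a ha =>
    ⟨⊥, le_rfl, ⟨nondeg_bot, fun x hx => by rw [Submodule.mem_bot] at hx; simp [hx]⟩,
      by rw [finrank_bot]; omega, sg_of_zero nondeg_bot (finrank_bot F V)⟩⟩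

theorem quads_sup (h2 : (2 : F) = 0) {g : O Q} {P H : Submodule F V} (hP : Piece Q g P) (hH : Piece Q g H)
    (ho : ∀ x ∈ P, ∀ y ∈ H, polar Q x y = 0) (hd : finrank F P = 4) (hs : sg (restr Q P) = 1)
    (hq : Quads Q g H) : Quads Q g (P ⊔ H) := by
  obtain ⟨h, hh, hhs, hall⟩ := hq
  obtain ⟨hp, hdim⟩ := hP.sup hH ho
  refine ⟨h + 1, by omega, by rw [hP.sg_sup h2 hH ho, hs, hhs, mul_one], fun a ha => ?_⟩
  rcases eq_or_lt_of_le ha with rfl | hlt
  · exact ⟨_, le_rfl, hp, by omega, by rw [hP.sg_sup h2 hH ho, hs, hhs, mul_one]⟩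
  · obtain ⟨Z, hZ, r⟩ := hall a (by omega)
    exact ⟨Z, hZ.trans le_sup_right, r⟩

/-- Totally singular image: quads and a fixed part. -/
theorem quads_fixed (hQ : Nondeg Q) {g : O Q} (hI : IsInvol Q g) : ∀ n, ∀ X : Submodule F V,
    finrank F X = n → Piece Q g X → (∀ x ∈ X, Q (nOp g x) = 0) →
      ∃ H C, H ≤ X ∧ C ≤ X ∧ Piece Q g H ∧ Piece Q g C ∧ H ⊔ C = X ∧
        (∀ x ∈ H, ∀ y ∈ C, polar Q x y = 0) ∧ (∀ x ∈ C, nOp g x = 0) ∧ Quads Q g H := by
  intro n
  induction n using Nat.strong_induction_on with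
  | _ n ih =>
    intro X hn hX hQN
    by_cases h0 : ∀ x ∈ X, nOp g x = 0
    · refine ⟨⊥, X, bot_le, le_rfl, ⟨nondeg_bot, fun x hx => ?_⟩, hX, bot_sup_eq X, ?_, h0, quads_bot g⟩
      · rw [Submodule.mem_bot] at hx; simp [hx]
      · intro x hx y _; rw [(Submodule.mem_bot F).1 hx, polar_zero_left]
    push Not at h0
    obtain ⟨v, hv, hv0⟩ := h0
    obtain ⟨P, hPX, hP, hPd, hPs⟩ := quad_piece hI hX hQN hv hv0
    obtain ⟨hR, hsup, hd, ho⟩ := hP.compl hQ hX hPX
    obtain ⟨H, C, hHR, hCR, hH, hC, hHC, hoHC, hfix, hq⟩ :=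
      ih _ (by omega) _ rfl hR fun x hx => hQN x hx.1
    have hoPH : ∀ x ∈ P, ∀ y ∈ H, polar Q x y = 0 := fun x hx y hy => ho x hx y (hHR hy)
    refine ⟨P ⊔ H, C, sup_le hPX (hHR.trans inf_le_left), hCR.trans inf_le_left, (hP.sup hH hoPH).1, hC,
      by rw [sup_assoc, hHC, hsup], ?_, hfix, quads_sup hI.two hP hH hoPH hPd hPs hq⟩
    intro x hx y hy
    obtain ⟨a, ha, b, hb, rfl⟩ := Submodule.mem_sup.1 hx
    rw [polar_add_left, ho a ha y (hCR hy), hoHC b hb y hy, add_zero]

/-- Invariant subspaces of every even dimension, unless there are only quads. -/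
theorem all_dims (hQ : Nondeg Q) {g : O Q} (hI : IsInvol Q g) : ∀ n, ∀ X : Submodule F V,
    finrank F X = n → Piece Q g X →
      (∀ j, Even j → j ≤ n → ∃ Z ≤ X, Piece Q g Z ∧ finrank F Z = j) ∨ Quads Q g X := by
  intro n
  induction n using Nat.strong_induction_on with
  | _ n ih =>
    intro X hn hX
    by_cases h0 : ∀ x ∈ X, nOp g x = 0
    · refine Or.inl fun j ⟨a, ha⟩ hj => ?_
      rcases eq_or_lt_of_le hj with rfl | hlt
      · exact ⟨X, le_rfl, hX, hn⟩
      obtain ⟨Z, hZX, hZn, hZd, -⟩ := exists_sub_sg hX.1 (a := a) (ε := 1) (Or.inl rfl) (fun _ => rfl)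
        (Or.inl (by omega))
      exact ⟨Z, hZX, ⟨hZn, fun x hx => by rwa [app_eq_add, h0 x (hZX hx), add_zero]⟩, by omega⟩
    push Not at h0
    obtain ⟨v, hv, hv0⟩ := h0
    by_cases hQN : ∀ x ∈ X, Q (nOp g x) = 0
    · obtain ⟨P, hPX, hP, hPd, hPs⟩ := quad_piece hI hX hQN hv hv0
      obtain ⟨hR, hsup, hd, ho⟩ := hP.compl hQ hX hPX
      set R := X ⊓ perp Q P with hRdef
      have hquad : Quads Q g R → Quads Q g X := fun hq => hsup ▸ quads_sup hI.two hP hR ho hPd hPs hq
      rcases ih _ (by omega) R rfl hR with hall | hq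
      swap
      · exact Or.inr (hquad hq)
      by_cases hR0 : finrank F R = 0
      · refine Or.inr (hquad ?_)
        rw [Submodule.finrank_eq_zero.1 hR0]
        exact quads_bot g
      refine Or.inl fun j hj hjn => ?_
      obtain ⟨k, hk⟩ := hR.even hI.two
      obtain ⟨i, hi⟩ := hj
      rcases le_or_gt j (finrank F R) with hle | hgt
      · obtain ⟨Z, hZ, r⟩ := hall j ⟨i, hi⟩ hle
        exact ⟨Z, hZ.trans inf_le_left, r⟩
      · obtain ⟨Z, hZ, hZp, hZd⟩ := hall (j - 4) ⟨i - 2, by omega⟩ (by omega)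
        obtain ⟨hp, hdim⟩ := hP.sup hZp fun x hx y hy => ho x hx y (hZ hy)
        exact ⟨_, sup_le hPX (hZ.trans inf_le_left), hp, by omega⟩
    push Not at hQN
    obtain ⟨u, hu, huQ⟩ := hQN
    obtain ⟨hP, hPd, -⟩ := plane_piece hI huQ
    set P := Submodule.span F {u, nOp g u}
    have hPX : P ≤ X := by
      rw [Submodule.span_le]
      rintro x (rfl | rfl)
      · exact hu
      · exact nOp_mem hX.2 hu
    obtain ⟨hR, hsup, hd, ho⟩ := hP.compl hQ hX hPX
    set R := X ⊓ perp Q P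
    refine Or.inl fun j hj hjn => ?_
    obtain ⟨i, hi⟩ := hj
    rcases ih _ (by omega) R rfl hR with hall | ⟨h, hh, -, hall⟩
    · rcases le_or_gt j (finrank F R) with hle | hgt
      · obtain ⟨Z, hZ, r⟩ := hall j ⟨i, hi⟩ hle
        exact ⟨Z, hZ.trans inf_le_left, r⟩
      · exact ⟨X, le_rfl, hX, by obtain ⟨k, hk⟩ := hR.even hI.two; omega⟩
    · obtain ⟨Z, hZ, hZp, hZd, -⟩ := hall (j / 4) (by omega)
      rcases Nat.even_or_odd' i with ⟨k, hk | hk⟩
      · exact ⟨Z, hZ.trans inf_le_left, hZp, by omega⟩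
      · obtain ⟨hp, hdim⟩ := hP.sup hZp fun x hx y hy => ho x hx y (hZ hy)
        exact ⟨_, sup_le hPX (hZ.trans inf_le_left), hp, by omega⟩

/-- Involutions of the commutator subgroup fix members of the orbit with the sign of the form. -/
theorem invol_fixes_two (hQ : Nondeg Q) (h2 : (2 : F) = 0) {W₀ : Submodule F V} (hW₀ : Nondeg (restr Q W₀))
    (hn : 5 ≤ finrank F V) (hm : 2 ≤ finrank F W₀) (hmn : finrank F W₀ + 2 ≤ finrank F V)
    (hs : sg (restr Q W₀) = sg Q)
    (hc1 : finrank F W₀ % 4 = 2 → finrank F V % 4 = 2 ∨ sg Q = -1)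
    (hc2 : finrank F W₀ % 4 = 0 → finrank F V % 4 = 0 ∨ sg Q = 1)
    (g : O Q) (hgc : g ∈ commutator (O Q)) (hg : g ^ 2 = 1) : Fixes Q W₀ g := by
  have hI := isInvol h2 hg
  obtain ⟨μ, hμ⟩ := even_of_two_eq_zero hW₀ h2
  obtain ⟨d, hd⟩ := even_of_two_eq_zero hQ h2
  have finish : ∀ Z : Submodule F V, Piece Q g Z → finrank F Z = finrank F W₀ → sg (restr Q Z) = sg Q →
      Fixes Q W₀ g := fun Z hZ hZd hZs =>
    ⟨Z, isoOn_of_sg hZ.1 hW₀ hZd (hZ.even h2) (hZs.trans hs.symm), hZ.2⟩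
  have hT : Piece Q g (⊤ : Submodule F V) := ⟨nondeg_restr_top hQ, fun x _ => trivial⟩
  have hTs : sg (restr Q (⊤ : Submodule F V)) = sg Q := sg_congr Submodule.topEquiv fun x => rfl
  have hTd : finrank F (⊤ : Submodule F V) = finrank F V := finrank_top F V
  by_cases hQN : ∀ x, Q (nOp g x) = 0
  · obtain ⟨H, C, -, -, hH, hC, hsup, ho, hfix, h, hh, hHs, hall⟩ :=
      quads_fixed hQ hI _ ⊤ rfl hT fun x _ => hQN x
    have hdim : finrank F H + finrank F C = finrank F V := by
      rw [← hTd, ← hsup, (hH.sup hC ho).2]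
    have hCs : sg (restr Q C) = sg Q := by
      rw [← hTs, ← hsup, hH.sg_sup h2 hC ho, hHs, one_mul]
    have hC0 : sg Q = -1 → 0 < finrank F C := fun h => Nat.pos_of_ne_zero fun h0 => by
      rw [sg_of_zero hC.1 h0, h] at hCs; norm_num at hCs
    obtain ⟨cc', hcc⟩ := hC.even h2
    have key : ∀ a c, a ≤ h → 4 * a + 2 * c = finrank F W₀ → 2 * c ≤ finrank F C → (c = 0 → sg Q = 1) →
        Fixes Q W₀ g := by
      intro a c ha hac hc hc0
      obtain ⟨A, hAH, hA, hAd, hAs⟩ := hall a ha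
      obtain ⟨B, hBC, hBn, hBd, hBs⟩ := exists_sub_sg hC.1 (a := c) (ε := sg Q) (sg_or Q) hc0
        ((lt_or_eq_of_le hc).imp id fun h => ⟨h, hCs⟩)
      have hB : Piece Q g B := ⟨hBn, fun x hx => by rwa [app_eq_add, hfix x (hBC hx), add_zero]⟩
      have ho' : ∀ x ∈ A, ∀ y ∈ B, polar Q x y = 0 := fun x hx y hy => ho x (hAH hx) y (hBC hy)
      obtain ⟨hp, hpd⟩ := hA.sup hB ho'
      exact finish _ hp (by omega) (by rw [hA.sg_sup h2 hB ho', hAs, hBs, one_mul])
    rcases (show finrank F W₀ % 4 = 0 ∨ finrank F W₀ % 4 = 2 by omega) with h4 | h4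
    · rcases sg_or Q with hs1 | hs1
      · exact key (min h (finrank F W₀ / 4)) (μ - 2 * min h (finrank F W₀ / 4)) (min_le_left _ _) (by omega)
          (by omega) fun _ => hs1
      · have hd4 := (hc2 h4).resolve_right (by rw [hs1]; norm_num)
        have := hC0 hs1
        exact key (min h ((finrank F W₀ - 4) / 4)) (μ - 2 * min h ((finrank F W₀ - 4) / 4)) (min_le_left _ _)
          (by omega) (by omega) fun h0 => absurd h0 (by omega)
    · have hpos : 2 ≤ finrank F C := by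
        rcases hc1 h4 with hc | hc
        · omega
        · have := hC0 hc; omega
      exact key (min h ((finrank F W₀ - 2) / 4)) (μ - 2 * min h ((finrank F W₀ - 2) / 4)) (min_le_left _ _)
        (by omega) (by omega) fun h0 => absurd h0 (by omega)
  push Not at hQN
  obtain ⟨v, hv⟩ := hQN
  obtain ⟨hP, hPd, hPN⟩ := plane_piece hI hv
  set P := Submodule.span F {v, nOp g v} with hPdef
  -- the image has even dimension, so there is a second plane
  have heven : Even (finrank F (LinearMap.range (nOp g))) := by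
    have hgen : reflGroup Q = ⊤ := reflGroup_eq_top hQ (Or.inr (by omega))
    have h := (Symplectic.OrthTwo.mem_commutator_iff_even hQ hgen h2 ⟨d, hd⟩ g).1 hgc
    have hk : LinearMap.ker (nOp g) = fixSpace g := by
      ext x; rw [LinearMap.mem_ker, mem_fixSpace, nOp_app, sub_eq_zero]
    have := LinearMap.finrank_range_add_finrank_ker (nOp g)
    rw [hk] at this
    obtain ⟨k, hk'⟩ := h
    exact ⟨d - k, by omega⟩
  obtain ⟨v₂, hv₂P, hv₂⟩ : ∃ v₂ ∈ perp Q P, Q (nOp g v₂) ≠ 0 := by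
    by_contra hall
    push Not at hall
    obtain ⟨r, hr, hre, -⟩ := two_step g (hQ.nondeg_perp hP.1) (inv_perp g hP.2) (fun x _ => hI.sq x) hall
    have hsplit := range_split hQ g hP.1 hP.2
    have hv0 : nOp g v ≠ 0 := fun h0 => hv (by rw [h0, QuadraticMap.map_zero])
    rw [hPN, finrank_span_singleton hv0, hr] at hsplit
    obtain ⟨a, ha⟩ := hre
    obtain ⟨b, hb⟩ := heven
    omega
  obtain ⟨hP₂, hP₂d, -⟩ := plane_piece hI hv₂
  set P₂ := Submodule.span F {v₂, nOp g v₂} with hP₂def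
  have hv₂' : nOp g v₂ ∈ perp Q P := nOp_mem (inv_perp g hP.2) hv₂P
  have ho₂ : ∀ x ∈ P, ∀ y ∈ P₂, polar Q x y = 0 := by
    have hle : P₂ ≤ perp Q P := by
      rw [Submodule.span_le]
      rintro x (rfl | rfl) <;> assumption
    exact fun x hx y hy => hle hy x hx
  obtain ⟨hY, hYd⟩ := hP.sup hP₂ ho₂
  set Y := P ⊔ P₂
  have hvY : v ∈ Y := Submodule.mem_sup_left (Submodule.subset_span (Set.mem_insert _ _))
  have hv₂Y : v₂ ∈ Y := Submodule.mem_sup_right (Submodule.subset_span (Set.mem_insert _ _))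
  have hov : polar Q v (nOp g v₂) = 0 := hv₂' v (Submodule.subset_span (Set.mem_insert _ _))
  obtain ⟨hR, hsup, hRd, ho⟩ := hY.compl hQ hT le_top
  set R := ⊤ ⊓ perp Q Y
  rcases all_dims hQ hI _ R rfl hR with hall | ⟨h, hh, hhs, hall⟩
  · obtain ⟨Z, hZ, hZp, hZd⟩ := hall (finrank F W₀ - 2) ⟨μ - 1, by omega⟩ (by omega)
    obtain ⟨P', hP'Y, hP', hP'd, hP's⟩ := plane_any hI hv hv₂ hov hY hvY hv₂Y (ε := sg Q * sg (restr Q Z))
      (by rcases sg_or Q with h | h <;> rcases sg_or (restr Q Z) with h' | h' <;> rw [h, h'] <;> norm_num)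
    have ho' : ∀ x ∈ P', ∀ y ∈ Z, polar Q x y = 0 := fun x hx y hy => ho x (hP'Y hx) y (hZ hy)
    obtain ⟨hp, hpd⟩ := hP'.sup hZp ho'
    exact finish _ hp (by omega) (by rw [hP'.sg_sup h2 hZp ho', hP's, mul_assoc, sg_mul_self, mul_one])
  · have hYs : sg (restr Q Y) = sg Q := by rw [← hTs, ← hsup, hY.sg_sup h2 hR ho, hhs, mul_one]
    rcases (show finrank F W₀ % 4 = 0 ∨ finrank F W₀ % 4 = 2 by omega) with h4 | h4
    · obtain ⟨Z, hZ, hZp, hZd, hZs⟩ := hall (finrank F W₀ / 4 - 1) (by omega)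
      have ho' : ∀ x ∈ Y, ∀ y ∈ Z, polar Q x y = 0 := fun x hx y hy => ho x hx y (hZ hy)
      obtain ⟨hp, hpd⟩ := hY.sup hZp ho'
      exact finish _ hp (by omega) (by rw [hY.sg_sup h2 hZp ho', hZs, mul_one, hYs])
    · obtain ⟨Z, hZ, hZp, hZd, hZs⟩ := hall (finrank F W₀ / 4) (by omega)
      obtain ⟨P', hP'Y, hP', hP'd, hP's⟩ := plane_any hI hv hv₂ hov hY hvY hv₂Y (ε := sg Q) (sg_or Q)
      have ho' : ∀ x ∈ P', ∀ y ∈ Z, polar Q x y = 0 := fun x hx y hy => ho x (hP'Y hx) y (hZ hy)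
      obtain ⟨hp, hpd⟩ := hP'.sup hZp ho'
      exact finish _ hp (by omega) (by rw [hP'.sg_sup h2 hZp ho', hP's, hZs, mul_one])

end Cfsg.Agent.H58.Elusive
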