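import Cfsg.Agent.H58.Elusive.Pieces

/-!
Isometries of order `r` with a prescribed fixed space, and the fixed space of an `r`-subgroup.
-/

set_option autoImplicit false
set_option linter.unusedSectionVars false
set_option linter.style.haveILetI false

namespace Cfsg.Agent.H58.Elusive

open Module QuadraticMap Orthogonal H68.EvenOrtho H53

variable {F V : Type*} [Field F] [Finite F] [AddCommGroup V] [Module F V] [FiniteDimensional F V]
variable {Q : QuadraticForm F V} {r : ℕ} [Fact r.Prime]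

local notation "qF" => Nat.card F

theorem ee_ne_zero (q : ℕ) : ee q r ≠ 0 := by
  rcases ee_or (r := r) q with h | h <;> rw [h] <;> decide

theorem nondeg_bot' (Q : QuadraticForm F V) : Nondeg (restr Q (⊥ : Submodule F V)) := nondeg_bot

/-- The sum of orthogonal nondegenerate subspaces. -/
theorem nondeg_sup {A B : Submodule F V} (hA : Nondeg (restr Q A)) (hB : Nondeg (restr Q B))
    (ho : ∀ x ∈ A, ∀ y ∈ B, polar Q x y = 0) : Nondeg (restr Q (A ⊔ B)) := by
  rw [nondeg_restr_iff, eq_bot_iff]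
  rintro x ⟨hx, hxp⟩
  obtain ⟨a, ha, b, hb, rfl⟩ := Submodule.mem_sup.1 hx
  have ha' : a ∈ A ⊓ perp Q A := ⟨ha, fun z hz => by
    have h := hxp z (Submodule.mem_sup_left hz)
    rwa [polar_add_right, ho z hz b hb, add_zero] at h⟩
  rw [(nondeg_restr_iff A).1 hA, Submodule.mem_bot] at ha'
  rw [ha', zero_add] at hxp ⊢
  have hb' : b ∈ B ⊓ perp Q B := ⟨hb, perp_anti Q le_sup_right hxp⟩
  rwa [(nondeg_restr_iff B).1 hB] at hb'

theorem disjoint_of_ortho {A B : Submodule F V} (hA : Nondeg (restr Q A))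
    (ho : ∀ x ∈ A, ∀ y ∈ B, polar Q x y = 0) : Disjoint A B := by
  rw [disjoint_iff, eq_bot_iff]
  rintro x ⟨hx, hxB⟩
  have : x ∈ A ⊓ perp Q A := ⟨hx, fun z hz => ho z hz x hxB⟩
  rwa [(nondeg_restr_iff A).1 hA] at this

/-- The sum of orthogonal subspaces, as a subspace of the sum. -/
theorem sg_sup {A B : Submodule F V} (hA : Nondeg (restr Q A)) (hB : Nondeg (restr Q B))
    (ho : ∀ x ∈ A, ∀ y ∈ B, polar Q x y = 0) (hAe : Even (finrank F A)) (hBe : Even (finrank F B)) :
    sg (restr Q (A ⊔ B)) = sg (restr Q A) * sg (restr Q B) := by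
  set A' : Submodule F (A ⊔ B : Submodule F V) := A.comap (A ⊔ B).subtype
  set B' : Submodule F (A ⊔ B : Submodule F V) := B.comap (A ⊔ B).subtype
  let eA : A' ≃ₗ[F] A := Submodule.comapSubtypeEquivOfLe le_sup_left
  let eB : B' ≃ₗ[F] B := Submodule.comapSubtypeEquivOfLe le_sup_right
  have hc : IsCompl A' B' := by
    constructor
    · rw [disjoint_iff, eq_bot_iff]
      rintro ⟨x, hx⟩ ⟨h1, h2⟩
      exact (Submodule.mem_bot F).2 (Subtype.ext (Submodule.disjoint_def.1 (disjoint_of_ortho hA ho) x h1 h2))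
    · rw [codisjoint_iff, eq_top_iff]
      rintro ⟨x, hx⟩ -
      obtain ⟨a, ha, b, hb, rfl⟩ := Submodule.mem_sup.1 hx
      exact Submodule.mem_sup.2 ⟨⟨a, Submodule.mem_sup_left ha⟩, ha, ⟨b, Submodule.mem_sup_right hb⟩, hb, rfl⟩
  have hnA : Nondeg (restr (restr Q (A ⊔ B)) A') := fun x hx => eA.injective (by
    rw [map_zero]
    refine hA _ fun y => ?_
    obtain ⟨y, rfl⟩ := eA.surjective y
    have := hx y
    rw [polar_restr] at this ⊢
    rw [polar_restr] at this
    exact this)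
  have hnB : Nondeg (restr (restr Q (A ⊔ B)) B') := fun x hx => eB.injective (by
    rw [map_zero]
    refine hB _ fun y => ?_
    obtain ⟨y, rfl⟩ := eB.surjective y
    have := hx y
    rw [polar_restr] at this ⊢
    rw [polar_restr] at this
    exact this)
  rw [sg_sum (nondeg_sup hA hB ho) hc (fun x hx y hy => by rw [polar_restr]; exact ho _ hx _ hy) hnA hnB
    (by rw [eA.finrank_eq]; exact hAe) (by rw [eB.finrank_eq]; exact hBe),
    sg_congr (Q := restr Q A) eA fun x => rfl, sg_congr (Q := restr Q B) eB fun x => rfl]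

/-- A nondegenerate subspace and its complement in a larger one. -/
theorem compl_in {A X : Submodule F V} (hQ : Nondeg Q) (hA : Nondeg (restr Q A))
    (hX : Nondeg (restr Q X)) (hAX : A ≤ X) :
    Nondeg (restr Q (X ⊓ perp Q A)) ∧ A ⊔ (X ⊓ perp Q A) = X ∧
      finrank F A + finrank F (X ⊓ perp Q A : Submodule F V) = finrank F X ∧
      ∀ x ∈ A, ∀ y ∈ X ⊓ perp Q A, polar Q x y = 0 := by
  have hsup : A ⊔ (X ⊓ perp Q A) = X := by
    rw [inf_comm, ← sup_inf_assoc_of_le _ hAX, (hQ.isCompl_perp hA).sup_eq_top, top_inf_eq]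
  have hd : Disjoint A (X ⊓ perp Q A) := (hQ.isCompl_perp hA).disjoint.mono_right inf_le_right
  refine ⟨?_, hsup, ?_, fun x hx y hy => hy.2 x hx⟩
  · rw [nondeg_restr_iff, eq_bot_iff]
    rintro x ⟨hx, hxp⟩
    have : x ∈ X ⊓ perp Q X := ⟨hx.1, by
      rw [← hsup, perp_sup]; exact ⟨hx.2, hxp⟩⟩
    rwa [(nondeg_restr_iff X).1 hX] at this
  · have := Submodule.finrank_sup_add_finrank_inf_eq A (X ⊓ perp Q A)
    rw [hsup, hd.eq_bot, finrank_bot] at this
    omega

/-- Signs multiply over a subspace and its complement in the whole space. -/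
theorem sg_perp (hQ : Nondeg Q) {A : Submodule F V} (hA : Nondeg (restr Q A)) (hAe : Even (finrank F A))
    (hn : Even (finrank F V)) : sg Q = sg (restr Q A) * sg (restr Q (perp Q A)) := by
  refine sg_sum hQ (hQ.isCompl_perp hA) (perp_ortho A) hA (hQ.nondeg_perp hA) hAe ?_
  obtain ⟨a, ha⟩ := hAe
  obtain ⟨b, hb⟩ := hn
  have := hQ.finrank_add_perp A
  exact ⟨b - a, by omega⟩

/-- Subspaces of every smaller even dimension and both signs exist. -/
theorem exists_sub_sg {Y : Submodule F V} (hY : Nondeg (restr Q Y)) {a : ℕ} {ε : ℤ}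
    (hε : ε = 1 ∨ ε = -1) (h0 : a = 0 → ε = 1)
    (h : 2 * a < finrank F Y ∨ (2 * a = finrank F Y ∧ sg (restr Q Y) = ε)) :
    ∃ Z ≤ Y, Nondeg (restr Q Z) ∧ finrank F Z = 2 * a ∧ sg (restr Q Z) = ε := by
  rcases h with h | ⟨h, hs⟩
  swap
  · exact ⟨Y, le_rfl, hY, h.symm, hs⟩
  rcases a with _ | k
  · refine ⟨⊥, bot_le, nondeg_bot, by simp, ?_⟩
    rw [h0 rfl]; exact sg_of_zero nondeg_bot (finrank_bot F V)
  suffices key : ∀ {ι : Type} [Fintype ι] (Q' : QuadraticForm F (ι → F)), Nondeg Q' →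
      finrank F (ι → F) = 2 * (k + 1) → HasSign Q' (k + 1) ε →
      ∃ Z ≤ Y, Nondeg (restr Q Z) ∧ finrank F Z = 2 * (k + 1) ∧ sg (restr Q Z) = ε by
    rcases hε with rfl | rfl
    · exact key (formPlus F (k + 1)) (formPlus_nondeg F _) (finrank_formPlus F _) (sign_formPlus _)
    · obtain ⟨ζ, hζ⟩ := exists_no_root (F := F)
      exact key (formMinus F k 1 ζ) (formMinus_nondeg k (aniso_of_no_root hζ)) (finrank_formMinus F k)
        (sign_formMinus k (aniso_of_no_root hζ))
  intro ι _ Q' hQ' hd hs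
  obtain ⟨φ, hinj, hφ⟩ := exists_embed hQ' hY (by omega)
  let ψ : (ι → F) →ₗ[F] V := Y.subtype.comp φ
  have hψ : Function.Injective ψ := Y.injective_subtype.comp hinj
  let E := LinearEquiv.ofInjective ψ hψ
  have hE : ∀ x, restr Q (LinearMap.range ψ) (E x) = Q' x := fun x => hφ x
  have hn : Nondeg (restr Q (LinearMap.range ψ)) := fun z hz => by
    obtain ⟨x, rfl⟩ := E.surjective z
    rw [hQ' x fun y => ?_, map_zero]
    have := hz (E y)
    simp only [polar, ← map_add, hE] at this ⊢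
    exact this
  refine ⟨LinearMap.range ψ, ?_, hn, E.finrank_eq.symm.trans hd, ?_⟩
  · rintro - ⟨x, rfl⟩; exact (φ x).2
  · refine sg_eq hn (E.finrank_eq.symm.trans hd) (hs.congr E.symm fun x => ?_)
    rw [← hE, E.apply_symm_apply]

theorem half_pow (hrF : (r : F) ≠ 0) :
    ∃ u, cc qF r = 2 * u ∧ (qF : ZMod r) ^ u = (ee qF r : ZMod r) := by
  have hone : (qF : ZMod r) ^ ii qF r = 1 := pow_orderOf_eq_one _
  have hi := ii_pos (F := F) hrF
  unfold cc ee
  by_cases he : Even (ii qF r)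
  · obtain ⟨j, hj⟩ := he
    rw [if_pos ⟨j, hj⟩, if_pos ⟨j, hj⟩]
    refine ⟨j, by omega, ?_⟩
    have hsq : ((qF : ZMod r) ^ j) ^ 2 = 1 := by rw [← pow_mul, ← hone]; congr 1; omega
    rcases sq_eq_one_iff.1 hsq with h1 | h1
    · exact absurd (Nat.le_of_dvd (by omega) (orderOf_dvd_of_pow_eq_one h1))
        (by change ¬ ii qF r ≤ j; omega)
    · rw [h1]; simp
  · rw [if_neg he, if_neg he]
    exact ⟨ii qF r, rfl, by rw [hone]; simp⟩

/-- A piece has a fixed-point-free element of order `r`. -/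
theorem exists_free (hQ : Nondeg Q) (hr2 : r ≠ 2) (hrF : (r : F) ≠ 0) (hd : finrank F V = cc qF r)
    (hs : sg Q = ee qF r) : ∃ g : O Q, g ^ r = 1 ∧ ∀ x, (g : V ≃ₗ[F] V) x = x → x = 0 := by
  haveI : Finite V := Module.finite_of_finite F
  haveI : Finite (O Q) := Finite.of_injective (fun g : O Q => ((g : V ≃ₗ[F] V) : V → V))
    fun a b h => O.ext_app (congrFun h)
  obtain ⟨u, hu, hpow⟩ := half_pow (F := F) (r := r) hrF
  have hN : r ∣ Nat.card {x : V // Q x = 1} := by
    have h := hasSign_sg hQ (hd.trans hu)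
    rw [hs] at h
    have h' := congrArg (Int.cast : ℤ → ZMod r) h
    push_cast at h'
    rw [← hpow, two_mul, pow_add, add_eq_right] at h'
    rcases mul_eq_zero.1 h' with h0 | h0
    · exact absurd h0 (cast_q_ne_zero hrF)
    · exact (ZMod.natCast_eq_zero_iff _ r).1 h0
  letI : MulAction (O Q) {x : V // Q x = 1} :=
    { smul := fun g x => ⟨(g : V ≃ₗ[F] V) x.1, (O.map_app g x.1).trans x.2⟩
      one_smul := fun x => rfl
      mul_smul := fun g h x => rfl }
  have hpos : 0 < finrank F V := by rw [hd]; exact cc_pos hrF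
  obtain ⟨v, hv⟩ := hQ.exists_value (by obtain ⟨j, hj⟩ := even_cc (r := r) qF; omega) 1
  have horb : MulAction.orbit (O Q) (⟨v, hv⟩ : {x : V // Q x = 1}) = Set.univ := by
    refine Set.eq_univ_of_forall fun w => ?_
    have hne : ∀ z : {x : V // Q x = 1}, z.1 ≠ 0 := fun z h0 => by
      have := z.2; rw [h0, QuadraticMap.map_zero] at this; exact zero_ne_one this
    obtain ⟨g, hg⟩ := exists_map_vec hQ (hne ⟨v, hv⟩) (hne w) (w.2.trans hv.symm)
    exact ⟨g, Subtype.ext hg⟩
  have hcard : r ∣ Nat.card (O Q) := by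
    refine hN.trans ?_
    rw [← Nat.card_univ (α := {x : V // Q x = 1}), ← horb,
      Nat.card_congr (MulAction.orbitEquivQuotientStabilizer (O Q) _)]
    exact Subgroup.index_dvd_card _
  obtain ⟨g, hg⟩ := exists_prime_orderOf_dvd_card' r hcard
  have hgr : g ^ r = 1 := hg ▸ pow_orderOf_eq_one g
  refine ⟨g, hgr, ?_⟩
  obtain ⟨-, -, s, hs1, hs2, -⟩ := shape hQ hr2 hrF g hgr
  rcases s with _ | s
  · exfalso
    have htop : fixS g = ⊤ := Submodule.eq_top_of_finrank_eq (by simpa using hs1)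
    have : g = 1 := O.ext_app fun x => (mem_fixS.1 (htop ▸ Submodule.mem_top : x ∈ fixS g))
    rw [this, orderOf_one] at hg
    exact (Fact.out : r.Prime).one_lt.ne hg
  · intro x hx
    have h0 : finrank F (fixS g) = 0 := by rw [hd, Nat.succ_mul] at hs1; omega
    have : x ∈ fixS g := mem_fixS.2 hx
    rwa [Submodule.finrank_eq_zero.1 h0, Submodule.mem_bot] at this

/-- An element of order `r` moving exactly a given sum of pieces. -/
theorem exists_elem (hQ : Nondeg Q) (hr2 : r ≠ 2) (hrF : (r : F) ≠ 0) :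
    ∀ (s : ℕ) (X : Submodule F V), Nondeg (restr Q X) → finrank F X = s * cc qF r →
      sg (restr Q X) = ee qF r ^ s → ∃ g : O Q, g ^ r = 1 ∧ fixS g = perp Q X := by
  intro s
  induction s with
  | zero =>
    intro X _ hd _
    rw [Nat.zero_mul] at hd
    refine ⟨1, one_pow r, ?_⟩
    rw [Submodule.finrank_eq_zero.1 hd, perp_bot, eq_top_iff]
    exact fun x _ => mem_fixS.2 rfl
  | succ s ih =>
    intro X hX hd hs
    obtain ⟨u, hu, -⟩ := half_pow (F := F) (r := r) hrF
    have hc := cc_pos (F := F) (r := r) hrF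
    obtain ⟨X', hX'X, hX'n, hX'd, hX's⟩ := exists_sub_sg hX (a := s * u) (ee_pow_or (r := r) qF s)
      (fun h => by
        rcases Nat.mul_eq_zero.1 h with h | h
        · rw [h, pow_zero]
        · omega) (Or.inl (by rw [hd, hu, show (s + 1) * (2 * u) = 2 * (s * u) + 2 * u by ring]; omega))
    rw [Nat.mul_left_comm, ← hu] at hX'd
    obtain ⟨hPn, hPX, hPd, hPo⟩ := compl_in hQ hX'n hX hX'X
    set P := X ⊓ perp Q X' with hP
    have hPc : finrank F P = cc qF r := by rw [hX'd, hd, Nat.succ_mul] at hPd; omega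
    have hPe : sg (restr Q P) = ee qF r := by
      have h := sg_sup hX'n hPn hPo (by rw [hX'd]; exact (even_cc qF).mul_left s)
        (by rw [hPc]; exact even_cc qF)
      rw [hPX, hs, hX's, pow_succ] at h
      exact (mul_left_cancel₀ (pow_ne_zero s (ee_ne_zero qF)) h).symm
    obtain ⟨g', hg', hfix'⟩ := ih X' hX'n hX'd hX's
    obtain ⟨gP, hgP, hfreeP⟩ := exists_free hPn hr2 hrF hPc hPe
    have hPfix : ∀ x ∈ P, (g' : V ≃ₗ[F] V) x = x := fun x hx => mem_fixS.1 (hfix' ▸ hx.2)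
    have hinv : ∀ x ∈ perp Q P, (g' : V ≃ₗ[F] V) x ∈ perp Q P :=
      inv_perp g' fun x hx => by rw [hPfix x hx]; exact hx
    refine ⟨glue (hQ.isCompl_perp hPn) (perp_ortho P) (gP, restrictO g' hinv), ?_, ?_⟩
    · rw [← map_pow, Prod.pow_mk, hgP, restrictO_pow_eq_one g' hg' hinv]
      exact map_one _
    · ext x
      rw [mem_fixS]
      obtain ⟨⟨p, w⟩, rfl⟩ := (Submodule.prodEquivOfIsCompl P (perp Q P) (hQ.isCompl_perp hPn)).surjective x
      change (glue (hQ.isCompl_perp hPn) (perp_ortho P) (gP, restrictO g' hinv) : V ≃ₗ[F] V) ((p : V) + w) =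
        (p : V) + w ↔ (p : V) + w ∈ perp Q X
      rw [glue_app]
      constructor
      · intro h
        have hdec := (Submodule.prodEquivOfIsCompl P (perp Q P) (hQ.isCompl_perp hPn)).injective
          (a₁ := ((gP : P ≃ₗ[F] P) p, (restrictO g' hinv : perp Q P ≃ₗ[F] perp Q P) w)) (a₂ := (p, w)) h
        obtain ⟨h1, h2⟩ := Prod.mk.inj hdec
        rw [hfreeP p h1, Submodule.coe_zero, zero_add]
        have hw : (w : V) ∈ fixS g' := mem_fixS.2 (congrArg Subtype.val h2)
        rw [hfix'] at hw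
        rw [← hPX, perp_sup]
        exact ⟨hw, w.2⟩
      · intro h
        rw [← hPX, perp_sup] at h
        have hp : (p : V) ∈ P ⊓ perp Q P := ⟨p.2, by
          have := (perp Q P).sub_mem h.2 w.2
          rwa [add_sub_cancel_right] at this⟩
        rw [(nondeg_restr_iff P).1 hPn, Submodule.mem_bot] at hp
        have hp' : p = 0 := Subtype.ext hp
        subst hp'
        have h1 : (w : V) ∈ perp Q X' := by simpa using h.1
        rw [map_zero, restrictO_app, mem_fixS.1 (hfix' ▸ h1)]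

/-- An `r`-group fixes a nondegenerate subspace pointwise, whose complement has the shape of pieces. -/
theorem fixed_of_rgroup (hQ : Nondeg Q) (hr2 : r ≠ 2) (hrF : (r : F) ≠ 0) {R : Subgroup (O Q)}
    (hR : IsPGroup r R) :
    ∃ (C : Submodule F V) (t : ℕ), Nondeg (restr Q C) ∧ (∀ g ∈ R, ∀ x ∈ C, (g : V ≃ₗ[F] V) x = x) ∧
      finrank F C + t * cc qF r = finrank F V ∧ sg (restr Q (perp Q C)) = ee qF r ^ t := by
  haveI : Finite V := Module.finite_of_finite F
  haveI : Finite (O Q) := Finite.of_injective (fun g : O Q => ((g : V ≃ₗ[F] V) : V → V))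
    fun a b h => O.ext_app (congrFun h)
  suffices key : ∀ (d : ℕ) (C : Submodule F V) (t : ℕ), finrank F C = d → Nondeg (restr Q C) →
      (∀ g ∈ R, ∀ x ∈ C, (g : V ≃ₗ[F] V) x ∈ C) → finrank F C + t * cc qF r = finrank F V →
      sg (restr Q (perp Q C)) = ee qF r ^ t →
      ∃ (C : Submodule F V) (t : ℕ), Nondeg (restr Q C) ∧ (∀ g ∈ R, ∀ x ∈ C, (g : V ≃ₗ[F] V) x = x) ∧
        finrank F C + t * cc qF r = finrank F V ∧ sg (restr Q (perp Q C)) = ee qF r ^ t from
    key _ ⊤ 0 rfl (nondeg_restr_top hQ) (fun _ _ _ _ => Submodule.mem_top) (by simp)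
      (by rw [hQ.perp_top, pow_zero]; exact sg_of_zero nondeg_bot (finrank_bot F V))
  intro d
  induction d using Nat.strong_induction_on with
  | _ d ih =>
    intro C t hd hC hinv hdim hsg
    by_cases htriv : ∀ g ∈ R, ∀ x ∈ C, (g : V ≃ₗ[F] V) x = x
    · exact ⟨C, t, hC, htriv, hdim, hsg⟩
    push Not at htriv
    obtain ⟨g₀, hg₀, x₀, hx₀, hne⟩ := htriv
    let ρ : R →* O (restr Q C) :=
      { toFun := fun g => restrictO (g : O Q) (hinv g g.2)
        map_one' := O.ext_app fun x => rfl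
        map_mul' := fun a b => O.ext_app fun x => rfl }
    have hP : IsPGroup r ρ.range := hR.of_surjective ρ.rangeRestrict ρ.rangeRestrict_surjective
    haveI : Finite (O (restr Q C)) := Finite.of_injective (fun g : O (restr Q C) => ((g : C ≃ₗ[F] C) : C → C))
      fun a b h => O.ext_app (congrFun h)
    haveI : Nontrivial ρ.range := by
      refine ⟨⟨⟨ρ ⟨g₀, hg₀⟩, _, rfl⟩, 1, fun h => hne ?_⟩⟩
      have := congrArg (fun y : ρ.range => (((y : O (restr Q C)) : C ≃ₗ[F] C) ⟨x₀, hx₀⟩ : V)) h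
      exact this
    haveI := hP.center_nontrivial
    obtain ⟨z, hz⟩ : ∃ z : Subgroup.center ρ.range, orderOf z = r := by
      obtain ⟨n, hn0, hn⟩ :=
        (hP.to_subgroup (Subgroup.center ρ.range)).nontrivial_iff_card.1 hP.center_nontrivial
      exact exists_prime_orderOf_dvd_card' r (hn ▸ dvd_pow_self r hn0.ne')
    set h₀ : O (restr Q C) := ((z : ρ.range) : O (restr Q C))
    have hh₀ : h₀ ^ r = 1 := by
      rw [show h₀ ^ r = (((z ^ r : Subgroup.center ρ.range) : ρ.range) : O (restr Q C)) from rfl,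
        ← hz, pow_orderOf_eq_one]
      rfl
    have hh₁ : h₀ ≠ 1 := fun h => by
      have : z = 1 := Subtype.ext (Subtype.ext h)
      rw [this, orderOf_one] at hz
      exact (Fact.out : r.Prime).one_lt.ne hz
    obtain ⟨hC', -, s, hs1, hs2, hs3⟩ := shape hC hr2 hrF h₀ hh₀
    set C₁ := (fixS h₀).map C.subtype
    set U₁ := (perp (restr Q C) (fixS h₀)).map C.subtype
    have hC₁d : finrank F C₁ = finrank F (fixS h₀) :=
      (Submodule.equivMapOfInjective _ C.injective_subtype _).finrank_eq.symm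
    have hlt : finrank F (fixS h₀) < finrank F C := by
      refine Submodule.finrank_lt fun htop => hh₁ (O.ext_app fun x => ?_)
      exact mem_fixS.1 (htop ▸ Submodule.mem_top)
    have hC₁C : C₁ ≤ C := by rintro - ⟨x, -, rfl⟩; exact x.2
    have hC₁n : Nondeg (restr Q C₁) := by
      rw [nondeg_restr_iff, eq_bot_iff]
      rintro - ⟨⟨x, hx, rfl⟩, hxp⟩
      have : x ∈ fixS h₀ ⊓ perp (restr Q C) (fixS h₀) := ⟨hx, fun w hw => by
        rw [polar_restr]; exact hxp _ ⟨w, hw, rfl⟩⟩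
      rw [(nondeg_restr_iff _).1 hC', Submodule.mem_bot] at this
      simp [this]
    have hC₁inv : ∀ g ∈ R, ∀ x ∈ C₁, (g : V ≃ₗ[F] V) x ∈ C₁ := by
      rintro g hg - ⟨x, hx, rfl⟩
      refine ⟨(ρ ⟨g, hg⟩ : C ≃ₗ[F] C) x, mem_fixS.2 ?_, rfl⟩
      have hc := (Subgroup.mem_center_iff.1 z.2) ⟨ρ ⟨g, hg⟩, _, rfl⟩
      have := congrArg (fun y : ρ.range => ((y : O (restr Q C)) : C ≃ₗ[F] C) x) hc
      change (ρ ⟨g, hg⟩ : C ≃ₗ[F] C) ((h₀ : C ≃ₗ[F] C) x) = (h₀ : C ≃ₗ[F] C) ((ρ ⟨g, hg⟩ : C ≃ₗ[F] C) x) at this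
      rw [← this, mem_fixS.1 hx]
    obtain ⟨hUn, hUsup, hUd, hUo⟩ := compl_in hQ hC₁n hC hC₁C
    have hUeq : C ⊓ perp Q C₁ = U₁ := by
      ext x
      constructor
      · rintro ⟨hxC, hxp⟩
        exact ⟨⟨x, hxC⟩, fun w hw => by rw [polar_restr]; exact hxp _ ⟨w, hw, rfl⟩, rfl⟩
      · rintro ⟨y, hy, rfl⟩
        refine ⟨y.2, ?_⟩
        rintro - ⟨w, hw, rfl⟩
        have := hy w hw
        rwa [polar_restr] at this
    have hperp : perp Q C₁ = perp Q C ⊔ U₁ := by
      rw [← hUeq]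
      refine le_antisymm (fun x hx => ?_) (sup_le (perp_anti Q hC₁C) inf_le_right)
      obtain ⟨a, ha, b, hb, rfl⟩ := Submodule.mem_sup.1
        (show x ∈ C ⊔ perp Q C by rw [(hQ.isCompl_perp hC).sup_eq_top]; trivial)
      have ha' : a ∈ perp Q C₁ := by
        have := (perp Q C₁).sub_mem hx (perp_anti Q hC₁C hb)
        rwa [add_sub_cancel_right] at this
      exact Submodule.mem_sup.2 ⟨b, hb, a, ⟨ha, ha'⟩, add_comm b a⟩
    have hUs : sg (restr Q U₁) = ee qF r ^ s := by
      rw [← hs3]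
      refine (sg_congr (Submodule.equivMapOfInjective C.subtype C.injective_subtype _) fun x => ?_).symm
      rfl
    refine ih (finrank F C₁) (by omega) C₁ (t + s) rfl hC₁n hC₁inv
      (by rw [Nat.add_mul]; omega) ?_
    have hUnd : Nondeg (restr Q U₁) := hUeq ▸ hUn
    have hevC : Even (finrank F (perp Q C)) := by
      have := hQ.finrank_add_perp C
      rw [show finrank F (perp Q C) = t * cc qF r by omega]
      exact (even_cc qF).mul_left t
    have hevU : Even (finrank F U₁) := by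
      rw [show finrank F U₁ = s * cc qF r from
        ((Submodule.equivMapOfInjective _ C.injective_subtype _).finrank_eq.symm.trans hs2)]
      exact (even_cc qF).mul_left s
    rw [hperp, sg_sup (hQ.nondeg_perp hC) hUnd (fun x hx y hy => by
      rw [polar_comm]; obtain ⟨w, -, rfl⟩ := hy; exact hx _ w.2) hevC hevU, hsg, hUs, pow_add]

end Cfsg.Agent.H58.Elusive
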