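import Cfsg.Agent.H58.Elusive.Build

/-!
When every isometry of odd prime order `r ≠ p` fixes a member of an orbit of nondegenerate subspaces.
-/

set_option autoImplicit false
set_option linter.unusedSectionVars false
set_option linter.style.haveILetI false

namespace Cfsg.Agent.H58.Elusive

open Module QuadraticMap Orthogonal H68.EvenOrtho H53

variable {F V : Type*} [Field F] [Finite F] [AddCommGroup V] [Module F V] [FiniteDimensional F V]
variable {Q : QuadraticForm F V} {r : ℕ} [Fact r.Prime] {W₀ : Submodule F V}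

local notation "qF" => Nat.card F

/-- Some member of the orbit of `W₀` is invariant. -/
def Fixes (Q : QuadraticForm F V) (W₀ : Submodule F V) (g : O Q) : Prop :=
  ∃ W : Submodule F V, IsoOn Q W W₀ ∧ ∀ x ∈ W, (g : V ≃ₗ[F] V) x ∈ W

/-- All elements of order `r` fix a member. -/
def AllFix (Q : QuadraticForm F V) (W₀ : Submodule F V) (r : ℕ) : Prop :=
  ∀ g : O Q, g ^ r = 1 → g ≠ 1 → Fixes Q W₀ g

/-- The criterion. -/
def Crit (Q : QuadraticForm F V) (W₀ : Submodule F V) (r : ℕ) : Prop :=
  let c := cc qF r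
  let k := finrank F V % c
  let l := finrank F W₀ % c
  let M := finrank F W₀ / c
  let S := finrank F V / c
  (k = 0 ∧ sg Q ≠ ee qF r ^ S) ∨ (l = 0 ∧ sg (restr Q W₀) = ee qF r ^ M) ∨ (0 < l ∧ l < k) ∨
    (0 < k ∧ l = k ∧ Even (finrank F V) ∧ sg Q * sg (restr Q W₀) = ee qF r ^ (M + S))

theorem fixes_of_shape (hQ : Nondeg Q) (hr2 : r ≠ 2) (hrF : (r : F) ≠ 0) (hW₀ : Nondeg (restr Q W₀))
    (g : O Q) (hg : g ^ r = 1) {s a : ℕ}
    (hU : finrank F (perp Q (fixS g)) = s * cc qF r) (has : a ≤ s) (ham : a * cc qF r ≤ finrank F W₀)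
    (h : (finrank F W₀ = a * cc qF r ∧ sg (restr Q W₀) = ee qF r ^ a) ∨
      (0 < finrank F W₀ - a * cc qF r ∧ finrank F W₀ - a * cc qF r < finrank F (fixS g)) ∨
      (0 < finrank F W₀ - a * cc qF r ∧ finrank F W₀ - a * cc qF r = finrank F (fixS g) ∧
        Even (finrank F (fixS g)) ∧ sg (restr Q W₀) = ee qF r ^ a * sg (restr Q (fixS g)))) :
    Fixes Q W₀ g := by
  obtain ⟨hC, -, -⟩ := shape hQ hr2 hrF g hg
  obtain ⟨A, hAU, hAi, hAn, hAd, hAs⟩ := exists_pieces hQ hr2 hrF g hg hU a has
  have hAe : Even (finrank F A) := by rw [hAd]; exact (even_cc qF).mul_left a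
  have ho : ∀ x ∈ A, ∀ y ∈ fixS g, polar Q x y = 0 := fun x hx y hy => by
    rw [polar_comm]; exact hAU hx y hy
  have hsupinv : ∀ B ≤ fixS g, ∀ x ∈ A ⊔ B, (g : V ≃ₗ[F] V) x ∈ A ⊔ B := by
    intro B hB x hx
    obtain ⟨u, hu, w, hw, rfl⟩ := Submodule.mem_sup.1 hx
    rw [map_add, mem_fixS.1 (hB hw)]
    exact Submodule.mem_sup.2 ⟨_, hAi u hu, w, hw, rfl⟩
  rcases h with ⟨hd, hs⟩ | ⟨hpos, hlt⟩ | ⟨hpos, heq, hev, hs⟩
  · exact ⟨A, isoOn_of_sg hAn hW₀ (hAd.trans hd.symm) hAe (hAs.trans hs.symm), hAi⟩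
  · obtain ⟨A₀, hA₀, hiso⟩ := exists_sub hAn hW₀ (by rw [hAd]; omega)
    obtain ⟨hBn, hsup, hBd, hBo⟩ := compl_in hQ (hiso.nondeg hAn) hW₀ hA₀
    set B₀ := W₀ ⊓ perp Q A₀
    obtain ⟨B, hB, hisoB⟩ := exists_sub hBn hC (by rw [← hiso.finrank_eq, hAd] at hBd; omega)
    refine ⟨A ⊔ B, ?_, hsupinv B hB⟩
    rw [← hsup]
    exact hiso.sup hisoB.symm (fun x hx y hy => ho x hx y (hB hy)) hBo
      (disjoint_of_ortho hAn fun x hx y hy => ho x hx y (hB hy))
      (disjoint_of_ortho (hiso.nondeg hAn) hBo)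
  · refine ⟨A ⊔ fixS g, isoOn_of_sg (nondeg_sup hAn hC ho) hW₀ ?_ ?_ ?_, hsupinv _ le_rfl⟩
    · have := Submodule.finrank_sup_add_finrank_inf_eq A (fixS g)
      rw [(disjoint_of_ortho hAn ho).eq_bot, finrank_bot, hAd] at this
      omega
    · have := Submodule.finrank_sup_add_finrank_inf_eq A (fixS g)
      rw [(disjoint_of_ortho hAn ho).eq_bot, finrank_bot, add_zero] at this
      rw [this]; exact hAe.add hev
    · rw [sg_sup hAn hC ho hAe hev, hAs, hs]

theorem shape_of_fixes (hQ : Nondeg Q) (hr2 : r ≠ 2) (hrF : (r : F) ≠ 0) (hW₀ : Nondeg (restr Q W₀))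
    (g : O Q) (hg : g ^ r = 1) (h : Fixes Q W₀ g) :
    ∃ w a, w + a * cc qF r = finrank F W₀ ∧ w ≤ finrank F (fixS g) ∧
      (w = 0 → sg (restr Q W₀) = ee qF r ^ a) ∧
      (w = finrank F (fixS g) → Even w → sg (restr Q W₀) = ee qF r ^ a * sg (restr Q (fixS g))) := by
  obtain ⟨W, hiso, hinv⟩ := h
  have hW := hiso.symm.nondeg hW₀
  obtain ⟨hC, hU, a, ha, hUd, hUs⟩ := shape hW hr2 hrF (restrictO g hinv) (restrictO_pow_eq_one g hg hinv)
  set h' := restrictO g hinv
  set C' := (fixS h').map W.subtype with hC'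
  have hC'd : finrank F C' = finrank F (fixS h') :=
    (Submodule.equivMapOfInjective _ W.injective_subtype _).finrank_eq.symm
  have hle : C' ≤ fixS g := by
    rintro - ⟨x, hx, rfl⟩
    exact mem_fixS.2 (congrArg Subtype.val (mem_fixS.1 hx))
  refine ⟨finrank F (fixS h'), a, by rw [ha, hiso.finrank_eq], hC'd ▸ Submodule.finrank_mono hle, ?_, ?_⟩
  · intro h0
    rw [← hiso.sg_eq, ← hUs]
    have htop : perp (restr Q W) (fixS h') = ⊤ := by rw [Submodule.finrank_eq_zero.1 h0, perp_bot]
    rw [htop]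
    exact (sg_congr Submodule.topEquiv fun x => rfl).symm
  · intro heq hev
    have hCeq : C' = fixS g := Submodule.eq_of_le_of_finrank_eq hle (hC'd.trans heq)
    have hWev : Even (finrank F W) := by
      rw [← ha]; exact hev.add ((even_cc qF).mul_left a)
    rw [← hiso.sg_eq, sg_perp hW hC hev hWev, hUs, mul_comm, ← hCeq]
    congr 1
    exact sg_congr (Submodule.equivMapOfInjective W.subtype W.injective_subtype (fixS h')) fun x => rfl

/-- If `r` divides the orbit, then small `c` is excluded. -/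
theorem big (hQ : Nondeg Q) (hr2 : r ≠ 2) (hrF : (r : F) ≠ 0) (hW₀ : Nondeg (restr Q W₀))
    (hdiv : r ∣ Nat.card {W : Submodule F V // IsoOn Q W W₀}) :
    ¬ finrank F W₀ < finrank F V % cc qF r ∧
      ¬ (finrank F W₀ = finrank F V % cc qF r ∧ Even (finrank F V) ∧
        sg Q * sg (restr Q W₀) = ee qF r ^ (finrank F V / cc qF r)) := by
  haveI : Finite V := Module.finite_of_finite F
  haveI : Finite (O Q) := Finite.of_injective (fun g : O Q => ((g : V ≃ₗ[F] V) : V → V))
    fun a b h => O.ext_app (congrFun h)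
  haveI : Finite (Submodule F V) := Finite.of_injective (fun W => (W : Set V)) SetLike.coe_injective
  suffices key : ∀ R : Sylow r (O Q), ∀ W : {W : Submodule F V // IsoOn Q W W₀},
      ¬ ∀ g ∈ (R : Subgroup (O Q)), ∀ x ∈ W.1, (g : V ≃ₗ[F] V) x = x by
    obtain ⟨R⟩ : Nonempty (Sylow r (O Q)) := inferInstance
    obtain ⟨C, t, hC, hfix, hdim, hsg⟩ := fixed_of_rgroup hQ hr2 hrF R.2
    have hge : finrank F V % cc qF r ≤ finrank F C := by
      rw [← hdim, Nat.add_mul_mod_self_right]; exact Nat.mod_le _ _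
    have hstrict : ¬ finrank F W₀ < finrank F C := fun hlt => by
      obtain ⟨Z, hZ, hiso⟩ := exists_sub hW₀ hC hlt
      exact key R ⟨Z, hiso.symm⟩ fun g hg x hx => hfix g hg x (hZ hx)
    refine ⟨fun h => hstrict (h.trans_le hge), fun ⟨hm, hev, hs⟩ => ?_⟩
    have hCeq : finrank F C = finrank F W₀ := le_antisymm (not_lt.1 hstrict) (hm ▸ hge)
    have ht : t = finrank F V / cc qF r := by
      rw [← hdim, hCeq, hm, Nat.add_mul_div_right _ _ (cc_pos hrF),
        Nat.div_eq_of_lt (Nat.mod_lt _ (cc_pos hrF)), zero_add]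
    have hCe : Even (finrank F C) := by
      rw [← hdim, Nat.even_add] at hev
      exact hev.2 ((even_cc qF).mul_left t)
    refine key R ⟨C, isoOn_of_sg hC hW₀ hCeq hCe ?_⟩ fun g hg x hx => hfix g hg x hx
    have h1 := sg_perp hQ hC hCe hev
    rw [hsg, ht] at h1
    rw [h1] at hs
    have hz : ee qF r ^ (finrank F V / cc qF r) ≠ 0 := pow_ne_zero _ (ee_ne_zero _)
    have h2 : sg (restr Q C) * sg (restr Q W₀) = 1 := by
      refine mul_right_cancel₀ hz ?_
      rw [one_mul]
      linear_combination hs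
    calc sg (restr Q C) = sg (restr Q C) * (sg (restr Q W₀) * sg (restr Q W₀)) := by rw [sg_mul_self, mul_one]
      _ = sg (restr Q W₀) := by rw [← mul_assoc, h2, one_mul]
  intro R W hfix
  letI : MulAction (O Q) {W : Submodule F V // IsoOn Q W W₀} :=
    { smul := fun g W => ⟨W.1.map ((g : V ≃ₗ[F] V) : V →ₗ[F] V),
        IsoOn.trans (IsoOn.symm ⟨(g : V ≃ₗ[F] V).submoduleMap W.1, fun w => O.map_app g w.1⟩) W.2⟩
      one_smul := fun W => Subtype.ext (Submodule.map_id _)
      mul_smul := fun g h W => Subtype.ext (Submodule.map_comp _ _ _) }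
  have horb : MulAction.orbit (O Q) W = Set.univ := by
    refine Set.eq_univ_of_forall fun W' => ?_
    obtain ⟨e, he⟩ := W.2.trans W'.2.symm
    obtain ⟨g, hg⟩ := witt hQ W.1 (W'.1.subtype.comp e.toLinearMap) (W'.1.injective_subtype.comp e.injective) he
    refine ⟨g, Subtype.ext (SetLike.ext fun y => ⟨?_, fun hy => ?_⟩)⟩
    · rintro ⟨x, hx, rfl⟩
      show (g : V ≃ₗ[F] V) x ∈ W'.1
      rw [hg ⟨x, hx⟩]; exact (e ⟨x, hx⟩).2
    · obtain ⟨x, hx⟩ := e.surjective ⟨y, hy⟩
      exact ⟨x, x.2, (hg x).trans (congrArg Subtype.val hx)⟩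
  have hidx : (MulAction.stabilizer (O Q) W).index = Nat.card {W : Submodule F V // IsoOn Q W W₀} := by
    rw [Subgroup.index, ← Nat.card_congr (MulAction.orbitEquivQuotientStabilizer (O Q) W), horb,
      Nat.card_univ]
  have hle : (R : Subgroup (O Q)) ≤ MulAction.stabilizer (O Q) W := by
    intro g hg
    rw [MulAction.mem_stabilizer_iff]
    refine Subtype.ext ?_
    change W.1.map ((g : V ≃ₗ[F] V) : V →ₗ[F] V) = W.1
    refine Submodule.ext fun y => ⟨?_, fun hy => ⟨y, hy, hfix g hg y hy⟩⟩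
    rintro ⟨x, hx, rfl⟩
    change (g : V ≃ₗ[F] V) x ∈ W.1
    rwa [hfix g hg x hx]
  exact R.not_dvd_index ((hidx ▸ hdiv).trans (Subgroup.index_dvd_of_le hle))

/-- The main criterion. -/
theorem allFix_iff (hQ : Nondeg Q) (hr2 : r ≠ 2) (hrF : (r : F) ≠ 0) (hW₀ : Nondeg (restr Q W₀))
    (hm : 0 < finrank F W₀) (hmn : finrank F W₀ < finrank F V)
    (hpar : Even (finrank F V) ∨ Even (finrank F W₀))
    (hdiv : r ∣ Nat.card {W : Submodule F V // IsoOn Q W W₀}) : AllFix Q W₀ r ↔ Crit Q W₀ r := by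
  obtain ⟨hbig, -⟩ := big hQ hr2 hrF hW₀ hdiv
  set c := cc qF r with hc
  set e := ee qF r with he
  set n := finrank F V with hn
  set m := finrank F W₀ with hm'
  have hc0 : 0 < c := cc_pos hrF
  have hnd := Nat.mod_add_div n c
  have hmd := Nat.mod_add_div m c
  have hkc := Nat.mod_lt n hc0
  have hlc := Nat.mod_lt m hc0
  have hsq : ∀ j, e ^ j * e ^ j = 1 := fun j => by
    rcases ee_pow_or (r := r) qF j with h | h <;> rw [he, h] <;> decide
  unfold Crit
  constructor
  · intro hall
    by_contra hcrit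
    simp only [not_or, not_and] at hcrit
    obtain ⟨h1, h2, h3, h4⟩ := hcrit
    -- the element moving as much as possible
    have hS : 0 < n / c := by
      refine Nat.div_pos ?_ hc0
      by_contra hlt
      rw [Nat.mod_eq_of_lt (not_le.1 hlt)] at hbig
      exact hbig hmn
    obtain ⟨u, hu, -⟩ := half_pow (F := F) (r := r) hrF
    rw [← hc] at hu
    obtain ⟨X, -, hXn, hXd, hXs⟩ := exists_sub_sg (nondeg_restr_top hQ) (a := n / c * u)
      (ee_pow_or (r := r) qF (n / c)) (fun h => by
        rcases Nat.mul_eq_zero.1 h with h | h <;> omega) (by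
        rw [finrank_top, ← hn, show 2 * (n / c * u) = c * (n / c) by rw [hu]; ring]
        rcases Nat.eq_zero_or_pos (n % c) with hk | hk
        · refine Or.inr ⟨by omega, ?_⟩
          rw [← not_not (a := sg (restr Q ⊤) = _)]
          intro hne
          exact h1 hk (fun hh => hne (by rw [← he, ← hh]; exact sg_congr Submodule.topEquiv fun x => rfl))
        · exact Or.inl (by omega))
    rw [show 2 * (n / c * u) = n / c * c by rw [hu]; ring] at hXd
    obtain ⟨g, hg, hfix⟩ := exists_elem hQ hr2 hrF _ X hXn hXd hXs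
    have hg1 : g ≠ 1 := by
      rintro rfl
      have htop : fixS (1 : O Q) = ⊤ := eq_top_iff.2 fun x _ => mem_fixS.2 rfl
      have := hQ.finrank_add_perp X
      rw [← hfix, htop, finrank_top, ← hn, hXd] at this
      have := Nat.mul_pos hS hc0
      omega
    have hf : finrank F (fixS g) = n % c := by
      rw [hfix]
      have := hQ.finrank_add_perp X
      rw [hXd, ← hn] at this
      rw [mul_comm] at hnd
      omega
    obtain ⟨w, a, hwa, hwf, hw0, hwt⟩ := shape_of_fixes hQ hr2 hrF hW₀ g hg (hall g hg hg1)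
    rw [hf] at hwf hwt
    rw [← hc, ← hm'] at hwa
    have hwl : w = m % c := by
      rw [← hwa, Nat.add_mul_mod_self_right, Nat.mod_eq_of_lt (by omega)]
    have haM : a = m / c := by
      rw [← hwa, Nat.add_mul_div_right _ _ hc0, Nat.div_eq_of_lt (by omega), zero_add]
    subst hwl haM
    rcases Nat.eq_zero_or_pos (m % c) with hl | hl
    · exact h2 hl (hw0 hl)
    · have hlk : m % c = n % c := le_antisymm hwf (not_lt.1 (h3 hl))
      have heven : Even n := by
        rcases hpar with h | h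
        · exact h
        · have hl' : Even (m % c) := (Nat.even_add.1 (hmd.symm ▸ h)).2 ((even_cc qF).mul_right _)
          rw [← hnd, ← hlk]
          exact hl'.add ((even_cc qF).mul_right _)
      have hkev : Even (n % c) := (Nat.even_add.1 (hnd.symm ▸ heven)).2 ((even_cc qF).mul_right _)
      refine h4 (hlk ▸ hl) hlk heven ?_
      have hs1 := hwt hlk (hlk ▸ hkev)
      obtain ⟨hC, hU, s, hs2, hUd, hUs⟩ := shape hQ hr2 hrF g hg
      have hsS : s = n / c := by
        rw [hf, ← hn, ← hc] at hs2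
        refine Nat.eq_of_mul_eq_mul_right hc0 ?_
        rw [mul_comm] at hnd
        omega
      rw [sg_perp hQ hC (by rw [hf]; exact hkev) heven, hUs, hsS, hs1, ← he, pow_add]
      linear_combination (e ^ (m / c) * e ^ (n / c)) * sg_mul_self (restr Q (fixS g))
  · intro hcrit g hg _
    obtain ⟨hC, hU, s, hs, hUd, hUs⟩ := shape hQ hr2 hrF g hg
    rw [← hn, ← hc] at hs
    rw [← hc] at hUd
    rw [← he] at hUs
    have hsS : s ≤ n / c := (Nat.le_div_iff_mul_le hc0).2 (by omega)
    have hfk : finrank F (fixS g) = n % c + (n / c - s) * c := by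
      rw [Nat.sub_mul]
      have := Nat.mul_le_mul_right c hsS
      rw [mul_comm] at hnd
      omega
    rcases Nat.lt_or_ge s (m / c) with hlt | hge
    · have hb := Nat.mul_le_mul_right c (Nat.succ_le_of_lt hlt)
      rw [Nat.succ_mul] at hb
      have hb' := Nat.div_mul_le_self m c
      refine fixes_of_shape hQ hr2 hrF hW₀ g hg hUd le_rfl ?_ (Or.inr (Or.inl ⟨?_, ?_⟩))
      all_goals
        rw [← hc, ← hm']
        omega
    have hsum : n % c + (n / c - s) * c = finrank F (fixS g) := hfk.symm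
    have hMm : m / c * c ≤ m := Nat.div_mul_le_self m c
    have hl' : m - m / c * c = m % c := by rw [mul_comm] at hmd; omega
    have hdef : ∀ (hl : m % c = 0), sg (restr Q W₀) = e ^ (m / c) → Fixes Q W₀ g := fun hl hs' =>
      fixes_of_shape hQ hr2 hrF hW₀ g hg hUd hge hMm
        (Or.inl ⟨by rw [← hc, ← hm']; omega, hs'⟩)
    have hmid : 0 < m % c → m % c < finrank F (fixS g) → Fixes Q W₀ g := fun h1 h2 =>
      fixes_of_shape hQ hr2 hrF hW₀ g hg hUd hge hMm
        (Or.inr (Or.inl ⟨by rw [← hc, ← hm', hl']; exact h1, by rw [← hc, ← hm', hl']; exact h2⟩))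
    rcases hcrit with ⟨hk, hsig⟩ | ⟨hl, hsig⟩ | ⟨hl, hlk⟩ | ⟨hk, hlk, hev, hsig⟩
    · have hsne : s ≠ n / c := fun hss => hsig (by
        have h0 : finrank F (fixS g) = 0 := by rw [hfk, hss, Nat.sub_self, Nat.zero_mul]; omega
        have hCe : Even (finrank F (fixS g)) := by rw [h0]; exact Even.zero
        have hne : Even n := by
          have := hnd; rw [hk, zero_add] at this
          rw [← this]; exact (even_cc qF).mul_right _
        rw [sg_perp hQ hC hCe hne, hUs, hss, sg_of_zero hC h0, one_mul])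
      have hfc : c ≤ finrank F (fixS g) := by
        have := Nat.mul_le_mul_right c (show 1 ≤ n / c - s by omega)
        omega
      rcases Nat.eq_zero_or_pos (m % c) with hl | hl
      · by_cases hs' : sg (restr Q W₀) = e ^ (m / c)
        · exact hdef hl hs'
        obtain ⟨M', hM'⟩ : ∃ M', m / c = M' + 1 := ⟨m / c - 1, by
          have : 0 < m / c := Nat.div_pos (by
            by_contra hh
            rw [Nat.mod_eq_of_lt (not_le.1 hh)] at hl
            omega) hc0
          omega⟩
        have hmc : m - M' * c = c := by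
          have hb := hMm
          rw [hM', Nat.succ_mul] at hl' hb
          omega
        refine fixes_of_shape hQ hr2 hrF hW₀ g hg hUd (a := M') (by omega)
          (by rw [← hc, ← hm']; rw [hM', Nat.succ_mul] at hMm; omega) ?_
        rcases hfc.lt_or_eq with hlt | heq
        · exact Or.inr (Or.inl ⟨by rw [← hc, ← hm', hmc]; exact hc0, by rw [← hc, ← hm', hmc]; exact hlt⟩)
        · refine Or.inr (Or.inr ⟨by rw [← hc, ← hm', hmc]; exact hc0, by rw [← hc, ← hm', hmc]; exact heq,
            by rw [← heq]; exact even_cc qF, ?_⟩)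
          have hs1 : s + 1 = n / c := by
            rw [hk, zero_add, Nat.sub_mul] at hfk
            have hle := Nat.mul_le_mul_right c hsS
            have h : n / c * c = (s + 1) * c := by rw [Nat.succ_mul]; omega
            exact (Nat.eq_of_mul_eq_mul_right hc0 h).symm
          have hne : Even n := by
            have := hnd; rw [hk, zero_add] at this
            rw [← this]; exact (even_cc qF).mul_right _
          have hQs := sg_perp hQ hC (by rw [← heq]; exact even_cc qF) hne
          rw [hUs] at hQs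
          rw [hM'] at hs'
          rw [← hs1] at hsig
          rw [hQs, pow_succ] at hsig
          rw [pow_succ] at hs'
          have flip : ∀ x y : ℤ, (x = 1 ∨ x = -1) → (y = 1 ∨ y = -1) → x ≠ y → x = -y := by
            intro x y hx hy hne; omega
          have hC' : sg (restr Q (fixS g)) = -e := flip _ _ (sg_or _) (ee_or _) fun h => hsig (by rw [h, mul_comm])
          have hee : e ^ M' * e = 1 ∨ e ^ M' * e = -1 := by rw [← pow_succ]; exact ee_pow_or qF _
          rw [hC', flip _ _ (sg_or _) hee hs', mul_neg]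
      · exact hmid hl (hlc.trans_le hfc)
    · exact hdef hl hsig
    · exact hmid hl (hlk.trans_le (by rw [hfk]; exact Nat.le_add_right _ _))
    · rcases hsS.lt_or_eq with hss | hss
      · refine hmid (hlk ▸ hk) ?_
        have := Nat.mul_le_mul_right c (show 1 ≤ n / c - s by omega)
        omega
      · have hfeq : finrank F (fixS g) = n % c := by rw [hfk, hss, Nat.sub_self, Nat.zero_mul, add_zero]
        have hkev : Even (n % c) := (Nat.even_add.1 (by rw [hnd]; exact hev)).2 ((even_cc qF).mul_right _)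
        refine fixes_of_shape hQ hr2 hrF hW₀ g hg hUd hge hMm (Or.inr (Or.inr ⟨?_, ?_, ?_, ?_⟩))
        · rw [← hc, ← hm', hl', hlk]; exact hk
        · rw [← hc, ← hm', hl', hlk, hfeq]
        · rw [hfeq]; exact hkev
        · have hQs := sg_perp hQ hC (by rw [hfeq]; exact hkev) hev
          rw [hUs, hss] at hQs
          rw [hQs, pow_add] at hsig
          linear_combination (sg (restr Q (fixS g)) * e ^ (n / c)) * hsig
            - (sg (restr Q W₀) * e ^ (n / c) * e ^ (n / c)) * sg_mul_self (restr Q (fixS g))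
            + (e ^ (m / c) * sg (restr Q (fixS g)) - sg (restr Q W₀)) * hsq (n / c)

end Cfsg.Agent.H58.Elusive
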