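import Cfsg.Agent.H58.Elusive.Sign

/-!
Isometric embeddings of nondegenerate spaces over finite fields.
-/

set_option autoImplicit false
set_option linter.unusedSectionVars false

namespace Cfsg.Agent.H58.Elusive

open Module QuadraticMap Orthogonal H68.EvenOrtho

variable {F V W : Type*} [Field F] [Finite F] [AddCommGroup V] [Module F V] [FiniteDimensional F V]
  [AddCommGroup W] [Module F W] [FiniteDimensional F W]
variable {Q : QuadraticForm F V} {Q' : QuadraticForm F W}

/-- Subspaces isometric for `Q`. -/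
def IsoOn (Q : QuadraticForm F V) (X Y : Submodule F V) : Prop :=
  ∃ e : X ≃ₗ[F] Y, ∀ w : X, Q (e w : V) = Q (w : V)

theorem IsoOn.refl (X : Submodule F V) : IsoOn Q X X := ⟨LinearEquiv.refl F X, fun _ => rfl⟩

theorem IsoOn.symm {X Y : Submodule F V} (h : IsoOn Q X Y) : IsoOn Q Y X := by
  obtain ⟨e, he⟩ := h
  exact ⟨e.symm, fun w => by rw [← he, e.apply_symm_apply]⟩

theorem IsoOn.trans {X Y Z : Submodule F V} (h : IsoOn Q X Y) (h' : IsoOn Q Y Z) : IsoOn Q X Z := by
  obtain ⟨e, he⟩ := h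
  obtain ⟨e', he'⟩ := h'
  exact ⟨e.trans e', fun w => by rw [LinearEquiv.trans_apply, he', he]⟩

theorem IsoOn.finrank_eq {X Y : Submodule F V} (h : IsoOn Q X Y) : finrank F X = finrank F Y := by
  obtain ⟨e, -⟩ := h
  exact e.finrank_eq

theorem IsoOn.nondeg {X Y : Submodule F V} (h : IsoOn Q X Y) (hX : Nondeg (restr Q X)) :
    Nondeg (restr Q Y) := by
  obtain ⟨e, he⟩ := h
  intro y hy
  obtain ⟨x, rfl⟩ := e.surjective y
  rw [hX x fun z => ?_, map_zero]
  have h1 := hy (e z)
  simp only [polar, ← map_add, restr_apply] at h1 ⊢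
  rw [← he, ← he, ← he]
  exact h1

theorem IsoOn.sg_eq {X Y : Submodule F V} (h : IsoOn Q X Y) : sg (restr Q X) = sg (restr Q Y) := by
  obtain ⟨e, he⟩ := h
  exact sg_congr e fun x => he x

theorem nondeg_bot : Nondeg (restr Q (⊥ : Submodule F V)) := fun x _ =>
  Subtype.ext ((Submodule.mem_bot F).1 x.2)

theorem two_ne_zero_of_odd (hQ : Nondeg Q) {k : ℕ} (hn : finrank F V = 2 * k + 1) : (2 : F) ≠ 0 :=
  (hQ.classify_odd hn).1

theorem even_of_two_eq_zero (hQ : Nondeg Q) (h2 : (2 : F) = 0) : Even (finrank F V) := by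
  by_contra h
  obtain ⟨k, hk⟩ := Nat.not_even_iff_odd.1 h
  exact two_ne_zero_of_odd hQ hk h2

/-- In dimension at least three every binary form `x² + xy + ζy²` occurs. -/
theorem exists_pair (hQ : Nondeg Q) (hn : 3 ≤ finrank F V) (ζ : F) :
    ∃ x y : V, Q x = 1 ∧ polar Q x y = 1 ∧ Q y = ζ := by
  obtain ⟨u, hu0, hu⟩ := hQ.exists_singular hn
  obtain ⟨v, hv, huv⟩ := hQ.exists_partner hu0 hu
  have hP := hQ.nondeg_hyperbolic_perp hu hv huv
  have hd := hQ.finrank_hyperbolic_perp hu hv huv
  have hxu : polar Q (u + v) u = 1 := by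
    rw [polar_add_left, polar_self', hu, polar_comm (⇑Q) v u, huv]; ring
  have hxv : polar Q (u + v) v = 1 := by rw [polar_add_left, polar_self', hv, huv]; ring
  have hx1 : Q (u + v) = 1 := by rw [map_add_polar, hu, hv, huv]; ring
  by_cases h4 : 4 ≤ finrank F V
  · obtain ⟨z, hz⟩ := hP.exists_value (by omega) ζ
    rw [restr_apply] at hz
    obtain ⟨h1, h2⟩ := (mem_perp_span_pair Q).1 z.2
    refine ⟨u + v, v + z, hx1, ?_, ?_⟩
    · rw [polar_add_right, hxv, polar_add_left, h1, h2]; ring
    · rw [map_add_polar, hv, h2, hz]; ring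
  · have h3 : finrank F V = 2 * 1 + 1 := by omega
    have h2 := two_ne_zero_of_odd hQ h3
    obtain ⟨w, hw⟩ : ∃ w : perp Q (Submodule.span F {u, v}), w ≠ 0 := by
      haveI : Nontrivial (perp Q (Submodule.span F {u, v})) :=
        Module.finrank_pos_iff.1 (show 0 < finrank F (perp Q (Submodule.span F {u, v})) by omega)
      exact exists_ne 0
    have hQw : Q (w : V) ≠ 0 := by
      intro h0
      refine hw (hP w fun y => ?_)
      obtain ⟨c, rfl⟩ := (finrank_eq_one_iff_of_nonzero' w hw).1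
        (show finrank F (perp Q (Submodule.span F {u, v})) = 1 by omega) y
      rw [polar_smul_right', polar_self', restr_apply, h0]; ring
    obtain ⟨a, b, hab⟩ := exists_sq_add_sq (a := (-1 : F)) (b := Q (w : V)) (by simp) hQw (ζ - 2⁻¹ ^ 2)
    obtain ⟨h1, h1'⟩ := (mem_perp_span_pair Q).1 w.2
    obtain ⟨c, rfl⟩ : ∃ c, a = c - 2⁻¹ := ⟨a + 2⁻¹, by ring⟩
    refine ⟨u + v, v + c • (u - v) + b • (w : V), hx1, ?_, ?_⟩
    · simp only [polar_add_right, polar_smul_right', polar_sub_right, hxu, hxv, polar_add_left, h1, h1']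
      ring
    · simp only [map_add_polar, qmap_smul, qmap_sub, polar_add_left, polar_smul_right', polar_smul_left',
        polar_sub_right, polar_sub_left, polar_self', hu, hv, huv, polar_comm (⇑Q) v u, h1, h1']
      have : (2 : F) * 2⁻¹ = 1 := mul_inv_cancel₀ h2
      linear_combination hab - c * this

/-- A space embeds isometrically in every larger one. -/
theorem exists_embed (hQ : Nondeg Q) (hQ' : Nondeg Q') (hlt : finrank F V < finrank F W) :
    ∃ φ : V →ₗ[F] W, Function.Injective φ ∧ ∀ x, Q' (φ x) = Q x := by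
  suffices h : ∃ φ : V →ₗ[F] W, ∀ x, Q' (φ x) = Q x by
    obtain ⟨φ, hφ⟩ := h
    refine ⟨φ, ?_, hφ⟩
    rw [← LinearMap.ker_eq_bot, eq_bot_iff]
    intro x hx
    refine (Submodule.mem_bot F).2 (hQ x fun y => ?_)
    simp only [polar, ← hφ, map_add, LinearMap.mem_ker.1 hx, zero_add, QuadraticMap.map_zero]
    ring
  obtain ⟨k, e, f, h, ha⟩ := hQ.exists_frame
  obtain ⟨k', e', f', h', ha'⟩ := hQ'.exists_frame
  have hr := h.finrank_kernel hQ
  have hr' := h'.finrank_kernel hQ'
  have hle := finrank_le_two_of_aniso (h.nondeg_kernel hQ) ha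
  have hle' := finrank_le_two_of_aniso (h'.nondeg_kernel hQ') ha'
  have hk : k ≤ k' := by omega
  set e₁ : Fin k → W := e' ∘ Fin.castLE hk
  set f₁ : Fin k → W := f' ∘ Fin.castLE hk
  have h₁ : IsFrame Q' e₁ f₁ :=
    ⟨fun i => h'.qe _, fun i => h'.qf _, fun i j => by simp [e₁, f₁, h'.ef, Fin.ext_iff],
      fun i j => h'.ee _ _, fun i j => h'.ff _ _⟩
  have hN := h₁.nondeg_kernel hQ'
  have hr₁ := h₁.finrank_kernel hQ'
  set K := IsFrame.kernel Q e f
  set K' := IsFrame.kernel Q' e₁ f₁
  obtain ⟨bK, w, hwd, hwo⟩ : ∃ (bK : Module.Basis (Fin (finrank F K)) F K) (w : Fin (finrank F K) → K'),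
      (∀ i, Q' (w i : W) = Q (bK i : V)) ∧
      ∀ i j, i ≠ j → polar Q' (w i : W) (w j : W) = polar Q (bK i : V) (bK j : V) := by
    rcases (show finrank F K = 0 ∨ finrank F K = 1 ∨ finrank F K = 2 by omega) with h0 | h1 | h2
    · exact ⟨Module.finBasis F K, fun _ => 0, fun i => absurd i.2 (by omega),
        fun i => absurd i.2 (by omega)⟩
    · obtain ⟨z, hz⟩ := hN.exists_value (by omega) (Q (Module.finBasis F K ⟨0, by omega⟩ : V))
      rw [restr_apply] at hz
      refine ⟨Module.finBasis F K, fun _ => z, fun i => ?_, fun i j hij => absurd (Fin.ext (by omega)) hij⟩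
      rw [hz]
      exact congrArg (fun t => Q (Module.finBasis F K t : V)) (Fin.ext (by simp only; omega))
    · obtain ⟨x, hx, y, hy, hli, hx1, hxy, -⟩ := exists_elliptic_pair (h.nondeg_kernel hQ) h2 ha
      obtain ⟨x', y', hx', hxy', hy'⟩ := exists_pair hN (by omega) (Q y)
      rw [restr_apply] at hx' hy'
      rw [polar_restr] at hxy'
      have hli' : LinearIndependent F ![(⟨x, hx⟩ : K), ⟨y, hy⟩] := by
        refine LinearIndependent.of_comp K.subtype ?_
        convert hli using 1
        funext i; fin_cases i <;> rfl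
      let b₀ := basisOfLinearIndependentOfCardEqFinrank hli' (by simp [h2])
      refine ⟨b₀.reindex (finCongr h2.symm), fun i => ![x', y'] (finCongr h2 i), fun i => ?_, fun i j hij => ?_⟩
      · rw [Module.Basis.reindex_apply]
        have : (finCongr h2.symm).symm i = finCongr h2 i := rfl
        rw [this]
        simp only [finCongr_apply]
        generalize Fin.cast h2 i = t
        fin_cases t <;> simp [b₀, hx', hy', hx1]
      · rw [Module.Basis.reindex_apply, Module.Basis.reindex_apply]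
        have : ∀ t, (finCongr h2.symm).symm t = finCongr h2 t := fun t => rfl
        rw [this, this]
        have hne : finCongr h2 i ≠ finCongr h2 j := fun h => hij ((finCongr h2).injective h)
        simp only [finCongr_apply] at hne ⊢
        generalize Fin.cast h2 i = t at hne ⊢
        generalize Fin.cast h2 j = t' at hne ⊢
        fin_cases t <;> fin_cases t' <;>
          first
            | exact absurd rfl hne
            | simp [b₀, hxy, hxy', polar_comm (⇑Q) y x, polar_comm (⇑Q') (y' : W) (x' : W)]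
  let b := h.basisWith hQ bK
  let tgt : (Fin k ⊕ Fin k) ⊕ Fin (finrank F K) → W := Sum.elim (Sum.elim e₁ f₁) fun i => (w i : W)
  refine ⟨b.constr F tgt, fun x => ?_⟩
  have key : Q'.comp (b.constr F tgt) = Q := by
    refine qf_ext b (fun s => ?_) (fun s t hst => ?_)
    · rw [QuadraticMap.comp_apply, Module.Basis.constr_basis]
      rcases s with (i | i) | i
      · simp [b, tgt, IsFrame.basisWith_inl, h.qe, h₁.qe]
      · simp [b, tgt, IsFrame.basisWith_inl, h.qf, h₁.qf]
      · simp [b, tgt, IsFrame.basisWith_inr, hwd]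
    · have hp : polar (Q'.comp (b.constr F tgt)) (b s) (b t) = polar Q' (tgt s) (tgt t) := by
        simp only [polar, QuadraticMap.comp_apply, map_add, Module.Basis.constr_basis]
      rw [hp]
      rcases s with (i | i) | i <;> rcases t with (j | j) | j
      all_goals
        simp only [b, tgt, IsFrame.basisWith_inl, IsFrame.basisWith_inr, Sum.elim_inl, Sum.elim_inr,
          h.ee, h₁.ee, h.ef, h₁.ef, h.fe, h₁.fe, h.ff, h₁.ff, (IsFrame.mem_kernel.1 (bK _).2).1,
          (IsFrame.mem_kernel.1 (bK _).2).2, (IsFrame.mem_kernel.1 (w _).2).1,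
          (IsFrame.mem_kernel.1 (w _).2).2, polar_comm (⇑Q) (bK _ : V) (e _),
          polar_comm (⇑Q) (bK _ : V) (f _), polar_comm (⇑Q') (w _ : W) (e₁ _),
          polar_comm (⇑Q') (w _ : W) (f₁ _)]
      exact hwo i j fun hh => hst (by rw [hh])
  exact DFunLike.congr_fun key x

/-- A nondegenerate subspace embeds in every larger one. -/
theorem exists_sub {X Y : Submodule F V} (hX : Nondeg (restr Q X)) (hY : Nondeg (restr Q Y))
    (hlt : finrank F X < finrank F Y) : ∃ Z ≤ Y, IsoOn Q X Z := by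
  obtain ⟨φ, hinj, hφ⟩ := exists_embed hX hY hlt
  let ψ : X →ₗ[F] V := Y.subtype.comp φ
  have hψ : Function.Injective ψ := Y.injective_subtype.comp hinj
  refine ⟨LinearMap.range ψ, ?_, LinearEquiv.ofInjective ψ hψ, fun w => hφ w⟩
  rintro - ⟨x, rfl⟩
  exact (φ x).2

/-- Equal dimension and sign give isometric subspaces. -/
theorem isoOn_of_sg {X Y : Submodule F V} (hX : Nondeg (restr Q X)) (hY : Nondeg (restr Q Y))
    (hd : finrank F X = finrank F Y) (he : Even (finrank F X))
    (hs : sg (restr Q X) = sg (restr Q Y)) : IsoOn Q X Y := by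
  obtain ⟨a, ha⟩ := he
  rw [← two_mul] at ha
  rcases a with _ | k
  · exact ⟨LinearEquiv.ofFinrankEq X Y hd, fun w => by
      haveI : Subsingleton X := Module.finrank_zero_iff.1 (by omega)
      rw [Subsingleton.elim w 0, map_zero]
      simp⟩
  · obtain ⟨E, hE⟩ := exists_isometry hY hX (k := k) (by omega) ha
      (hasSign_sg hY (m := k + 1) (by omega)) (hs ▸ hasSign_sg hX ha)
    exact ⟨E, fun w => hE w⟩

/-- Orthogonal sums of isometric subspaces are isometric. -/
theorem IsoOn.sup {A B A' B' : Submodule F V} (hA : IsoOn Q A A') (hB : IsoOn Q B B')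
    (ho : ∀ x ∈ A, ∀ y ∈ B, polar Q x y = 0) (ho' : ∀ x ∈ A', ∀ y ∈ B', polar Q x y = 0)
    (hd : Disjoint A B) (hd' : Disjoint A' B') : IsoOn Q (A ⊔ B) (A' ⊔ B') := by
  obtain ⟨eA, hA⟩ := hA
  obtain ⟨eB, hB⟩ := hB
  let j : (A × B) →ₗ[F] V := A.subtype.coprod B.subtype
  let j' : (A' × B') →ₗ[F] V := A'.subtype.coprod B'.subtype
  have inj : ∀ {C D : Submodule F V}, Disjoint C D → Function.Injective (C.subtype.coprod D.subtype) := by
    intro C D h
    rw [← LinearMap.ker_eq_bot, eq_bot_iff]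
    rintro ⟨x, y⟩ hxy
    rw [LinearMap.mem_ker, LinearMap.coprod_apply, Submodule.coe_subtype, Submodule.coe_subtype,
      add_eq_zero_iff_eq_neg] at hxy
    have h0 : (x : V) = 0 :=
      Submodule.disjoint_def.1 h _ x.2 (by rw [hxy]; exact D.neg_mem y.2)
    rw [h0, eq_comm, neg_eq_zero] at hxy
    exact (Submodule.mem_bot F).2 (Prod.ext (Subtype.ext h0) (Subtype.ext hxy))
  have rg : ∀ {C D : Submodule F V}, LinearMap.range (C.subtype.coprod D.subtype) = C ⊔ D := by
    intro C D
    rw [LinearMap.range_coprod, Submodule.range_subtype, Submodule.range_subtype]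
  let eAB := (LinearEquiv.ofInjective j (inj hd)).trans (LinearEquiv.ofEq _ _ rg)
  let eAB' := (LinearEquiv.ofInjective j' (inj hd')).trans (LinearEquiv.ofEq _ _ rg)
  refine ⟨eAB.symm.trans ((eA.prodCongr eB).trans eAB'), fun w => ?_⟩
  obtain ⟨⟨a, b⟩, rfl⟩ := eAB.surjective w
  rw [LinearEquiv.trans_apply, LinearEquiv.symm_apply_apply, LinearEquiv.trans_apply]
  show Q ((eA a : V) + eB b) = Q ((a : V) + b)
  rw [map_add_polar, map_add_polar, hA, hB, ho _ a.2 _ b.2, ho' _ (eA a).2 _ (eB b).2]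

end Cfsg.Agent.H58.Elusive
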