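import Cfsg.Agent.H58.Elusive.Embed
import Cfsg.Agent.H53.OrthoTorus
import Cfsg.Agent.Orthogonal.Generation
import Cfsg.Agent.Linear.Elusive.Invariant

/-!
Isometries of odd prime order `r` prime to the characteristic: the moved space is an orthogonal sum of
nondegenerate invariant pieces of dimension `c` and sign `e`.
-/

set_option autoImplicit false
set_option linter.unusedSectionVars false
set_option linter.style.haveILetI false

namespace Cfsg.Agent.H58.Elusive

open Module QuadraticMap Orthogonal H68.EvenOrtho H53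
open Polynomial (aeval X C)

/-- The order of `q` modulo `r`. -/
noncomputable def ii (q r : ℕ) : ℕ := orderOf (q : ZMod r)

/-- The dimension of a piece. -/
noncomputable def cc (q r : ℕ) : ℕ := if Even (ii q r) then ii q r else 2 * ii q r

/-- The sign of a piece. -/
noncomputable def ee (q r : ℕ) : ℤ := if Even (ii q r) then -1 else 1

variable {F V : Type*} [Field F] [Finite F] [AddCommGroup V] [Module F V] [FiniteDimensional F V]
variable {Q : QuadraticForm F V} {r : ℕ} [Fact r.Prime]

local notation "qF" => Nat.card F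

theorem cast_q_ne_zero (hrF : (r : F) ≠ 0) : (qF : ZMod r) ≠ 0 := by
  haveI : Fintype F := Fintype.ofFinite F
  intro h
  rw [ZMod.natCast_eq_zero_iff, Nat.card_eq_fintype_card] at h
  obtain ⟨n, hp, hn⟩ := FiniteField.card F (ringChar F)
  rw [hn] at h
  have hr := (Nat.prime_dvd_prime_iff_eq (Fact.out : r.Prime) hp).1 ((Fact.out : r.Prime).dvd_of_dvd_pow h)
  exact hrF (by rw [hr]; exact CharP.cast_eq_zero F (ringChar F))

theorem ii_pos (hrF : (r : F) ≠ 0) : 0 < ii qF r := by
  haveI : Fintype (ZMod r) := Fintype.ofFinite _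
  exact orderOf_pos_iff.2 (isOfFinOrder_iff_pow_eq_one.2
    ⟨r - 1, by have := (Fact.out : r.Prime).two_le; omega, ZMod.pow_card_sub_one_eq_one (cast_q_ne_zero hrF)⟩)

theorem even_cc (q : ℕ) : Even (cc q r) := by
  unfold cc; split_ifs with h
  · exact h
  · exact even_two_mul _

theorem cc_pos (hrF : (r : F) ≠ 0) : 0 < cc qF r := by
  have := ii_pos (F := F) hrF
  unfold cc; split_ifs <;> omega

theorem ee_or (q : ℕ) : ee q r = 1 ∨ ee q r = -1 := by
  unfold ee; split_ifs <;> simp

theorem ee_pow_or (q s : ℕ) : ee q r ^ s = 1 ∨ ee q r ^ s = -1 := by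
  rcases ee_or (r := r) q with h | h <;> rw [h]
  · simp
  · exact neg_one_pow_eq_or ℤ s

/-- Two signs congruent modulo an odd prime are equal. -/
theorem sign_eq_of_cast (hr2 : r ≠ 2) {a b : ℤ} (ha : a = 1 ∨ a = -1) (hb : b = 1 ∨ b = -1)
    (h : (a : ZMod r) = b) : a = b := by
  haveI : Fact (2 < r) := ⟨lt_of_le_of_ne (Fact.out (p := r.Prime)).two_le hr2.symm⟩
  rcases ha with rfl | rfl <;> rcases hb with rfl | rfl <;>
    first
      | rfl
      | (exfalso; push_cast at h; first | exact ZMod.neg_one_ne_one h | exact ZMod.neg_one_ne_one h.symm)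

/-- `q ^ u ≡ ± 1` forces `2 u` to be a multiple of `c`, and determines the sign. -/
theorem sign_arith (hr2 : r ≠ 2) (hrF : (r : F) ≠ 0) {u : ℕ} {ε : ℤ} (hε : ε = 1 ∨ ε = -1)
    (h : (qF : ZMod r) ^ u = ε) : ∃ s, 2 * u = s * cc qF r ∧ ε = ee qF r ^ s := by
  have hi := ii_pos (F := F) hrF
  have h2 : (qF : ZMod r) ^ (2 * u) = 1 := by
    rw [two_mul, pow_add, h]; rcases hε with rfl | rfl <;> simp
  obtain ⟨k, hk⟩ := orderOf_dvd_of_pow_eq_one h2
  have hone := pow_orderOf_eq_one (qF : ZMod r)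
  change 2 * u = ii qF r * k at hk
  change (qF : ZMod r) ^ ii qF r = 1 at hone
  by_cases he : Even (ii qF r)
  · obtain ⟨j, hj⟩ := he
    refine ⟨k, by rw [cc, if_pos ⟨j, hj⟩, hk, mul_comm], ?_⟩
    have hu : u = j * k := by rw [hj] at hk; linarith
    have hm1 : (qF : ZMod r) ^ j = -1 := by
      have hsq : ((qF : ZMod r) ^ j) ^ 2 = 1 := by rw [← pow_mul, ← hone]; congr 1; omega
      rcases sq_eq_one_iff.1 hsq with h1 | h1
      · exact absurd (Nat.le_of_dvd (by omega) (orderOf_dvd_of_pow_eq_one h1))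
          (by change ¬ ii qF r ≤ j; omega)
      · exact h1
    rw [ee, if_pos ⟨j, hj⟩]
    refine sign_eq_of_cast hr2 hε (neg_one_pow_eq_or ℤ k) ?_
    rw [← h, hu, pow_mul, hm1]; push_cast; ring
  · obtain ⟨j, hj⟩ := Nat.not_even_iff_odd.1 he
    obtain ⟨t, ht⟩ : Even k := by
      have : Even (ii qF r * k) := ⟨u, by omega⟩
      exact (Nat.even_mul.1 this).resolve_left he
    refine ⟨t, by rw [cc, if_neg he, hk, ht]; ring, ?_⟩
    rw [ee, if_neg he, one_pow]
    refine sign_eq_of_cast hr2 hε (Or.inl rfl) ?_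
    have hu : u = ii qF r * t := by rw [ht] at hk; linarith
    rw [← h, hu, pow_mul, hone, one_pow]; simp

theorem linHom_pow_one (g : O Q) (hg : g ^ r = 1) : linHom Q g ^ r = 1 := by
  rw [← map_pow, hg, map_one]

/-- A space with a fixed-point-free isometry of order `r` consists of pieces. -/
theorem free_shape (hQ : Nondeg Q) (hr2 : r ≠ 2) (hrF : (r : F) ≠ 0) (g : O Q) (hg : g ^ r = 1)
    (hfree : ∀ x, (g : V ≃ₗ[F] V) x = x → x = 0) :
    ∃ s, finrank F V = s * cc qF r ∧ sg Q = ee qF r ^ s := by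
  have hev : Even (finrank F V) := by
    by_contra hodd
    have hd := Nat.not_even_iff_odd.1 hodd
    obtain ⟨k, hk⟩ := hd
    have h2 := two_ne_zero_of_odd hQ hk
    have h := det_mul_det_one_sub hQ g
    have hne : LinearMap.det (1 - linHom Q g) ≠ 0 := fun h0 => by
      obtain ⟨v, hv, hv0⟩ := Submodule.exists_mem_ne_zero_of_ne_bot (LinearMap.bot_lt_ker_of_det_eq_zero h0).ne'
      refine hv0 (hfree v ?_)
      rw [LinearMap.mem_ker, LinearMap.sub_apply, Module.End.one_apply, sub_eq_zero] at hv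
      exact hv.symm
    rw [(show Odd (finrank F V) from ⟨k, hk⟩).neg_one_pow] at h
    have hdet := mul_right_cancel₀ hne h
    have := congrArg LinearMap.det (linHom_pow_one g hg)
    rw [map_pow, hdet, map_one, ((Fact.out : r.Prime).odd_of_ne_two hr2).neg_one_pow] at this
    exact h2 (by linear_combination -this)
  obtain ⟨m, hm⟩ := hev
  rw [← two_mul] at hm
  have := sign_of_free (cast_q_ne_zero hrF) (linHom Q g) (linHom_pow_one g hg) (fun x => O.map_app g x)
    hfree (hasSign_sg hQ hm)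
  obtain ⟨s, hs, hε⟩ := sign_arith hr2 hrF (sg_or Q) this
  exact ⟨s, hm ▸ hs, hε⟩

/-- The fixed space of an isometry. -/
def fixS (g : O Q) : Submodule F V := LinearMap.ker (linHom Q g - 1)

theorem mem_fixS {g : O Q} {x : V} : x ∈ fixS g ↔ (g : V ≃ₗ[F] V) x = x := by
  rw [fixS, LinearMap.mem_ker, LinearMap.sub_apply, Module.End.one_apply, sub_eq_zero, linHom_apply]

/-- An invariant subspace is preserved by the complement. -/
theorem inv_perp (g : O Q) {X : Submodule F V} (hX : ∀ x ∈ X, (g : V ≃ₗ[F] V) x ∈ X) :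
    ∀ x ∈ perp Q X, (g : V ≃ₗ[F] V) x ∈ perp Q X := fun _ hx => map_mem_perp g hX hx

theorem restrictO_pow_eq_one (g : O Q) (hg : g ^ r = 1) {X : Submodule F V}
    (hX : ∀ x ∈ X, (g : V ≃ₗ[F] V) x ∈ X) : restrictO g hX ^ r = 1 := by
  have : ∀ (j : ℕ) (x : X), (((restrictO g hX ^ j : O (restr Q X)) : X ≃ₗ[F] X) x : V) =
      ((g ^ j : O Q) : V ≃ₗ[F] V) x := by
    intro j
    induction j with
    | zero => intro x; rfl
    | succ j ih =>
      intro x
      rw [pow_succ', pow_succ', Subgroup.coe_mul, Subgroup.coe_mul, mul_app, mul_app, ← ih x]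
      rfl
  refine O.ext_app fun x => Subtype.ext ?_
  rw [this, hg]; rfl

/-- Every invariant nondegenerate subspace splits into its fixed part and pieces. -/
theorem shape (hQ : Nondeg Q) (hr2 : r ≠ 2) (hrF : (r : F) ≠ 0) (g : O Q) (hg : g ^ r = 1) :
    Nondeg (restr Q (fixS g)) ∧ Nondeg (restr Q (perp Q (fixS g))) ∧
      ∃ s, finrank F (fixS g) + s * cc qF r = finrank F V ∧
        finrank F (perp Q (fixS g)) = s * cc qF r ∧ sg (restr Q (perp Q (fixS g))) = ee qF r ^ s := by
  obtain ⟨hC, -⟩ := perp_fix hQ g hrF hg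
  have hU := hQ.nondeg_perp hC
  have hinv : ∀ x ∈ perp Q (fixS g), (g : V ≃ₗ[F] V) x ∈ perp Q (fixS g) :=
    inv_perp g fun x hx => by rw [mem_fixS.1 hx]; exact hx
  obtain ⟨s, hs, hsg⟩ := free_shape hU hr2 hrF (restrictO g hinv) (restrictO_pow_eq_one g hg hinv)
    (fun x hx => by
      have hfix : (x : V) ∈ fixS g := mem_fixS.2 (congrArg Subtype.val hx)
      have : (x : V) ∈ (⊥ : Submodule F V) := by
        rw [← (nondeg_restr_iff _).1 hC]; exact ⟨hfix, x.2⟩
      exact Subtype.ext ((Submodule.mem_bot F).1 this))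
  exact ⟨hC, hU, s, by rw [← hs]; exact hQ.finrank_add_perp _, hs, hsg⟩

theorem squarefree_X_pow_sub_one (hrF : (r : F) ≠ 0) : Squarefree (Polynomial.X ^ r - 1 : Polynomial F) :=
  by
    have h := (Polynomial.separable_X_pow_sub_C (1 : F) hrF one_ne_zero).squarefree
    rwa [map_one] at h

theorem aeval_X_pow_sub_one {T : Module.End F V} (hT : T ^ r = 1) :
    aeval T (Polynomial.X ^ r - 1 : Polynomial F) = 0 := by
  simp [hT]

/-- A nonzero invariant subspace inside a fixed-point-free space contains one of dimension `i`. -/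
theorem exists_minimal (hrF : (r : F) ≠ 0) [Nontrivial V] (T : Module.End F V) (hT : T ^ r = 1) :
    ∃ M : Submodule F V, M ≠ ⊥ ∧ (∀ x ∈ M, T x ∈ M) ∧ finrank F M ≤ ii qF r := by
  haveI : Fintype F := Fintype.ofFinite F
  obtain ⟨g, hgm, hgi, hg⟩ : ∃ g : Polynomial F, g.Monic ∧ Irreducible g ∧ g ∣ minpoly F T := by
    have hne : ¬ IsUnit (minpoly F T) := minpoly.not_isUnit F T
    obtain ⟨g, hgi, hgd⟩ := WfDvdMonoid.exists_irreducible_factor hne
      (minpoly.ne_zero (Algebra.IsIntegral.isIntegral T))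
    exact ⟨g * C g.leadingCoeff⁻¹, Polynomial.monic_mul_leadingCoeff_inv hgi.ne_zero,
      Polynomial.irreducible_mul_leadingCoeff_inv.2 hgi,
      (associated_mul_unit_left g _ (Polynomial.isUnit_C.2 (IsUnit.mk0 _
        (inv_ne_zero (Polynomial.leadingCoeff_ne_zero.2 hgi.ne_zero))))).dvd.trans hgd⟩
  obtain ⟨h, hgh⟩ := hg
  have hI := Algebra.IsIntegral.isIntegral (R := F) T
  have hh : aeval T h ≠ 0 := fun h0 => by
    have hd := minpoly.dvd F T h0
    have h0' : h ≠ 0 := fun e => minpoly.ne_zero hI (by rw [hgh, e, mul_zero])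
    have := Polynomial.natDegree_le_of_dvd hd h0'
    rw [hgh, Polynomial.natDegree_mul hgi.ne_zero h0'] at this
    have := hgi.natDegree_pos
    omega
  obtain ⟨w, hw⟩ : ∃ w, aeval T h w ≠ 0 := by
    by_contra hall
    push Not at hall
    exact hh (LinearMap.ext hall)
  set v := aeval T h w
  have hgv : aeval T g v = 0 := by
    rw [← Module.End.mul_apply, ← map_mul, ← hgh, minpoly.aeval, LinearMap.zero_apply]
  have hdeg : g.natDegree ≤ ii qF r := by
    refine Nat.le_of_dvd (ii_pos hrF) ?_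
    refine hgi.natDegree_dvd_of_dvd_X_pow_card_pow_sub_X ?_
    have h1 : g ∣ Polynomial.X ^ r - 1 :=
      (hgh ▸ dvd_mul_right g h).trans (minpoly.dvd F T (aeval_X_pow_sub_one hT))
    refine h1.trans ?_
    obtain ⟨k, hk⟩ : r ∣ qF ^ ii qF r - 1 := by
      rw [← ZMod.natCast_eq_zero_iff, Nat.cast_sub (Nat.one_le_pow _ _ Nat.card_pos)]
      push_cast
      rw [show (qF : ZMod r) ^ ii qF r = 1 from pow_orderOf_eq_one _, sub_self]
    have hpos : 1 ≤ qF ^ ii qF r := Nat.one_le_pow _ _ Nat.card_pos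
    rw [show qF ^ ii qF r = r * k + 1 by omega, pow_succ, pow_mul,
      show (Polynomial.X ^ r) ^ k * Polynomial.X - (Polynomial.X : Polynomial F) =
        ((Polynomial.X ^ r) ^ k - 1 ^ k) * Polynomial.X by rw [one_pow]; ring]
    exact (sub_dvd_pow_sub_pow _ _ k).mul_right _
  set M := Submodule.span F (Set.range fun j : Fin g.natDegree => (T ^ (j : ℕ)) v) with hM
  refine ⟨M, fun hb => hw ?_, ?_, ?_⟩
  · have : v ∈ M := Submodule.subset_span ⟨⟨0, hgi.natDegree_pos⟩, by simp⟩
    rwa [hb, Submodule.mem_bot] at this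
  · suffices M.map T ≤ M from fun x hx => this ⟨x, hx, rfl⟩
    rw [hM, Submodule.map_span_le]
    rintro - ⟨j, rfl⟩
    rw [← Module.End.mul_apply, ← pow_succ']
    by_cases hj : (j : ℕ) + 1 < g.natDegree
    · exact Submodule.subset_span ⟨⟨_, hj⟩, rfl⟩
    · have hje : (j : ℕ) + 1 = g.natDegree := by have := j.2; omega
      rw [hje]
      rw [Polynomial.aeval_eq_sum_range, Finset.sum_range_succ, hgm.coeff_natDegree, one_smul,
        LinearMap.add_apply, LinearMap.sum_apply, add_eq_zero_iff_eq_neg'] at hgv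
      rw [hgv]
      exact Submodule.neg_mem _ (Submodule.sum_mem _ fun k hk =>
        Submodule.smul_mem _ _ (Submodule.subset_span ⟨⟨k, Finset.mem_range.1 hk⟩, rfl⟩))
  · exact (finrank_range_le_card (R := F) fun j : Fin g.natDegree => (T ^ (j : ℕ)) v).trans
      (by simpa using hdeg)

theorem ii_dvd_of_inv (hrF : (r : F) ≠ 0) (T : Module.End F V) (hT : T ^ r = 1)
    (hfree : ∀ x, T x = x → x = 0) {M : Submodule F V} (hM : ∀ x ∈ M, T x ∈ M) :
    ii qF r ∣ finrank F M := by
  have h := dvd_card_sub_one (Fact.out : r.Prime) hT M hM fun x _ => hfree x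
  refine orderOf_dvd_of_pow_eq_one ?_
  have := (ZMod.natCast_eq_zero_iff _ r).2 h
  rw [Nat.cast_sub (Nat.one_le_pow _ _ Nat.card_pos)] at this
  push_cast at this
  exact sub_eq_zero.1 this

/-- A fixed-point-free space contains a piece. -/
theorem exists_piece (hQ : Nondeg Q) (hr2 : r ≠ 2) (hrF : (r : F) ≠ 0) [Nontrivial V] (g : O Q)
    (hg : g ^ r = 1) (hfree : ∀ x, (g : V ≃ₗ[F] V) x = x → x = 0) :
    ∃ X : Submodule F V, (∀ x ∈ X, (g : V ≃ₗ[F] V) x ∈ X) ∧ Nondeg (restr Q X) ∧
      finrank F X = cc qF r := by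
  haveI : Fintype F := Fintype.ofFinite F
  haveI : Finite V := Module.finite_of_finite F
  set T := linHom Q g
  have hT := linHom_pow_one g hg
  have hfree' : ∀ x, T x = x → x = 0 := hfree
  have small : ∀ X : Submodule F V, (∀ x ∈ X, T x ∈ X) → finrank F X ≤ ii qF r → X = ⊥ ∨
      finrank F X = ii qF r := by
    intro X hX hle
    rcases Nat.eq_zero_or_pos (finrank F X) with h0 | h0
    · exact Or.inl (Submodule.finrank_eq_zero.1 h0)
    · exact Or.inr (le_antisymm hle (Nat.le_of_dvd h0 (ii_dvd_of_inv hrF T hT hfree' hX)))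
  obtain ⟨M, hM0, hM, hMle⟩ := exists_minimal hrF T hT
  have hMd := (small M hM hMle).resolve_left hM0
  have hMi : ∀ X ≤ M, (∀ x ∈ X, T x ∈ X) → X = ⊥ ∨ X = M := fun X hXM hX => by
    rcases small X hX ((Submodule.finrank_mono hXM).trans hMle) with h | h
    · exact Or.inl h
    · exact Or.inr (Submodule.eq_of_le_of_finrank_eq hXM (by rw [h, hMd]))
  have nondegCase : ∀ X : Submodule F V, (∀ x ∈ X, T x ∈ X) → Nondeg (restr Q X) →
      finrank F X = ii qF r → finrank F X = cc qF r := by
    intro X hX hXn hXd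
    obtain ⟨s, hs, -⟩ := free_shape hXn hr2 hrF (restrictO g hX) (restrictO_pow_eq_one g hg hX)
      (fun x hx => Subtype.ext (hfree' x (congrArg Subtype.val hx)))
    have hi := ii_pos (F := F) hrF
    rw [hXd] at hs ⊢
    unfold cc at hs ⊢
    split_ifs at hs ⊢
    · rfl
    · rcases s with _ | s <;> simp only [Nat.zero_mul, Nat.succ_mul] at hs <;> omega
  rcases hMi (M ⊓ perp Q M) inf_le_left (fun x hx => ⟨hM x hx.1, inv_perp g hM x hx.2⟩) with hb | hM'
  · have hMn := (nondeg_restr_iff M).2 hb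
    exact ⟨M, hM, hMn, nondegCase M hM hMn hMd⟩
  -- `M` is totally isotropic; pair it with a complement of its perp
  have hMp : M ≤ perp Q M := inf_eq_left.1 hM'
  obtain ⟨N, hN, hNc⟩ := Linear.Elusive.exists_compl (squarefree_X_pow_sub_one hrF) (aeval_X_pow_sub_one hT)
    (U := perp Q M) (by rintro - ⟨x, hx, rfl⟩; exact inv_perp g hM x hx)
  have hN' : ∀ x ∈ N, T x ∈ N := fun x hx => hN ⟨x, hx, rfl⟩
  have hNd : finrank F N = ii qF r := by
    have := hQ.finrank_add_perp M
    have := Submodule.finrank_add_eq_of_isCompl hNc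
    omega
  have hW : ∀ x ∈ M ⊔ N, T x ∈ M ⊔ N := by
    intro x hx
    obtain ⟨a, ha, b, hb, rfl⟩ := Submodule.mem_sup.1 hx
    rw [map_add]
    exact Submodule.mem_sup.2 ⟨_, hM a ha, _, hN' b hb, rfl⟩
  have hMN : Disjoint M N := hNc.disjoint.mono_left hMp
  have hWd : finrank F (M ⊔ N : Submodule F V) = 2 * ii qF r := by
    have := Submodule.finrank_sup_add_finrank_inf_eq M N
    rw [hMN.eq_bot, finrank_bot] at this
    omega
  have hWn : Nondeg (restr Q (M ⊔ N)) := by
    rw [nondeg_restr_iff, eq_bot_iff]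
    rintro x ⟨hx, hxp⟩
    obtain ⟨a, ha, b, hb, rfl⟩ := Submodule.mem_sup.1 hx
    have hb' : b ∈ perp Q M := by
      have h := (perp Q M).sub_mem (perp_anti Q le_sup_left hxp) (hMp ha)
      rwa [add_sub_cancel_left] at h
    have hb0 : b = 0 := Submodule.disjoint_def.1 hNc.disjoint b hb' hb
    rw [hb0, add_zero] at hxp ⊢
    have haN : a ∈ perp Q N := perp_anti Q le_sup_right hxp
    have htop : a ∈ perp Q (perp Q M ⊔ N) := by
      rw [perp_sup]
      exact ⟨perp_perp_le Q M ha, haN⟩
    rwa [hNc.sup_eq_top, hQ.perp_top] at htop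
  by_cases he : Even (ii qF r)
  swap
  · exact ⟨M ⊔ N, hW, hWn, by rw [hWd, cc, if_neg he]⟩
  -- all vectors of `M ⊔ N` lie in invariant subspaces of dimension `i`
  obtain ⟨j, hj⟩ := he
  have hrj : ∃ k, qF ^ j + 1 = r * k := by
    refine (ZMod.natCast_eq_zero_iff _ r).1 ?_
    have hsq : ((qF : ZMod r) ^ j) ^ 2 = 1 := by
      rw [← pow_mul, show j * 2 = ii qF r by omega]; exact pow_orderOf_eq_one _
    rcases sq_eq_one_iff.1 hsq with h1 | h1
    · have := Nat.le_of_dvd (by have := ii_pos (F := F) hrF; omega) (orderOf_dvd_of_pow_eq_one h1)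
      change ii qF r ≤ j at this
      have := ii_pos (F := F) hrF
      omega
    · push_cast; rw [h1]; ring
  obtain ⟨k, hk⟩ := hrj
  set S : Module.End F M := T.restrict hM
  set f := LinearMap.charpoly S
  have hfM : ∀ x ∈ M, aeval T f x = 0 := by
    intro x hx
    have h := LinearMap.congr_fun (LinearMap.aeval_self_charpoly S) ⟨x, hx⟩
    have key : ∀ (p : Polynomial F) (y : M), ((aeval S p) y : V) = aeval T p (y : V) := by
      intro p
      induction p using Polynomial.induction_on' with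
      | add a b ha hb => intro y; simp [map_add, ha, hb]
      | monomial n a =>
        intro y
        simp only [Polynomial.aeval_monomial, Module.End.mul_apply, Module.algebraMap_end_apply,
          Submodule.coe_smul]
        congr 1
        induction n with
        | zero => rfl
        | succ n ih => rw [pow_succ', pow_succ', Module.End.mul_apply, Module.End.mul_apply, ← ih]; rfl
    rw [← key f ⟨x, hx⟩, h]; rfl
  have hinvM : ∀ x ∈ M, aeval (T ^ (qF ^ j)) f x = 0 := by
    intro x hx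
    have hexp : aeval (T ^ (qF ^ j)) f = aeval T f ^ (qF ^ j) := by
      have : ∀ n, aeval (T ^ (qF ^ n)) f = aeval T f ^ (qF ^ n) := by
        intro n
        induction n with
        | zero => simp
        | succ n ih =>
          rw [Nat.card_eq_fintype_card] at ih ⊢
          rw [pow_succ, pow_mul, pow_mul, ← Polynomial.expand_aeval, FiniteField.expand_card, map_pow, ih]
      exact this j
    have hs : aeval T f ^ (qF ^ j) = aeval T f ^ (qF ^ j - 1) * aeval T f := by
      rw [← pow_succ, Nat.sub_add_cancel (Nat.one_le_pow j qF Nat.card_pos)]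
    rw [hexp, hs, Module.End.mul_apply, hfM x hx, map_zero]
  have hTq : T * T ^ (qF ^ j) = 1 := by rw [← pow_succ', hk, pow_mul, hT, one_pow]
  have hfW : ∀ x ∈ M ⊔ N, aeval T f x = 0 := by
    intro x hx
    obtain ⟨a, ha, b, hb, rfl⟩ := Submodule.mem_sup.1 hx
    rw [map_add, hfM a ha, zero_add]
    refine Submodule.disjoint_def.1 hNc.disjoint _ ?_ (Linear.Elusive.Inv.aeval_mem hN f hb)
    intro w hw
    have adj : ∀ (p : Polynomial F) (y : V), polar Q w (aeval T p y) =
        polar Q (aeval (T ^ (qF ^ j)) p w) y := by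
      intro p
      induction p using Polynomial.induction_on' with
      | add a b ha hb => intro y; simp [map_add, polar_add_left, polar_add_right, ha, hb]
      | monomial n c =>
        intro y
        simp only [Polynomial.aeval_monomial, Module.End.mul_apply, Module.algebraMap_end_apply,
          polar_smul_left', polar_smul_right']
        congr 1
        induction n generalizing y with
        | zero => rfl
        | succ n ih =>
          rw [pow_succ, pow_succ', Module.End.mul_apply, ih, Module.End.mul_apply]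
          conv_lhs => rw [show ((T ^ (qF ^ j)) ^ n) w = T ((T ^ (qF ^ j)) (((T ^ (qF ^ j)) ^ n) w)) by
            rw [← Module.End.mul_apply T, hTq, Module.End.one_apply]]
          exact polar_linHom g _ y
    rw [adj, hinvM w hw, polar_zero_left]
  obtain ⟨⟨v, hv⟩, hQv⟩ := hWn.exists_value (by
    have := ii_pos (F := F) hrF
    rw [hWd]; omega) 1
  rw [restr_apply] at hQv
  set X := Submodule.span F (Set.range fun t : Fin f.natDegree => (T ^ (t : ℕ)) v) with hX
  have hfd : f.natDegree = ii qF r := by rw [LinearMap.charpoly_natDegree, hMd]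
  have hXinv : ∀ x ∈ X, T x ∈ X := by
    suffices X.map T ≤ X from fun x hx => this ⟨x, hx, rfl⟩
    rw [hX, Submodule.map_span_le]
    rintro - ⟨t, rfl⟩
    rw [← Module.End.mul_apply, ← pow_succ']
    by_cases ht : (t : ℕ) + 1 < f.natDegree
    · exact Submodule.subset_span ⟨⟨_, ht⟩, rfl⟩
    · have hte : (t : ℕ) + 1 = f.natDegree := by have := t.2; omega
      have hfv := hfW v hv
      rw [hte]
      rw [Polynomial.aeval_eq_sum_range, Finset.sum_range_succ, (LinearMap.charpoly_monic S).coeff_natDegree,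
        one_smul, LinearMap.add_apply, LinearMap.sum_apply, add_eq_zero_iff_eq_neg'] at hfv
      rw [hfv]
      exact Submodule.neg_mem _ (Submodule.sum_mem _ fun k hk =>
        Submodule.smul_mem _ _ (Submodule.subset_span ⟨⟨k, Finset.mem_range.1 hk⟩, rfl⟩))
  have hXle : finrank F X ≤ ii qF r :=
    (finrank_range_le_card (R := F) fun t : Fin f.natDegree => (T ^ (t : ℕ)) v).trans
      (by rw [Fintype.card_fin, hfd])
  have hv0 : v ≠ 0 := fun h => by simp [h] at hQv
  have hvX : v ∈ X := Submodule.subset_span ⟨⟨0, by rw [hfd]; exact ii_pos hrF⟩, by simp⟩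
  have hXd : finrank F X = ii qF r := (small X hXinv hXle).resolve_left fun hb => hv0 (by
    rwa [hb, Submodule.mem_bot] at hvX)
  have hirr : ∀ Y ≤ X, (∀ x ∈ Y, T x ∈ Y) → Y = ⊥ ∨ Y = X := fun Y hY hYi => by
    rcases small Y hYi ((Submodule.finrank_mono hY).trans hXle) with h | h
    · exact Or.inl h
    · exact Or.inr (Submodule.eq_of_le_of_finrank_eq hY (by rw [h, hXd]))
  rcases hirr (X ⊓ perp Q X) inf_le_left (fun x hx => ⟨hXinv x hx.1, inv_perp g hXinv x hx.2⟩) with hb | hX'
  · have hXn := (nondeg_restr_iff X).2 hb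
    exact ⟨X, hXinv, hXn, nondegCase X hXinv hXn hXd⟩
  · exfalso
    have hXp : ∀ a ∈ X, ∀ b ∈ X, polar Q a b = 0 := fun a ha b hb =>
      (hX'.symm ▸ hb : b ∈ X ⊓ perp Q X).2 a ha
    -- the singular vectors of `X` form a nonzero invariant subspace
    let Y : Submodule F V :=
      { carrier := {x | x ∈ X ∧ Q x = 0}
        add_mem' := fun {a b} ha hb => ⟨X.add_mem ha.1 hb.1, by
          rw [map_add_polar, ha.2, hb.2, hXp a ha.1 b hb.1]; ring⟩
        zero_mem' := ⟨X.zero_mem, QuadraticMap.map_zero Q⟩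
        smul_mem' := fun c a ha => ⟨X.smul_mem c ha.1, by rw [qmap_smul, ha.2, mul_zero]⟩ }
    rcases hirr Y (fun x hx => hx.1) (fun x hx => ⟨hXinv x hx.1, (O.map_app g x).trans hx.2⟩) with hb | hY
    · by_cases h2 : (2 : F) = 0
      · obtain ⟨t, ht⟩ := isSquare_of_two_eq_zero h2 (Q ((T v)))
        have hmem : T v - t • v ∈ Y := ⟨X.sub_mem (hXinv v hvX) (X.smul_mem t hvX), by
          rw [qmap_sub, qmap_smul, hQv, polar_smul_right', hXp _ (hXinv v hvX) _ hvX, ht]
          linear_combination (t ^ 2) * h2⟩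
        rw [hb, Submodule.mem_bot, sub_eq_zero] at hmem
        have ht1 : t ^ 2 = 1 := by
          have := O.map_app g v
          rw [show (g : V ≃ₗ[F] V) v = T v from rfl, hmem, qmap_smul, hQv, mul_one] at this
          exact this
        have ht' : t = 1 := by
          rcases sq_eq_one_iff.1 ht1 with h | h
          · exact h
          · rw [h]; linear_combination -h2
        exact hv0 (hfree' v (by rw [hmem, ht', one_smul]))
      · have := hXp v hvX v hvX
        rw [polar_self', hQv, mul_one] at this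
        exact h2 this
    · have : v ∈ Y := hY ▸ hvX
      rw [this.2] at hQv
      exact zero_ne_one hQv

/-- Any number of pieces up to the maximum. -/
theorem exists_pieces (hQ : Nondeg Q) (hr2 : r ≠ 2) (hrF : (r : F) ≠ 0) (g : O Q) (hg : g ^ r = 1)
    {s : ℕ} (hs : finrank F (perp Q (fixS g)) = s * cc qF r) :
    ∀ a, a ≤ s → ∃ A : Submodule F V, A ≤ perp Q (fixS g) ∧ (∀ x ∈ A, (g : V ≃ₗ[F] V) x ∈ A) ∧
      Nondeg (restr Q A) ∧ finrank F A = a * cc qF r ∧ sg (restr Q A) = ee qF r ^ a := by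
  intro a
  induction a with
  | zero =>
    exact fun _ => ⟨⊥, bot_le, fun x hx => by rw [(Submodule.mem_bot F).1 hx, map_zero]; exact zero_mem _,
      nondeg_bot, by simp, by rw [pow_zero]; exact sg_of_zero nondeg_bot (finrank_bot F V)⟩
  | succ a ih =>
    intro ha
    obtain ⟨A, hAU, hAi, hAn, hAd, -⟩ := ih (by omega)
    obtain ⟨hC, hU, -⟩ := shape hQ hr2 hrF g hg
    set U := perp Q (fixS g) with hUdef
    set R := U ⊓ perp Q A
    have hRi : ∀ x ∈ R, (g : V ≃ₗ[F] V) x ∈ R := fun x hx =>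
      ⟨inv_perp g (fun y hy => by rw [mem_fixS.1 hy]; exact hy) x hx.1, inv_perp g hAi x hx.2⟩
    have hdisj := (nondeg_restr_iff A).1 hAn
    have hcompl := hQ.isCompl_perp hAn
    have hAR : A ⊔ R = U := by
      rw [show R = perp Q A ⊓ U from inf_comm _ _, ← sup_inf_assoc_of_le _ hAU, hcompl.sup_eq_top, top_inf_eq]
    have hARd : Disjoint A R := hcompl.disjoint.mono_right inf_le_right
    have hRn : Nondeg (restr Q R) := by
      rw [nondeg_restr_iff, eq_bot_iff]
      rintro x ⟨hx, hxp⟩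
      have : x ∈ U ⊓ perp Q U := ⟨hx.1, by
        rw [← hAR, perp_sup]; exact ⟨hx.2, hxp⟩⟩
      rwa [(nondeg_restr_iff U).1 hU] at this
    have hRd : finrank F R = s * cc qF r - a * cc qF r := by
      have := Submodule.finrank_sup_add_finrank_inf_eq A R
      rw [hAR, hARd.eq_bot, finrank_bot, hs, hAd] at this
      omega
    have hpos : 0 < finrank F R := by
      rw [hRd, Nat.sub_pos_iff_lt]
      exact (Nat.mul_lt_mul_right (cc_pos hrF)).2 (by omega)
    haveI : Nontrivial R := Module.finrank_pos_iff.1 hpos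
    have hfreeU : ∀ x ∈ U, (g : V ≃ₗ[F] V) x = x → x = 0 := fun x hx hfx => by
      have : x ∈ fixS g ⊓ perp Q (fixS g) := ⟨mem_fixS.2 hfx, hx⟩
      rwa [(nondeg_restr_iff _).1 hC, Submodule.mem_bot] at this
    obtain ⟨X, hXi, hXn, hXd⟩ := exists_piece hRn hr2 hrF (restrictO g hRi) (restrictO_pow_eq_one g hg hRi)
      (fun x hx => Subtype.ext (hfreeU x x.2.1 (congrArg Subtype.val hx)))
    set Y := X.map R.subtype
    have hYR : Y ≤ R := by rintro - ⟨x, -, rfl⟩; exact x.2
    have hYd : finrank F Y = cc qF r := by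
      rw [← hXd]
      exact (Submodule.equivMapOfInjective _ R.injective_subtype X).finrank_eq.symm
    have hYn : Nondeg (restr Q Y) := by
      rw [nondeg_restr_iff, eq_bot_iff]
      rintro - ⟨⟨x, hx, rfl⟩, hxp⟩
      have : x ∈ X ⊓ perp (restr Q R) X := ⟨hx, fun w hw => by
        rw [polar_restr]; exact hxp _ ⟨w, hw, rfl⟩⟩
      rw [(nondeg_restr_iff X).1 hXn, Submodule.mem_bot] at this
      simp [this]
    have hYi : ∀ x ∈ Y, (g : V ≃ₗ[F] V) x ∈ Y := by
      rintro - ⟨x, hx, rfl⟩
      exact ⟨_, hXi x hx, rfl⟩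
    have hAYd : Disjoint A Y := hARd.mono_right hYR
    have ho : ∀ x ∈ A, ∀ y ∈ Y, polar Q x y = 0 := fun x hx y hy => (hYR hy).2 x hx
    have hd : finrank F (A ⊔ Y : Submodule F V) = (a + 1) * cc qF r := by
      have := Submodule.finrank_sup_add_finrank_inf_eq A Y
      rw [hAYd.eq_bot, finrank_bot, hAd, hYd] at this
      rw [Nat.succ_mul]; omega
    have hn : Nondeg (restr Q (A ⊔ Y)) := by
      rw [nondeg_restr_iff, eq_bot_iff]
      rintro x ⟨hx, hxp⟩
      obtain ⟨u, hu, w, hw, rfl⟩ := Submodule.mem_sup.1 hx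
      have hu' : u ∈ A ⊓ perp Q A := ⟨hu, fun z hz => by
        have := hxp z (Submodule.mem_sup_left hz)
        rwa [polar_add_right, ho z hz w hw, add_zero] at this⟩
      rw [hdisj, Submodule.mem_bot] at hu'
      rw [hu', zero_add] at hxp ⊢
      have hw' : w ∈ Y ⊓ perp Q Y := ⟨hw, perp_anti Q le_sup_right hxp⟩
      rwa [(nondeg_restr_iff Y).1 hYn] at hw'
    have hinv : ∀ x ∈ A ⊔ Y, (g : V ≃ₗ[F] V) x ∈ A ⊔ Y := by
      intro x hx
      obtain ⟨u, hu, w, hw, rfl⟩ := Submodule.mem_sup.1 hx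
      rw [map_add]
      exact Submodule.mem_sup.2 ⟨_, hAi u hu, _, hYi w hw, rfl⟩
    refine ⟨A ⊔ Y, sup_le hAU (hYR.trans inf_le_left), hinv, hn, hd, ?_⟩
    obtain ⟨t, ht, hsg⟩ := free_shape hn hr2 hrF (restrictO g hinv) (restrictO_pow_eq_one g hg hinv)
      (fun x hx => Subtype.ext (hfreeU x (sup_le hAU (hYR.trans inf_le_left) x.2) (congrArg Subtype.val hx)))
    rw [hd] at ht
    rw [hsg, Nat.eq_of_mul_eq_mul_right (cc_pos hrF) ht]

end Cfsg.Agent.H58.Elusive
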