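import Cfsg.Agent.H58.Elusive.Translate

/-!
The order two criterion in terms of residues of `q` and the dimensions.
-/

set_option autoImplicit false
set_option linter.unusedSectionVars false

namespace Cfsg.Agent.H58.Elusive

open Module QuadraticMap Orthogonal

variable {F : Type*} [Field F] [Fintype F] {q : ℕ}

theorem chi_pow_one (hq : Fintype.card F = q) (hodd : Odd q) (a : ℕ) :
    chiSign F ^ a = 1 ↔ Even a ∨ q % 4 = 1 := by
  subst hq
  rcases chi_or (F := F) with h | h
  · rw [h, one_pow]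
    exact ⟨fun _ => Or.inr ((chiSign_eq hodd).1.1 h), fun _ => rfl⟩
  · rw [h, neg_one_pow_eq.1]
    have := (chiSign_eq hodd).2.1 h
    exact ⟨Or.inl, fun h' => h'.resolve_right (by omega)⟩

theorem chi_pow_neg (hq : Fintype.card F = q) (hodd : Odd q) (a : ℕ) :
    chiSign F ^ a = -1 ↔ Odd a ∧ q % 4 = 3 := by
  subst hq
  rcases chi_or (F := F) with h | h
  · rw [h, one_pow]
    have := (chiSign_eq hodd).1.1 h
    exact ⟨fun h' => absurd h' (by norm_num), fun h' => absurd h'.2 (by omega)⟩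
  · rw [h, neg_one_pow_eq.2]
    exact ⟨fun h' => ⟨h', (chiSign_eq hodd).2.1 h⟩, And.left⟩

variable {V : Type*} [AddCommGroup V] [Module F V] [FiniteDimensional F V] {Q : QuadraticForm F V}

theorem quarter_plus (hq : Fintype.card F = q) (hodd : Odd q) {d : ℕ} (hn : finrank F V = 2 * d) (hs : sg Q = 1) :
    QuarterOK Q ↔ Even d ∨ q % 8 = 1 := by
  subst hq
  unfold QuarterOK
  rw [hn, Nat.mul_div_cancel_left _ two_pos, hs, eq_comm (a := (1 : ℤ)), chi_pow_one rfl hodd, units_pow_eq_one,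
    sqSign_two hodd]
  refine ⟨fun h => ?_, fun h => ?_⟩
  · rcases h with ⟨-, h1 | h1, h3 | h3⟩
    all_goals first
      | exact Or.inl ‹_›
      | exact Or.inr (by omega)
  · rcases h with h | h
    · exact ⟨even_two_mul d, Or.inl h, Or.inl h⟩
    · exact ⟨even_two_mul d, Or.inr (by omega), Or.inr (Or.inl h)⟩

theorem quarter_minus (hq : Fintype.card F = q) (hodd : Odd q) {d : ℕ} (hn : finrank F V = 2 * d) (hs : sg Q = -1) :
    QuarterOK Q ↔ Odd d ∧ q % 8 = 7 := by
  subst hq
  unfold QuarterOK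
  rw [hn, Nat.mul_div_cancel_left _ two_pos, hs, eq_comm (a := (-1 : ℤ)), chi_pow_neg rfl hodd, units_pow_eq_one,
    sqSign_two hodd]
  refine ⟨fun h => ?_, fun h => ?_⟩
  · obtain ⟨-, ⟨h1, h3⟩, h4⟩ := h
    rcases h4 with h4 | h4
    · exact absurd h1 (Nat.not_odd_iff_even.2 h4)
    · exact ⟨h1, by omega⟩
  · exact ⟨even_two_mul d, ⟨h.1, by omega⟩, Or.inr (Or.inr h.2)⟩

omit [Fintype F]

theorem odd_char_of_card {F : Type*} [Field F] [Fintype F] {p q : ℕ} [Fact p.Prime] [CharP F p]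
    (hq : Fintype.card F = q) (hp : p ≠ 2) : Odd q := by
  obtain ⟨n, -, hn⟩ := FiniteField.card F p
  rw [← hq, hn]
  exact ((Fact.out : p.Prime).odd_of_ne_two hp).pow

theorem char_ne_two_of_odd {F : Type*} [Field F] [Fintype F] {p q : ℕ} [Fact p.Prime] [CharP F p]
    (hq : Fintype.card F = q) (hodd : Odd q) : p ≠ 2 := by
  rintro rfl
  exact two_ne_zero_of_odd_card (hq.symm ▸ hodd) CharTwo.two_eq_zero

/-- Equal residues add their quotients. -/
theorem add_div_eq {n m c : ℕ} (hc : 0 < c) (h : m % c = n % c) : (n + m - 2 * (n % c)) / c = n / c + m / c := by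
  have h1 := Nat.mod_add_div n c
  have h2 := Nat.mod_add_div m c
  rw [show n + m - 2 * (n % c) = c * (n / c + m / c) by rw [mul_add]; omega, Nat.mul_div_cancel_left _ hc]

end Cfsg.Agent.H58.Elusive
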