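import Cfsg.Agent.H68.EvenOrtho
import Cfsg.Agent.Orthogonal.Extend

/-!
The sign of an even-dimensional nondegenerate space over a finite field, its multiplicativity on orthogonal
sums, and its meaning in terms of totally singular subspaces.
-/

set_option autoImplicit false
set_option linter.unusedSectionVars false

namespace Cfsg.Agent.H58.Elusive

open Module QuadraticMap Orthogonal H68.EvenOrtho

variable {F V W : Type*} [Field F] [Finite F] [AddCommGroup V] [Module F V] [FiniteDimensional F V]
  [AddCommGroup W] [Module F W] [FiniteDimensional F W]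
variable {Q : QuadraticForm F V}

open scoped Classical in
/-- The sign of an even-dimensional space. -/
noncomputable def sg (Q : QuadraticForm F V) : ℤ :=
  if HasSign Q (finrank F V / 2) 1 then 1 else -1

theorem sg_or (Q : QuadraticForm F V) : sg Q = 1 ∨ sg Q = -1 := by
  classical
  unfold sg; split_ifs <;> simp

theorem sg_ne_zero (Q : QuadraticForm F V) : sg Q ≠ 0 := by
  rcases sg_or Q with h | h <;> rw [h] <;> decide

theorem sg_mul_self (Q : QuadraticForm F V) : sg Q * sg Q = 1 := by
  rcases sg_or Q with h | h <;> rw [h] <;> decide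

theorem hasSign_sg (hQ : Nondeg Q) {m : ℕ} (hn : finrank F V = 2 * m) : HasSign Q m (sg Q) := by
  classical
  have hm : finrank F V / 2 = m := by omega
  unfold sg
  rw [hm]
  split_ifs with h
  · exact h
  · exact (sign_or hQ hn).resolve_left h

theorem sg_eq (hQ : Nondeg Q) {m : ℕ} (hn : finrank F V = 2 * m) {ε : ℤ} (h : HasSign Q m ε) :
    sg Q = ε := (hasSign_sg hQ hn).unique h

theorem sg_congr {Q' : QuadraticForm F W} (E : W ≃ₗ[F] V) (hE : ∀ x, Q (E x) = Q' x) :
    sg Q' = sg Q := by
  classical
  unfold sg
  rw [E.finrank_eq]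
  refine if_congr ⟨fun h => ?_, fun h => h.congr E hE⟩ rfl rfl
  exact h.congr E.symm fun x => by rw [← hE, E.apply_symm_apply]

theorem sg_of_zero (hQ : Nondeg Q) (hn : finrank F V = 0) : sg Q = 1 := by
  refine sg_eq hQ (m := 0) (by omega) ?_
  haveI : Subsingleton V := Module.finrank_zero_iff.1 hn
  have : Nat.card {x : V // Q x = 1} = 0 := by
    rw [Nat.card_eq_zero]
    exact Or.inl ⟨fun x => zero_ne_one (α := F) (by rw [← x.2, Subsingleton.elim x.1 0, QuadraticMap.map_zero])⟩
  unfold HasSign
  rw [this]
  simp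

open scoped Classical in
/-- The number of vectors of every norm. -/
theorem sphere_all (hQ : Nondeg Q) {m : ℕ} (hn : finrank F V = 2 * m) (c : F) :
    (Nat.card F : ℤ) * Nat.card {x : V // Q x = c} + sg Q * (Nat.card F : ℤ) ^ m =
      (Nat.card F : ℤ) ^ (2 * m) + if c = 0 then sg Q * (Nat.card F : ℤ) ^ (m + 1) else 0 := by
  obtain ⟨k, e, f, h, ha⟩ := hQ.exists_frame
  have hs := sg_eq hQ hn (sign_frame hQ h ha hn)
  obtain ⟨h1, h2⟩ := sphereCard_frame h c
  have hr := h.finrank_kernel hQ
  have hle := finrank_le_two_of_aniso (h.nondeg_kernel hQ) ha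
  rw [sphereCard_top, h2, natCard_eq_pow] at h1
  rw [hs]
  by_cases hk : k = m
  · subst hk
    rw [if_pos rfl]
    have h0 : finrank F (IsFrame.kernel Q e f) = 0 := by omega
    have hb := Submodule.finrank_eq_zero.1 h0
    have hS : sphereCard Q (IsFrame.kernel Q e f) c = if c = 0 then 1 else 0 := by
      split_ifs with hc
      · subst hc; exact sphereCard_zero_of_aniso ha
      · rw [sphereCard, Nat.card_eq_zero]
        refine Or.inl ⟨fun x => hc ?_⟩
        have hx : (x.1 : V) = 0 := (Submodule.mem_bot F).1 (hb ▸ x.1.2)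
        rw [← x.2, hx, QuadraticMap.map_zero]
    rw [h0, hS, pow_zero, mul_one, mul_one] at h1
    have := congrArg (Nat.cast : ℕ → ℤ) h1
    push_cast at this
    split_ifs at this ⊢ <;> linarith
  · rw [if_neg hk]
    have h2' : finrank F (IsFrame.kernel Q e f) = 2 := by omega
    obtain rfl : m = k + 1 := by omega
    have hS : sphereCard Q (IsFrame.kernel Q e f) c = if c = 0 then 1 else Nat.card F + 1 := by
      split_ifs with hc
      · subst hc; exact sphereCard_zero_of_aniso ha
      · exact (h.nondeg_kernel hQ).card_sphere_plane h2' (fun x hx => Subtype.ext (ha x x.2 hx)) hc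
    rw [h2', hS] at h1
    have := congrArg (Nat.cast : ℕ → ℤ) h1
    push_cast at this
    split_ifs at this ⊢ <;> linear_combination this

/-- A totally singular subspace is no larger than the length of a frame with anisotropic kernel. -/
theorem finrank_le_frame {V : Type*} [AddCommGroup V] [Module F V] [FiniteDimensional F V]
    {Q : QuadraticForm F V} (hQ : Nondeg Q) {k : ℕ} {e f : Fin k → V} (h : IsFrame Q e f)
    (ha : Aniso Q (IsFrame.kernel Q e f)) {U : Submodule F V} (hU : TotSing Q U) :
    finrank F U ≤ k := by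
  set E := Submodule.span F (Set.range e) with hEdef
  have hEs : TotSing Q E := by
    have hp : ∀ x ∈ E, ∀ i, polar Q (e i) x = 0 := by
      intro x hx i
      induction hx using Submodule.span_induction with
      | mem y hy => obtain ⟨j, rfl⟩ := hy; exact h.ee i j
      | zero => exact polar_zero_right (Q := Q) _
      | add y z _ _ ay az => rw [polar_add_right, ay, az, add_zero]
      | smul a y _ ay => rw [polar_smul_right', ay, mul_zero]
    intro x hx
    induction hx using Submodule.span_induction with
    | mem y hy => obtain ⟨j, rfl⟩ := hy; exact h.qe j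
    | zero => exact QuadraticMap.map_zero Q
    | add y z hy hz ay az =>
      rw [map_add_polar, ay, az]
      have : polar Q y z = 0 := by
        clear ay
        induction hy using Submodule.span_induction with
        | mem y hy => obtain ⟨j, rfl⟩ := hy; exact hp z hz j
        | zero => exact polar_zero_left (Q := Q) _
        | add a b _ _ ha hb => rw [polar_add_left, ha, hb, add_zero]
        | smul a y _ ay => rw [polar_smul_left', ay, mul_zero]
      rw [this]; ring
    | smul a y _ ay => rw [qmap_smul, ay, mul_zero]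
  have hEd : finrank F E = k := by
    have hli : LinearIndependent F e := h.linearIndependent.comp Sum.inl Sum.inl_injective
    exact (congrArg (fun X : Submodule F V => finrank F X) hEdef).trans
      ((finrank_span_eq_card hli).trans (Fintype.card_fin k))
  by_contra hlt
  obtain ⟨g, hg⟩ := hEs.exists_map_le hQ hU (by omega)
  have hback : ∀ i, (g : V ≃ₗ[F] V) (e i) ∈ U := fun i =>
    hg ⟨e i, Submodule.subset_span ⟨i, rfl⟩, rfl⟩
  have hsub : U ≤ E.map ((g : V ≃ₗ[F] V) : V →ₗ[F] V) := by
    intro u hu
    obtain ⟨x, rfl⟩ := (g : V ≃ₗ[F] V).surjective u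
    refine ⟨x, ?_, rfl⟩
    have hpe : ∀ i, polar Q (e i) x = 0 := fun i => by
      rw [← O.polar_app g]; exact hU.polar_eq (hback i) hu
    have hQx : Q x = 0 := by rw [← O.map_app g]; exact hU _ hu
    obtain ⟨a, ha', b, hb', rfl⟩ := Submodule.mem_sup.1
      (show x ∈ IsFrame.hspan (F := F) e f ⊔ IsFrame.kernel Q e f by
        rw [(h.isCompl_kernel hQ).sup_eq_top]; trivial)
    obtain ⟨co, rfl⟩ := (Submodule.mem_span_range_iff_exists_fun F).1 ha'
    have hk' := IsFrame.mem_kernel.1 hb'
    have hf0 : ∀ i, co (Sum.inr i) = 0 := fun i => by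
      have := hpe i
      rw [polar_add_right, hk'.1 i, add_zero, ← polarBilin_apply', map_sum, Fintype.sum_sum_type] at this
      simpa [h.ef, h.ee] using this
    have hin : (∑ s, co s • Sum.elim e f s) ∈ E := by
      rw [Fintype.sum_sum_type]
      simp only [Sum.elim_inl, Sum.elim_inr, hf0, zero_smul, Finset.sum_const_zero, add_zero]
      exact E.sum_mem fun i _ => E.smul_mem _ (Submodule.subset_span ⟨i, rfl⟩)
    have hb0 : b = 0 := by
      refine ha b hb' ?_
      have hp0 : polar Q (∑ s, co s • Sum.elim e f s) b = 0 := hb' _ ha'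
      rw [map_add_polar, hEs _ hin, hp0, zero_add, add_zero] at hQx
      exact hQx
    rw [hb0, add_zero]
    exact hin
  have := (Submodule.finrank_mono hsub).trans_eq (LinearEquiv.finrank_map_eq _ _)
  omega

/-- Sign `+` means a totally singular subspace of half the dimension. -/
theorem sg_eq_one_iff (hQ : Nondeg Q) {m : ℕ} (hn : finrank F V = 2 * m) :
    sg Q = 1 ↔ ∃ U : Submodule F V, TotSing Q U ∧ finrank F U = m := by
  obtain ⟨k, e, f, h, ha⟩ := hQ.exists_frame
  have hs := sg_eq hQ hn (sign_frame hQ h ha hn)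
  have hr := h.finrank_kernel hQ
  constructor
  · intro h1
    have hk : k = m := by
      by_contra hne
      rw [if_neg hne, h1] at hs
      omega
    subst hk
    refine ⟨Submodule.span F (Set.range e), fun x hx => ?_, ?_⟩
    · obtain ⟨c, rfl⟩ := (Submodule.mem_span_range_iff_exists_fun F).1 hx
      have : ∀ s : Finset (Fin k), Q (∑ i ∈ s, c i • e i) = 0 := by
        intro s
        induction s using Finset.induction_on with
        | empty => simp
        | insert i s hi ih =>
          rw [Finset.sum_insert hi, map_add_polar, qmap_smul, h.qe, ih, ← polarBilin_apply', map_sum]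
          simp [h.ee]
      exact this _
    · have hli : LinearIndependent F e := h.linearIndependent.comp Sum.inl Sum.inl_injective
      exact (finrank_span_eq_card hli).trans (Fintype.card_fin k)
  · rintro ⟨U, hU, hd⟩
    have := finrank_le_frame hQ h ha hU
    rw [hs, if_pos (by omega)]

/-- The sign of an orthogonal sum is the product of the signs. -/
theorem sg_sum (hQ : Nondeg Q) {A B : Submodule F V} (hc : IsCompl A B)
    (ho : ∀ x ∈ A, ∀ y ∈ B, polar Q x y = 0) (hA : Nondeg (restr Q A)) (hB : Nondeg (restr Q B))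
    (hAe : Even (finrank F A)) (hBe : Even (finrank F B)) :
    sg Q = sg (restr Q A) * sg (restr Q B) := by
  classical
  obtain ⟨a, ha⟩ := hAe
  obtain ⟨b, hb⟩ := hBe
  rw [← two_mul] at ha hb
  have hn : finrank F V = 2 * (a + b) := by
    rw [← Submodule.finrank_add_eq_of_isCompl hc, ha, hb]; ring
  refine sg_eq hQ hn ?_
  haveI : Finite V := Module.finite_of_finite F
  haveI : Fintype F := Fintype.ofFinite F
  let E := Submodule.prodEquivOfIsCompl A B hc
  have hE : ∀ p : A × B, Q (E p) = restr Q A p.1 + restr Q B p.2 := fun p => by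
    show Q ((p.1 : V) + p.2) = Q p.1 + Q p.2
    rw [map_add_polar, ho _ p.1.2 _ p.2.2, add_zero]
  have hsum : Nat.card {x : V // Q x = 1} =
      ∑ c : F, Nat.card {x : A // restr Q A x = c} * Nat.card {y : B // restr Q B y = 1 - c} := by
    simp only [← Nat.card_prod, ← Nat.card_sigma]
    refine (Nat.card_eq_of_bijective (fun s : Σ c : F, {x : A // restr Q A x = c} ×
      {y : B // restr Q B y = 1 - c} => (⟨E (s.2.1.1, s.2.2.1), by
        rw [hE, s.2.1.2, s.2.2.2, add_sub_cancel]⟩ : {x : V // Q x = 1})) ⟨?_, ?_⟩).symm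
    · rintro ⟨c, ⟨u, hu⟩, ⟨v, hv⟩⟩ ⟨c', ⟨u', hu'⟩, ⟨v', hv'⟩⟩ heq
      have h' : E (u, v) = E (u', v') := by
        have := congrArg (fun x : {x : V // Q x = 1} => (x : V)) heq
        exact this
      obtain ⟨rfl, rfl⟩ := Prod.mk.inj (E.injective h')
      obtain rfl : c = c' := hu ▸ hu'
      rfl
    · rintro ⟨x, hx⟩
      obtain ⟨⟨u, v⟩, rfl⟩ := E.surjective x
      rw [hE] at hx
      exact ⟨⟨restr Q A u, ⟨u, rfl⟩, ⟨v, eq_sub_of_add_eq' hx⟩⟩, rfl⟩
  set q : ℤ := (Nat.card F : ℤ) with hq
  have hq0 : q ≠ 0 := by rw [hq]; exact_mod_cast (Nat.card_pos (α := F)).ne'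
  set s := sg (restr Q A)
  set t := sg (restr Q B)
  have h2 : ∑ c : F, (q * Nat.card {x : A // restr Q A x = c}) * (q * Nat.card {y : B // restr Q B y = 1 - c}) =
      q * q * Nat.card {x : V // Q x = 1} := by
    rw [hsum, Nat.cast_sum, Finset.mul_sum]
    exact Finset.sum_congr rfl fun c _ => by push_cast; ring
  have hAc : ∀ c : F, q * Nat.card {x : A // restr Q A x = c} =
      (q ^ (2 * a) - s * q ^ a) + if c = 0 then s * q ^ (a + 1) else 0 := fun c => by
    linarith [sphere_all hA ha c]
  have hBc : ∀ c : F, q * Nat.card {y : B // restr Q B y = 1 - c} =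
      (q ^ (2 * b) - t * q ^ b) + if c = 1 then t * q ^ (b + 1) else 0 := fun c => by
    have := sphere_all hB hb (1 - c)
    rw [show (1 - c = 0) = (c = 1) from propext (sub_eq_zero.trans eq_comm)] at this
    linarith
  simp only [hAc, hBc, add_mul, mul_add, Finset.sum_add_distrib, ← Finset.mul_sum,
    ite_mul, mul_ite, zero_mul, mul_zero, Finset.sum_ite_eq', Finset.mem_univ, if_true,
    if_neg (one_ne_zero (α := F)), Finset.sum_const, Finset.card_univ, nsmul_eq_mul,
    ← Nat.card_eq_fintype_card] at h2
  unfold HasSign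
  rw [← hq] at *
  refine mul_left_cancel₀ hq0 ?_
  linear_combination (-1 : ℤ) * h2

end Cfsg.Agent.H58.Elusive
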