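import Cfsg.Agent.H58.Elusive.Bridge
import Cfsg.Agent.Orthogonal.Spinor

/-!
Elements of order two modulo scalars in odd characteristic and the nondegenerate subspaces they fix.
-/

set_option autoImplicit false
set_option linter.unusedSectionVars false
set_option linter.style.haveILetI false

namespace Cfsg.Agent.H58.Elusive

open Module QuadraticMap Orthogonal H68.EvenOrtho H53

variable {F V : Type*} [Field F] [Finite F] [AddCommGroup V] [Module F V] [FiniteDimensional F V]
variable {Q : QuadraticForm F V} {W₀ : Submodule F V}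

open scoped Classical in
/-- The sign of a plane with an isometry whose square is `-1`. -/
noncomputable def chiSign (F : Type*) [Field F] : ℤ := if IsSquare (-1 : F) then 1 else -1

theorem chi_or : chiSign F = 1 ∨ chiSign F = -1 := by
  classical
  unfold chiSign; split_ifs <;> simp

theorem chi_pow_or (a : ℕ) : chiSign F ^ a = 1 ∨ chiSign F ^ a = -1 := by
  rcases chi_or (F := F) with h | h <;> rw [h]
  · simp
  · exact neg_one_pow_eq_or ℤ a

/-- Nondegenerate subspaces of every dimension. -/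
theorem exists_nondeg_sub (h2 : (2 : F) ≠ 0) {Y : Submodule F V} (hQ : Nondeg Q)
    (hY : Nondeg (restr Q Y)) : ∀ j, j ≤ finrank F Y →
      ∃ Z ≤ Y, Nondeg (restr Q Z) ∧ finrank F Z = j := by
  intro j
  induction j with
  | zero => exact fun _ => ⟨⊥, bot_le, nondeg_bot, finrank_bot F V⟩
  | succ j ih =>
    intro hj
    obtain ⟨Z, hZY, hZn, hZd⟩ := ih (by omega)
    obtain ⟨hRn, hRsup, hRd, hRo⟩ := compl_in hQ hZn hY hZY
    set R := Y ⊓ perp Q Z
    obtain ⟨v, hv, hQv⟩ : ∃ v ∈ R, Q v ≠ 0 := by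
      by_contra hall
      push Not at hall
      haveI : Nontrivial R := Module.finrank_pos_iff.1 (show 0 < finrank F R by omega)
      obtain ⟨x, hx⟩ := exists_ne (0 : R)
      refine hx (hRn x fun y => ?_)
      rw [polar_restr]
      simp only [polar, hall _ (R.add_mem x.2 y.2), hall _ x.2, hall _ y.2, sub_zero]
    have hv0 : v ≠ 0 := fun h => hQv (by rw [h, QuadraticMap.map_zero])
    have hLn : Nondeg (restr Q (Submodule.span F {v})) := by
      rw [nondeg_restr_iff, eq_bot_iff]
      rintro x ⟨hx, hxp⟩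
      obtain ⟨t, rfl⟩ := Submodule.mem_span_singleton.1 hx
      have h := hxp v (Submodule.mem_span_singleton_self v)
      rw [polar_smul_right', polar_self'] at h
      have ht : t = 0 := by
        rcases mul_eq_zero.1 h with h' | h'
        · exact h'
        · exact absurd ((mul_eq_zero.1 h').resolve_left h2) hQv
      simp [ht]
    have ho : ∀ x ∈ Z, ∀ y ∈ Submodule.span F {v}, polar Q x y = 0 := by
      intro x hx y hy
      obtain ⟨t, rfl⟩ := Submodule.mem_span_singleton.1 hy
      rw [polar_smul_right', hv.2 x hx, mul_zero]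
    refine ⟨Z ⊔ Submodule.span F {v}, sup_le hZY ((Submodule.span_singleton_le_iff_mem _ _).2 hv.1),
      nondeg_sup hZn hLn ho, ?_⟩
    have := Submodule.finrank_sup_add_finrank_inf_eq Z (Submodule.span F {v})
    rw [(disjoint_of_ortho hZn ho).eq_bot, finrank_bot, hZd, finrank_span_singleton hv0] at this
    omega

/-- An involution with moved space of dimension at least two fixes a member of every orbit. -/
theorem invol_fixes (hQ : Nondeg Q) (h2 : (2 : F) ≠ 0) (hW₀ : Nondeg (restr Q W₀))
    (hm : 0 < finrank F W₀) (hmn : finrank F W₀ < finrank F V) (g : O Q) (hg : g ^ 2 = 1)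
    (hU : 2 ≤ finrank F (perp Q (fixS g))) : Fixes Q W₀ g := by
  obtain ⟨hE, heq⟩ := perp_fix hQ g (k := 2) (by exact_mod_cast h2) hg
  have hneg : ∀ x ∈ perp Q (fixS g), (g : V ≃ₗ[F] V) x = -x := by
    intro x hx
    rw [fixS, heq] at hx
    obtain ⟨z, rfl⟩ := hx
    have h := LinearMap.congr_fun (linHom_pow_one g hg) z
    rw [pow_two, Module.End.mul_apply, Module.End.one_apply, linHom_apply, linHom_apply] at h
    rw [LinearMap.sub_apply, Module.End.one_apply, linHom_apply, map_sub, h, neg_sub]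
  set E := fixS g
  set U := perp Q E with hUdef
  have hUn : Nondeg (restr Q U) := hQ.nondeg_perp hE
  have hdim := hQ.finrank_add_perp E
  set m := finrank F W₀
  set j := max 1 (m - finrank F E) with hj
  have hd1 : m - j ≤ finrank F E := by omega
  have hd2 : m - j < m := by omega
  have hd3 : j < finrank F U := by rw [← hUdef] at hdim; omega
  obtain ⟨A, hAE, hAn, hAd⟩ := exists_nondeg_sub h2 hQ hE (m - j) hd1
  obtain ⟨A₀, hA₀, hiso⟩ := exists_sub hAn hW₀ (by omega)
  obtain ⟨hBn, hsup, hBd, hBo⟩ := compl_in hQ (hiso.nondeg hAn) hW₀ hA₀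
  obtain ⟨B, hB, hisoB⟩ := exists_sub hBn hUn (by rw [← hiso.finrank_eq, hAd] at hBd; omega)
  have ho : ∀ x ∈ A, ∀ y ∈ B, polar Q x y = 0 := fun x hx y hy => hB hy x (hAE hx)
  refine ⟨A ⊔ B, ?_, ?_⟩
  · rw [← hsup]
    exact hiso.sup hisoB.symm ho hBo (disjoint_of_ortho hAn ho) (disjoint_of_ortho (hiso.nondeg hAn) hBo)
  · intro x hx
    obtain ⟨u, hu, w, hw, rfl⟩ := Submodule.mem_sup.1 hx
    rw [map_add, mem_fixS.1 (hAE hu), hneg w (hB hw)]
    exact Submodule.mem_sup.2 ⟨u, hu, -w, B.neg_mem hw, rfl⟩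

/-- An involution of determinant one moves at least a plane. -/
theorem two_le_moved (hQ : Nondeg Q) (h2 : (2 : F) ≠ 0) (g : O Q) (hg : g ^ 2 = 1) (hne : g ≠ 1)
    (hdet : detSign Q hQ h2 g = 1) : 2 ≤ finrank F (perp Q (fixS g)) := by
  obtain ⟨hE', heq⟩ := perp_fix hQ g (k := 2) (by exact_mod_cast h2) hg
  have hE : Nondeg (restr Q (fixS g)) := hE'
  have hdim := hQ.finrank_add_perp (fixS g)
  by_contra hlt
  rcases (show finrank F (perp Q (fixS g)) = 0 ∨ finrank F (perp Q (fixS g)) = 1 by omega) with h0 | h1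
  · exact hne (O.ext_app fun x => mem_fixS.1 (show x ∈ fixS g by
      rw [Submodule.eq_top_of_finrank_eq (show finrank F (fixS g) = finrank F V by omega)]; trivial))
  · obtain ⟨u, hu, hu0⟩ := Submodule.exists_mem_ne_zero_of_ne_bot
      (p := perp Q (fixS g)) (fun hb => by rw [hb, finrank_bot] at h1; omega)
    have hspan : perp Q (fixS g) = Submodule.span F {u} :=
      (Submodule.eq_of_le_of_finrank_eq ((Submodule.span_singleton_le_iff_mem _ _).2 hu)
        (by rw [finrank_span_singleton hu0, h1])).symm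
    have hQu : Q u ≠ 0 := by
      intro h0
      have : u ∈ perp Q (fixS g) ⊓ perp Q (perp Q (fixS g)) := ⟨hu, by
        rw [hspan, SetLike.mem_coe, mem_perp_span_singleton, polar_self', h0, mul_zero]⟩
      rw [(nondeg_restr_iff _).1 (hQ.nondeg_perp hE), Submodule.mem_bot] at this
      exact hu0 this
    have hgu : (g : V ≃ₗ[F] V) u = -u := by
      have hu' := hu
      rw [fixS, heq] at hu'
      obtain ⟨z, hz⟩ := hu'
      have h := LinearMap.congr_fun (linHom_pow_one g hg) z
      rw [pow_two, Module.End.mul_apply, Module.End.one_apply, linHom_apply, linHom_apply] at h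
      rw [LinearMap.sub_apply, Module.End.one_apply, linHom_apply] at hz
      rw [← hz, map_sub, h, neg_sub]
    have : g = rO Q u := O.ext_app fun x => by
      obtain ⟨a, ha, b, hb, rfl⟩ := Submodule.mem_sup.1
        (show x ∈ fixS g ⊔ perp Q (fixS g) by rw [(hQ.isCompl_perp hE).sup_eq_top]; trivial)
      obtain ⟨t, rfl⟩ := Submodule.mem_span_singleton.1 (hspan ▸ hb)
      rw [map_add, map_add, map_smul, map_smul, mem_fixS.1 ha, hgu, rO_self hQu,
        rO_fix (show polar Q u a = 0 by rw [polar_comm]; exact hu a ha)]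
    rw [this, detSign_rO hQ h2 hQu] at hdet
    exact absurd hdet (by decide)

/-- The sign of a plane `span {v, w}` with `Q v = Q w`, `v ⊥ w`. -/
theorem sg_square_plane (h2 : (2 : F) ≠ 0) {v w : V} (hv : Q v ≠ 0) (hw : Q w = Q v) (hvw : polar Q v w = 0) :
    Nondeg (restr Q (Submodule.span F {v, w})) ∧ finrank F (Submodule.span F {v, w}) = 2 ∧
      sg (restr Q (Submodule.span F {v, w})) = chiSign F := by
  classical
  have hcomb : ∀ a b : F, Q (a • v + b • w) = (a ^ 2 + b ^ 2) * Q v := fun a b => by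
    rw [map_add_polar, qmap_smul, qmap_smul, polar_smul_left', polar_smul_right', hvw, hw]; ring
  have hp : ∀ a b : F, polar Q v (a • v + b • w) = a * (2 * Q v) ∧ polar Q w (a • v + b • w) = b * (2 * Q v) :=
    fun a b => by
      constructor <;>
      simp only [polar_add_right, polar_smul_right', polar_self', hw, polar_comm (⇑Q) w v, hvw] <;> ring
  have hn : Nondeg (restr Q (Submodule.span F {v, w})) := by
    rw [nondeg_restr_iff, eq_bot_iff]
    rintro x ⟨hx, hxp⟩
    obtain ⟨a, b, rfl⟩ := Submodule.mem_span_pair.1 hx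
    obtain ⟨h1, h1'⟩ := (mem_perp_span_pair Q).1 hxp
    rw [(hp a b).1] at h1
    rw [(hp a b).2] at h1'
    simp [(mul_eq_zero.1 h1).resolve_right (mul_ne_zero h2 hv), (mul_eq_zero.1 h1').resolve_right (mul_ne_zero h2 hv)]
  have hli : LinearIndependent F ![v, w] := by
    rw [LinearIndependent.pair_iff]
    intro a b hab
    obtain ⟨h1, h1'⟩ := hp a b
    rw [hab, polar_zero_right] at h1 h1'
    exact ⟨(mul_eq_zero.1 h1.symm).resolve_right (mul_ne_zero h2 hv),
      (mul_eq_zero.1 h1'.symm).resolve_right (mul_ne_zero h2 hv)⟩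
  have hd : finrank F (Submodule.span F {v, w}) = 2 := by
    have h := finrank_span_eq_card hli
    have hr : Set.range ![v, w] = {v, w} := by
      simp [Matrix.range_cons, Matrix.range_empty, Set.pair_comm]
    rw [hr] at h
    simpa using h
  refine ⟨hn, hd, ?_⟩
  have hiff := sg_restr_eq_one_iff (a := 1) hn (by rw [hd])
  unfold chiSign
  split_ifs with hsq
  · obtain ⟨s, hs⟩ := hsq
    refine hiff.2 ⟨Submodule.span F {s • v + (1 : F) • w}, ?_, ?_, ?_⟩
    · rw [Submodule.span_singleton_le_iff_mem]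
      exact Submodule.mem_span_pair.2 ⟨s, 1, rfl⟩
    · intro u hu
      obtain ⟨t, rfl⟩ := Submodule.mem_span_singleton.1 hu
      rw [qmap_smul, hcomb, show s ^ 2 + 1 ^ 2 = 0 by linear_combination -hs]
      ring
    · refine finrank_span_singleton fun h0 => ?_
      exact one_ne_zero (LinearIndependent.pair_iff.1 hli s 1 h0).2
  · refine (sg_or _).resolve_left fun h => ?_
    obtain ⟨Z, hZ, hZs, hZd⟩ := hiff.1 h
    obtain ⟨x, hx, hx0⟩ := Submodule.exists_mem_ne_zero_of_ne_bot (p := Z)
      (fun hb => by rw [hb, finrank_bot] at hZd; omega)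
    obtain ⟨a, b, rfl⟩ := Submodule.mem_span_pair.1 (hZ hx)
    have h0 := hZs _ hx
    rw [hcomb] at h0
    have h0' := (mul_eq_zero.1 h0).resolve_right hv
    by_cases hb : b = 0
    · rw [hb] at h0' hx0
      simp at h0'
      simp [h0'] at hx0
    · refine hsq ⟨a / b, ?_⟩
      field_simp
      linear_combination -h0'

/-- An isometry with square `-1` splits an invariant subspace into planes. -/
theorem quarter_shape (hQ : Nondeg Q) (h2 : (2 : F) ≠ 0) (g : O Q)
    (hg : ∀ x, (g : V ≃ₗ[F] V) ((g : V ≃ₗ[F] V) x) = -x) :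
    ∀ (N : ℕ) (X : Submodule F V), finrank F X = N → Nondeg (restr Q X) →
      (∀ x ∈ X, (g : V ≃ₗ[F] V) x ∈ X) →
      ∃ a, finrank F X = 2 * a ∧ sg (restr Q X) = chiSign F ^ a ∧
        (∀ b ≤ a, ∃ Z ≤ X, Nondeg (restr Q Z) ∧ (∀ x ∈ Z, (g : V ≃ₗ[F] V) x ∈ Z) ∧ finrank F Z = 2 * b) ∧
        ∃ h : O Q, (∀ x ∈ X, (h : V ≃ₗ[F] V) x = (g : V ≃ₗ[F] V) x) ∧
          (∀ x ∈ perp Q X, (h : V ≃ₗ[F] V) x = x) ∧ detSign Q hQ h2 h = 1 ∧
          spinor Q hQ h2 h = sqSign (2 : F) ^ a := by
  intro N
  induction N using Nat.strong_induction_on with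
  | _ N ih =>
    intro X hN hX hinv
    by_cases h0 : finrank F X = 0
    · have hb := Submodule.finrank_eq_zero.1 h0
      refine ⟨0, by omega, by rw [pow_zero]; exact sg_of_zero hX h0, fun b hb' => ⟨X, le_rfl, hX, hinv, by omega⟩,
        1, fun x hx => ?_, fun x _ => rfl, map_one _, by rw [pow_zero, map_one]⟩
      rw [hb, Submodule.mem_bot] at hx
      rw [hx, map_zero, map_zero]
    obtain ⟨v, hv, hQv⟩ : ∃ v ∈ X, Q v ≠ 0 := by
      by_contra hall
      push Not at hall
      haveI : Nontrivial X := Module.finrank_pos_iff.1 (show 0 < finrank F X by omega)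
      obtain ⟨x, hx⟩ := exists_ne (0 : X)
      refine hx (hX x fun y => ?_)
      rw [polar_restr]
      simp only [polar, hall _ (X.add_mem x.2 y.2), hall _ x.2, hall _ y.2, sub_zero]
    set w := (g : V ≃ₗ[F] V) v
    have hQw : Q w = Q v := O.map_app g v
    have hvw : polar Q v w = 0 := by
      have h := O.polar_app g v w
      rw [show (g : V ≃ₗ[F] V) w = -v from hg v, polar_neg_right, polar_comm (⇑Q) w v] at h
      exact (mul_eq_zero.1 (show (2 : F) * polar Q v w = 0 by linear_combination -h)).resolve_left h2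
    obtain ⟨hPn, hPd, hPs⟩ := sg_square_plane h2 hQv hQw hvw
    set P := Submodule.span F {v, w} with hP
    have hPi : ∀ x ∈ P, (g : V ≃ₗ[F] V) x ∈ P := by
      intro x hx
      obtain ⟨a, b, rfl⟩ := Submodule.mem_span_pair.1 hx
      refine Submodule.mem_span_pair.2 ⟨-b, a, ?_⟩
      rw [map_add, map_smul, map_smul, show (g : V ≃ₗ[F] V) w = -v from hg v, smul_neg, neg_smul]
      abel
    have hPX : P ≤ X := by
      rw [hP, Submodule.span_le]
      rintro x (rfl | rfl)
      · exact hv
      · exact hinv v hv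
    obtain ⟨hRn, hsup, hRd, hRo⟩ := compl_in hQ hPn hX hPX
    set R := X ⊓ perp Q P
    have hRi : ∀ x ∈ R, (g : V ≃ₗ[F] V) x ∈ R := fun x hx => ⟨hinv x hx.1, inv_perp g hPi x hx.2⟩
    obtain ⟨a, had, has, hasub, h', hh'R, hh'fix, hh'det, hh'sp⟩ := ih (finrank F R) (by omega) R rfl hRn hRi
    refine ⟨a + 1, by omega, ?_, ?_, ?_⟩
    · rw [← hsup, sg_sup hPn hRn hRo (by rw [hPd]; exact even_two) (by rw [had]; exact even_two_mul a), hPs,
        has, pow_succ, mul_comm]
    · intro b hb
      rcases b with _ | b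
      · exact ⟨⊥, bot_le, nondeg_bot, fun x hx => by rw [(Submodule.mem_bot F).1 hx, map_zero]; exact zero_mem _,
          finrank_bot F V⟩
      obtain ⟨Z, hZR, hZn, hZi, hZd⟩ := hasub b (by omega)
      have ho : ∀ x ∈ P, ∀ y ∈ Z, polar Q x y = 0 := fun x hx y hy => hRo x hx y (hZR hy)
      refine ⟨P ⊔ Z, sup_le hPX (hZR.trans inf_le_left), nondeg_sup hPn hZn ho, fun x hx => ?_, ?_⟩
      · obtain ⟨p, hp, z, hz, rfl⟩ := Submodule.mem_sup.1 hx
        rw [map_add]
        exact Submodule.mem_sup.2 ⟨_, hPi p hp, _, hZi z hz, rfl⟩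
      · have := Submodule.finrank_sup_add_finrank_inf_eq P Z
        rw [(disjoint_of_ortho hPn ho).eq_bot, finrank_bot, hPd, hZd] at this
        omega
    · have hdiff : Q (v - w) = 2 * Q v := by rw [qmap_sub, hQw, hvw]; ring
      have hdne : Q (v - w) ≠ 0 := by rw [hdiff]; exact mul_ne_zero h2 hQv
      have hvR : ∀ x ∈ R, polar Q v x = 0 ∧ polar Q w x = 0 := fun x hx => (mem_perp_span_pair Q).1 hx.2
      have hfixh : ∀ p ∈ P, (h' : V ≃ₗ[F] V) p = p := fun p hp => hh'fix p fun y hy => by
        rw [polar_comm]; exact hRo p hp y hy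
      set r₁ := rO Q (v - w)
      have h1v : (r₁ : V ≃ₗ[F] V) v = w := rO_sub_swap hQw.symm hdne
      have h1w : (r₁ : V ≃ₗ[F] V) w = v := by
        conv_lhs => rw [← h1v, ← mul_app, ← Subgroup.coe_mul, rO_mul_self]
        rfl
      refine ⟨rO Q v * r₁ * h', fun x hx => ?_, fun x hx => ?_, ?_, ?_⟩
      · rw [← hsup] at hx
        obtain ⟨p, hp, y, hy, rfl⟩ := Submodule.mem_sup.1 hx
        obtain ⟨s, t, rfl⟩ := Submodule.mem_span_pair.1 hp
        have hy' := hRi y hy
        have e1 : (r₁ : V ≃ₗ[F] V) ((g : V ≃ₗ[F] V) y) = (g : V ≃ₗ[F] V) y :=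
          rO_fix (by rw [polar_sub_left, (hvR _ hy').1, (hvR _ hy').2, sub_zero])
        simp only [Subgroup.coe_mul, mul_app, map_add, map_smul, hfixh v (Submodule.subset_span (by simp)),
          hfixh w (Submodule.subset_span (by simp)), hh'R y hy, h1v, h1w, e1, rO_fix (hvR _ hy').1,
          rO_fix hvw, rO_self hQv, show (g : V ≃ₗ[F] V) v = w from rfl, show (g : V ≃ₗ[F] V) w = -v from hg v]
      · have hxP : x ∈ perp Q P := perp_anti Q hPX hx
        have hxR : x ∈ perp Q R := perp_anti Q inf_le_left hx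
        obtain ⟨q1, q2⟩ := (mem_perp_span_pair Q).1 hxP
        rw [Subgroup.coe_mul, Subgroup.coe_mul, mul_app, mul_app, hh'fix x hxR,
          rO_fix (show polar Q (v - w) x = 0 by rw [polar_sub_left, q1, q2, sub_zero]), rO_fix q1]
      · rw [map_mul, map_mul, hh'det, detSign_rO hQ h2 hQv, detSign_rO hQ h2 hdne]
        decide
      · rw [map_mul, map_mul, hh'sp, spinor_rO hQ h2 hQv, spinor_rO hQ h2 hdne, hdiff,
          sqSign_mul h2 h2 hQv, pow_succ]
        rcases Int.units_eq_one_or (sqSign (Q v)) with h | h <;> rw [h] <;> simp [mul_comm]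

/-- Isometries with square `-1` exist on spaces of the right sign. -/
theorem exists_quarter (hQ : Nondeg Q) (h2 : (2 : F) ≠ 0) :
    ∀ (a : ℕ) (X : Submodule F V), Nondeg (restr Q X) → finrank F X = 2 * a →
      sg (restr Q X) = chiSign F ^ a →
      ∃ h : O Q, (∀ x ∈ X, (h : V ≃ₗ[F] V) ((h : V ≃ₗ[F] V) x) = -x) ∧
        ∀ x ∈ perp Q X, (h : V ≃ₗ[F] V) x = x := by
  classical
  intro a
  induction a with
  | zero =>
    intro X _ hd _
    refine ⟨1, fun x hx => ?_, fun x _ => rfl⟩
    rw [Submodule.finrank_eq_zero.1 hd, Submodule.mem_bot] at hx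
    simp [hx]
  | succ a ih =>
    intro X hX hd hs
    obtain ⟨v, hv⟩ := hX.exists_value (by omega) 1
    rw [restr_apply] at hv
    have hQv : Q (v : V) ≠ 0 := by rw [hv]; exact one_ne_zero
    have hLn : Nondeg (restr Q (Submodule.span F {(v : V)})) := by
      rw [nondeg_restr_iff, eq_bot_iff]
      rintro x ⟨hx, hxp⟩
      obtain ⟨t, rfl⟩ := Submodule.mem_span_singleton.1 hx
      have h := hxp (v : V) (Submodule.mem_span_singleton_self _)
      rw [polar_smul_right', polar_self', hv, mul_one] at h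
      simp [(mul_eq_zero.1 h).resolve_right h2]
    obtain ⟨hMn, -, hMd, -⟩ := compl_in hQ hLn hX ((Submodule.span_singleton_le_iff_mem _ _).2 v.2)
    set M := X ⊓ perp Q (Submodule.span F {(v : V)})
    rw [finrank_span_singleton (fun h : (v : V) = 0 => hQv (by rw [h, QuadraticMap.map_zero]))] at hMd
    obtain ⟨w, hwX, hvw, hQw⟩ : ∃ w ∈ X, polar Q (v : V) w = 0 ∧ Q w = 1 := by
      rcases a with _ | a
      · haveI : Nontrivial M := Module.finrank_pos_iff.1 (show 0 < finrank F M by omega)
        obtain ⟨u, hu⟩ := exists_ne (0 : M)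
        have hvu : polar Q (v : V) u = 0 := u.2.2 _ (Submodule.mem_span_singleton_self _)
        have hQu : Q (u : V) ≠ 0 := fun h0 => hu (hMn u fun y => by
          obtain ⟨c, rfl⟩ := (finrank_eq_one_iff_of_nonzero' u hu).1 (show finrank F M = 1 by omega) y
          rw [polar_smul_right', polar_self', restr_apply, h0]; ring)
        suffices hsq : IsSquare (Q (u : V)) by
          obtain ⟨t, ht⟩ := hsq
          have ht0 : t ≠ 0 := fun h => hQu (by rw [ht, h, mul_zero])
          exact ⟨t⁻¹ • (u : V), X.smul_mem _ u.2.1, by rw [polar_smul_right', hvu, mul_zero],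
            by rw [qmap_smul, ht]; field_simp⟩
        have hXeq : ∀ x ∈ X, ∃ c e : F, x = c • (v : V) + e • (u : V) := by
          intro x hx
          have hxM : x - (polar Q (v : V) x / 2) • (v : V) ∈ M := ⟨X.sub_mem hx (X.smul_mem _ v.2), by
            rw [SetLike.mem_coe, mem_perp_span_singleton, polar_sub_right, polar_smul_right', polar_self', hv, mul_one,
              div_mul_cancel₀ _ h2, sub_self]⟩
          obtain ⟨e, he⟩ := (finrank_eq_one_iff_of_nonzero' u hu).1 (show finrank F M = 1 by omega) ⟨_, hxM⟩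
          refine ⟨polar Q (v : V) x / 2, e, ?_⟩
          have := congrArg Subtype.val he
          rw [Submodule.coe_smul] at this
          rw [this, add_sub_cancel]
        by_contra hns
        have hiff := sg_restr_eq_one_iff (a := 1) hX (by omega)
        rw [pow_one] at hs
        unfold chiSign at hs
        split_ifs at hs with hm1
        · obtain ⟨Z, hZ, hZs, hZd⟩ := hiff.1 hs
          obtain ⟨x, hx, hx0⟩ := Submodule.exists_mem_ne_zero_of_ne_bot (p := Z)
            (fun hb => by rw [hb, finrank_bot] at hZd; omega)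
          obtain ⟨c, e, rfl⟩ := hXeq x (hZ hx)
          have h0 := hZs _ hx
          rw [map_add_polar, qmap_smul, qmap_smul, polar_smul_left', polar_smul_right', hvu, hv] at h0
          obtain ⟨i, hi⟩ := hm1
          by_cases he : e = 0
          · subst he
            simp at h0
            simp [h0] at hx0
          · refine hns ⟨i * c / e, ?_⟩
            field_simp
            linear_combination h0 + c ^ 2 * hi
        · have hF : ringChar F ≠ 2 := fun h => h2 (by
            haveI := ringChar.of_eq h; exact CharTwo.two_eq_zero)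
          haveI : Fintype F := Fintype.ofFinite F
          obtain ⟨t, ht⟩ : IsSquare (-Q (u : V)) := by
            rw [← quadraticChar_one_iff_isSquare (neg_ne_zero.2 hQu), neg_eq_neg_one_mul, map_mul,
              quadraticChar_neg_one_iff_not_isSquare.2 hm1, quadraticChar_neg_one_iff_not_isSquare.2 hns]
            norm_num
          have : sg (restr Q X) = 1 := hiff.2 ⟨Submodule.span F {t • (v : V) + (u : V)}, by
              rw [Submodule.span_singleton_le_iff_mem]; exact X.add_mem (X.smul_mem _ v.2) u.2.1, fun x hx => by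
              obtain ⟨c, rfl⟩ := Submodule.mem_span_singleton.1 hx
              rw [qmap_smul, map_add_polar, qmap_smul, polar_smul_left', hvu, hv]
              linear_combination -(c ^ 2) * ht, finrank_span_singleton fun h0 => hQu (by
              have h1 : polar Q (v : V) (t • (v : V) + u) = 0 := by rw [h0, polar_zero_right]
              rw [polar_add_right, polar_smul_right', polar_self', hv, mul_one, hvu, add_zero] at h1
              rw [(mul_eq_zero.1 h1).resolve_right h2, zero_smul, zero_add] at h0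
              rw [h0, QuadraticMap.map_zero])⟩
          omega
      · obtain ⟨w, hw⟩ := hMn.exists_value (by omega) 1
        exact ⟨w, w.2.1, w.2.2 _ (Submodule.mem_span_singleton_self _), hw⟩
    obtain ⟨hPn, hPd, hPs⟩ := sg_square_plane h2 hQv (hQw.trans hv.symm) hvw
    set P := Submodule.span F {(v : V), w} with hP
    have hPX : P ≤ X := by
      rw [hP, Submodule.span_le]
      rintro x (rfl | rfl)
      · exact v.2
      · exact hwX
    obtain ⟨hRn, hsup, hRd, hRo⟩ := compl_in hQ hPn hX hPX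
    set R := X ⊓ perp Q P
    have hRs : sg (restr Q R) = chiSign F ^ a := by
      have h := sg_sup hPn hRn hRo (by rw [hPd]; exact even_two) ⟨a, by omega⟩
      rw [hsup, hs, hPs, pow_succ, mul_comm] at h
      exact (mul_left_cancel₀ (by rcases chi_or (F := F) with h' | h' <;> rw [h'] <;> decide) h).symm
    obtain ⟨h', hh1, hh2⟩ := ih R hRn (by omega) hRs
    have hdiff : Q ((v : V) - w) ≠ 0 := by
      rw [qmap_sub, hv, hQw, hvw, sub_zero]; intro h; exact h2 (by linear_combination h)
    set r₀ := rO Q (v : V)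
    set r₁ := rO Q ((v : V) - w)
    have h1v : (r₁ : V ≃ₗ[F] V) v = w := rO_sub_swap (hv.trans hQw.symm) hdiff
    have h1w : (r₁ : V ≃ₗ[F] V) w = v := by
      conv_lhs => rw [← h1v, ← mul_app, ← Subgroup.coe_mul, rO_mul_self]
      rfl
    have hfix : ∀ x ∈ perp Q P, (r₀ : V ≃ₗ[F] V) ((r₁ : V ≃ₗ[F] V) x) = x := fun x hx => by
      obtain ⟨q1, q2⟩ := (mem_perp_span_pair Q).1 hx
      rw [rO_fix (show polar Q ((v : V) - w) x = 0 by rw [polar_sub_left, q1, q2, sub_zero]), rO_fix q1]
    have hfixh : ∀ p ∈ P, (h' : V ≃ₗ[F] V) p = p := fun p hp => hh2 p fun y hy => by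
      rw [polar_comm]; exact hRo p hp y hy
    have hRinv : ∀ x ∈ perp Q P, (h' : V ≃ₗ[F] V) x ∈ perp Q P :=
      inv_perp h' fun p hp => by rw [hfixh p hp]; exact hp
    refine ⟨r₀ * r₁ * h', fun x hx => ?_, fun x hx => ?_⟩
    · rw [← hsup] at hx
      obtain ⟨p, hp, y, hy, rfl⟩ := Submodule.mem_sup.1 hx
      obtain ⟨s, t, rfl⟩ := Submodule.mem_span_pair.1 hp
      have step : ∀ (p : V) (_ : p ∈ P) (z : V) (_ : z ∈ perp Q P),
          ((r₀ * r₁ * h' : O Q) : V ≃ₗ[F] V) (p + z) =
            (r₀ : V ≃ₗ[F] V) ((r₁ : V ≃ₗ[F] V) p) + (h' : V ≃ₗ[F] V) z := fun p hp z hz => by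
        rw [Subgroup.coe_mul, Subgroup.coe_mul, mul_app, mul_app, map_add, map_add, map_add, hfixh p hp,
          hfix _ (hRinv z hz)]
      have hrot : ∀ s t : F, (r₀ : V ≃ₗ[F] V) ((r₁ : V ≃ₗ[F] V) (s • (v : V) + t • w)) = (-t) • (v : V) + s • w := by
        intro s t
        rw [map_add, map_smul, map_smul, h1v, h1w, map_add, map_smul, map_smul, rO_fix hvw, rO_self hQv,
          smul_neg, neg_smul, add_comm]
      rw [step _ hp y hy.2, hrot, step _ (Submodule.mem_span_pair.2 ⟨_, _, rfl⟩) _ (hRinv y hy.2), hrot, hh1 y hy]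
      simp only [neg_smul, smul_neg, neg_add_rev, neg_neg]
      abel
    · rw [Subgroup.coe_mul, Subgroup.coe_mul, mul_app, mul_app, hh2 x (perp_anti Q inf_le_left hx),
        hfix x (perp_anti Q hPX hx)]

/-- The condition for an element of order two modulo scalars to exist with square `-1`. -/
def QuarterOK (Q : QuadraticForm F V) : Prop :=
  Even (finrank F V) ∧ sg Q = chiSign F ^ (finrank F V / 2) ∧
    sqSign (2 : F) ^ (finrank F V / 2) = 1

/-- All elements of the commutator subgroup of order two modulo scalars fix a member. -/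
def AllFixTwo (Q : QuadraticForm F V) (W₀ : Submodule F V) : Prop :=
  ∀ g : O Q, g ∈ commutator (O Q) → g ≠ 1 →
    (g ^ 2 = 1 ∨ ∀ x, (g : V ≃ₗ[F] V) ((g : V ≃ₗ[F] V) x) = -x) → Fixes Q W₀ g

theorem allFixTwo_iff (hQ : Nondeg Q) (h2 : (2 : F) ≠ 0) (hW₀ : Nondeg (restr Q W₀))
    (hm : 0 < finrank F W₀) (hmn : finrank F W₀ < finrank F V) :
    AllFixTwo Q W₀ ↔ ¬ QuarterOK Q ∨
      (Even (finrank F W₀) ∧ sg (restr Q W₀) = chiSign F ^ (finrank F W₀ / 2)) := by
  have htop : sg (restr Q (⊤ : Submodule F V)) = sg Q := sg_congr Submodule.topEquiv fun x => rfl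
  constructor
  · intro hall
    by_cases hok : QuarterOK Q
    swap
    · exact Or.inl hok
    refine Or.inr ?_
    obtain ⟨hev, hs, hsp⟩ := hok
    obtain ⟨d, hd⟩ := hev
    rw [← two_mul] at hd
    rw [show finrank F V / 2 = d by omega] at hs hsp
    obtain ⟨g, hg, -⟩ := exists_quarter hQ h2 d ⊤ (nondeg_restr_top hQ) (by rw [finrank_top, hd]) (htop.trans hs)
    have hg' : ∀ x, (g : V ≃ₗ[F] V) ((g : V ≃ₗ[F] V) x) = -x := fun x => hg x trivial
    obtain ⟨a, ha, -, -, h, hh, -, hdet, hspin⟩ :=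
      quarter_shape hQ h2 g hg' _ ⊤ rfl (nondeg_restr_top hQ) fun _ _ => trivial
    rw [finrank_top, hd] at ha
    obtain rfl : a = d := by omega
    have hgh : h = g := O.ext_app fun x => hh x trivial
    rw [hgh] at hdet hspin
    have hg1 : g ≠ 1 := fun h1 => by
      haveI : Nontrivial V := Module.finrank_pos_iff.1 (show 0 < finrank F V by omega)
      obtain ⟨x, hx⟩ := exists_ne (0 : V)
      have h0 := hg' x
      rw [h1] at h0
      change x = -x at h0
      refine hx ((smul_eq_zero.1 (show (2 : F) • x = 0 by rw [two_smul]; nth_rewrite 1 [h0]; exact neg_add_cancel x)).resolve_left h2)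
    obtain ⟨W, hiso, hinv⟩ := hall g ((mem_commutator_iff hQ h2 g).2 ⟨hdet, hspin.trans hsp⟩) hg1 (Or.inr hg')
    obtain ⟨b, hb, hbs, -, -⟩ := quarter_shape hQ h2 g hg' _ W rfl (hiso.symm.nondeg hW₀) hinv
    rw [← hiso.finrank_eq, ← hiso.sg_eq, hb]
    exact ⟨even_two_mul b, by rw [hbs, Nat.mul_div_cancel_left _ two_pos]⟩
  · intro h g hg hne hcase
    obtain ⟨hdet, hspin⟩ := (mem_commutator_iff hQ h2 g).1 hg
    rcases hcase with hg2 | hg'
    · exact invol_fixes hQ h2 hW₀ hm hmn g hg2 (two_le_moved hQ h2 g hg2 hne hdet)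
    obtain ⟨a, ha, has, hsub, h', hh, -, -, hsp⟩ :=
      quarter_shape hQ h2 g hg' _ ⊤ rfl (nondeg_restr_top hQ) fun _ _ => trivial
    rw [finrank_top] at ha
    rw [htop] at has
    rw [O.ext_app (g := h') (h := g) fun x => hh x trivial, hspin] at hsp
    have hok : QuarterOK Q := by
      refine ⟨ha ▸ even_two_mul a, ?_, ?_⟩ <;> rw [ha, Nat.mul_div_cancel_left _ two_pos]
      · exact has
      · exact hsp.symm
    rcases h with h | ⟨hev, hs⟩
    · exact absurd hok h
    obtain ⟨b, hb⟩ := hev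
    rw [← two_mul] at hb
    rw [hb, Nat.mul_div_cancel_left _ two_pos] at hs
    obtain ⟨Z, -, hZn, hZi, hZd⟩ := hsub b (by omega)
    obtain ⟨b', hb', hbs', -, -⟩ := quarter_shape hQ h2 g hg' _ Z rfl hZn hZi
    obtain rfl : b' = b := by omega
    exact ⟨Z, isoOn_of_sg hZn hW₀ (hZd.trans hb.symm) (hZd ▸ even_two_mul b') (hbs'.trans hs.symm), hZi⟩

end Cfsg.Agent.H58.Elusive
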