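import Cfsg.Agent.H58.Elusive.Two

/-!
From matrices in `omegaGL` to the criterion for elements of order two.
-/

set_option autoImplicit false
set_option linter.unusedSectionVars false

namespace Cfsg.Agent.H58.Elusive

open Module QuadraticMap Orthogonal H53

variable {F : Type*} [Field F] [Finite F] {ι : Type} [Fintype ι] [DecidableEq ι]
variable {Q : QuadraticForm F (ι → F)}

theorem forall_scalar_two_iff (hQ : Nondeg Q) (h2ι : 2 ≤ Fintype.card ι) (h2 : (2 : F) ≠ 0)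
    {W₀ : Submodule F (ι → F)} {P : Submodule F (ι → F) → Prop} (hP : ∀ W, P W ↔ IsoOn Q W W₀)
    (hm : finrank F W₀ < Fintype.card ι) :
    (∀ x : GL ι F, x ∈ Cfsg.Geo.omegaGL ⇑Q →
      (∃ z : F, ((x ^ 2 : GL ι F) : Matrix ι ι F) = z • (1 : Matrix ι ι F)) →
      (∀ z : F, (x : Matrix ι ι F) ≠ z • (1 : Matrix ι ι F)) →
      ∃ W : Submodule F (ι → F), P W ∧ W.map (Matrix.toLin' (x : Matrix ι ι F)) ≤ W) ↔
      AllFixTwo Q W₀ := by
  have hd : finrank F (ι → F) = Fintype.card ι := Module.finrank_fintype_fun_eq_card F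
  obtain ⟨v, hv⟩ := hQ.exists_value (by omega) 1
  have hv0 : v ≠ 0 := fun h0 => by rw [h0, QuadraticMap.map_zero] at hv; exact zero_ne_one hv
  constructor
  · intro h g hgc hne hcase
    set x : GL ι F := ((toO Q).symm g : GL ι F) with hx
    have hgx : ∀ w, (g : (ι → F) ≃ₗ[F] (ι → F)) w = (x : Matrix ι ι F).mulVec w :=
      fun w => (toO_symm_apply Q g w).symm
    by_cases hsc : ∃ z : F, (x : Matrix ι ι F) = z • (1 : Matrix ι ι F)
    · obtain ⟨z, hz⟩ := hsc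
      exact ⟨W₀, IsoOn.refl W₀, fun w hw => by
        rw [hgx, hz, Matrix.smul_mulVec, Matrix.one_mulVec]; exact W₀.smul_mem z hw⟩
    push Not at hsc
    have hsq : ∀ w, ((x : Matrix ι ι F) * (x : Matrix ι ι F)).mulVec w =
        (g : (ι → F) ≃ₗ[F] (ι → F)) ((g : (ι → F) ≃ₗ[F] (ι → F)) w) := fun w => by
      rw [← Matrix.mulVec_mulVec, ← hgx, ← hgx]
    obtain ⟨W, hW, hWx⟩ := h x (mem_omegaGL_of_commutator g hgc) (by
      rcases hcase with hg2 | hg'
      · refine ⟨1, Matrix.ext_iff_mulVec.2 fun w => ?_⟩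
        rw [pow_two, Units.val_mul, hsq, ← mul_app, ← Subgroup.coe_mul, ← pow_two, hg2, one_smul,
          Matrix.one_mulVec]
        rfl
      · refine ⟨-1, Matrix.ext_iff_mulVec.2 fun w => ?_⟩
        rw [pow_two, Units.val_mul, hsq, hg', Matrix.smul_mulVec, Matrix.one_mulVec, neg_smul, one_smul]) hsc
    exact ⟨W, (hP W).1 hW, (map_le_iff g x hgx W).1 hWx⟩
  · intro h x hx ⟨z, hz⟩ hns
    obtain ⟨g, hgc, hgx, -⟩ := exists_iso_of_mem hx
    have hgg : ∀ w, (g : (ι → F) ≃ₗ[F] (ι → F)) ((g : (ι → F) ≃ₗ[F] (ι → F)) w) = z • w := fun w => by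
      rw [hgx, hgx, Matrix.mulVec_mulVec, ← Units.val_mul, ← pow_two, hz, Matrix.smul_mulVec, Matrix.one_mulVec]
    have hz2 : z ^ 2 = 1 := by
      have h1 := O.map_app g ((g : (ι → F) ≃ₗ[F] (ι → F)) v)
      rwa [hgg, O.map_app, qmap_smul, hv, mul_one] at h1
    have hne : g ≠ 1 := fun h1 => hns 1 (Matrix.ext_iff_mulVec.2 fun w => by
      rw [← hgx, h1, one_smul, Matrix.one_mulVec]; rfl)
    have hcase : g ^ 2 = 1 ∨ ∀ w, (g : (ι → F) ≃ₗ[F] (ι → F)) ((g : (ι → F) ≃ₗ[F] (ι → F)) w) = -w := by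
      rcases sq_eq_one_iff.1 hz2 with h1 | h1
      · exact Or.inl (O.ext_app fun w => by
          rw [pow_two, Subgroup.coe_mul, mul_app, hgg, h1, one_smul]; rfl)
      · exact Or.inr fun w => by rw [hgg, h1, neg_smul, one_smul]
    obtain ⟨W, hW, hinv⟩ := h g hgc hne hcase
    exact ⟨W, (hP W).2 hW, (map_le_iff g x hgx W).2 hinv⟩

/-- In odd characteristic every involution of `omegaGL` fixes a member of every orbit. -/
theorem forall_order_two (hQ : Nondeg Q) (h2 : (2 : F) ≠ 0) {W₀ : Submodule F (ι → F)}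
    (hW₀ : Nondeg (restr Q W₀)) (hm : 0 < finrank F W₀) (hmn : finrank F W₀ < Fintype.card ι)
    {P : Submodule F (ι → F) → Prop} (hP : ∀ W, P W ↔ IsoOn Q W W₀)
    (x : GL ι F) (hx : x ∈ Cfsg.Geo.omegaGL ⇑Q) (ho : orderOf x = 2) :
    ∃ W : Submodule F (ι → F), P W ∧ W.map (Matrix.toLin' (x : Matrix ι ι F)) ≤ W := by
  obtain ⟨g, hgc, hgx, hgs⟩ := exists_iso_of_mem hx
  have hg2 : g ^ 2 = 1 := by
    refine (toO Q).symm.injective (Subtype.ext ?_)
    rw [map_pow, Subgroup.coe_pow, hgs, ← ho, pow_orderOf_eq_one, map_one, Subgroup.coe_one]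
  have hne : g ≠ 1 := fun h1 => by
    rw [h1, map_one, Subgroup.coe_one] at hgs
    rw [← hgs, orderOf_one] at ho
    exact absurd ho (by decide)
  obtain ⟨W, hW, hinv⟩ := invol_fixes hQ h2 hW₀ hm
    (by rwa [Module.finrank_fintype_fun_eq_card]) g hg2
    (two_le_moved hQ h2 g hg2 hne ((mem_commutator_iff hQ h2 g).1 hgc).1)
  exact ⟨W, (hP W).2 hW, (map_le_iff g x hgx W).2 hinv⟩

end Cfsg.Agent.H58.Elusive
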