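import Cfsg.Agent.H58.Elusive.Bridge
import Cfsg.Agent.Orthogonal.Eichler
import Cfsg.Agent.Symplectic.Alt

/-!
Unipotent elements with quadratic action and the shapes of the nondegenerate subspaces they fix.
-/

set_option autoImplicit false
set_option linter.unusedSectionVars false
set_option linter.style.haveILetI false

namespace Cfsg.Agent.H58.Elusive

open Module QuadraticMap Orthogonal H53

variable {F V : Type*} [Field F] [Finite F] [AddCommGroup V] [Module F V] [FiniteDimensional F V]
variable {Q : QuadraticForm F V}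

/-- `g - 1`. -/
def nOp (g : O Q) : Module.End F V := linHom Q g - 1

theorem nOp_app (g : O Q) (v : V) : nOp g v = (g : V ≃ₗ[F] V) v - v := rfl

theorem app_eq_add (g : O Q) (v : V) : (g : V ≃ₗ[F] V) v = v + nOp g v := by
  rw [nOp_app, add_sub_cancel]

theorem nOp_mem {g : O Q} {W : Submodule F V} (hinv : ∀ x ∈ W, (g : V ≃ₗ[F] V) x ∈ W) {x : V}
    (hx : x ∈ W) : nOp g x ∈ W := W.sub_mem (hinv x hx) hx

/-- A nondegenerate invariant subspace on which the action is quadratic and singular. -/
theorem two_step (g : O Q) {W : Submodule F V} (hW : Nondeg (restr Q W))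
    (hinv : ∀ x ∈ W, (g : V ≃ₗ[F] V) x ∈ W) (hNN : ∀ x ∈ W, nOp g (nOp g x) = 0)
    (hQN : ∀ x ∈ W, Q (nOp g x) = 0) :
    ∃ r, finrank F (W.map (nOp g)) = r ∧ Even r ∧ 2 * r ≤ finrank F W ∧
      finrank F (W ⊓ LinearMap.ker (nOp g) : Submodule F V) + r = finrank F W ∧
      (∀ x ∈ W.map (nOp g), ∀ y ∈ W ⊓ LinearMap.ker (nOp g), polar Q x y = 0) ∧
      (2 * r = finrank F W → sg (restr Q W) = 1) := by
  set N := nOp g
  have hiso : ∀ x ∈ W, polar Q (N x) x = 0 := by
    intro x hx
    have h := O.map_app g x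
    rw [app_eq_add, map_add_polar, hQN x hx, polar_comm (⇑Q) x (nOp g x)] at h
    linear_combination h
  have hadj : ∀ x ∈ W, ∀ y ∈ W, polar Q (N x) y + polar Q x (N y) = 0 := by
    intro x hx y hy
    have h := hiso _ (W.add_mem hx hy)
    rw [map_add, polar_add_left, polar_add_right, polar_add_right, hiso x hx, hiso y hy,
      polar_comm (⇑Q) (N y) x] at h
    linear_combination h
  let b : LinearMap.BilinForm F W := Q.polarBilin.compl₁₂ (N.comp W.subtype) W.subtype
  have hb : ∀ x y : W, b x y = polar Q (N x) (y : V) := fun x y => rfl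
  have halt : b.IsAlt := fun x => hiso x x.2
  obtain ⟨m', k, bb, hh, hrad⟩ := Symplectic.exists_hyp_basis b halt
  have hd : finrank F W = 2 * m' + k := by
    rw [Module.finrank_eq_card_basis bb]; simp; omega
  have hker : ∀ x : W, (x : V) ∈ LinearMap.ker N ↔ ∀ y : W, b x y = 0 := by
    intro x
    rw [LinearMap.mem_ker]
    constructor
    · intro h y; rw [hb, h, polar_zero_left]
    · intro h
      have := hW ⟨N x, nOp_mem hinv x.2⟩ fun y => by rw [polar_restr]; exact h y
      exact congrArg Subtype.val this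
  have hK : Submodule.comap W.subtype (LinearMap.ker N) = Submodule.span F (Set.range fun j => bb (Sum.inr j)) := by
    apply le_antisymm
    · intro x hx
      have hx' := (hker x).1 hx
      rw [← bb.sum_repr x, Fintype.sum_sum_type, Fintype.sum_sum_type]
      have h1 : ∀ i, bb.repr x (Sum.inl (Sum.inl i)) = 0 := fun i => by
        have := hx' (bb (Sum.inl (Sum.inr i)))
        rw [← bb.sum_repr x, map_sum, LinearMap.sum_apply, Fintype.sum_sum_type, Fintype.sum_sum_type] at this
        simpa [hh.1, hh.2.2, hrad] using this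
      have h2 : ∀ i, bb.repr x (Sum.inl (Sum.inr i)) = 0 := fun i => by
        have := hx' (bb (Sum.inl (Sum.inl i)))
        rw [← bb.sum_repr x, map_sum, LinearMap.sum_apply, Fintype.sum_sum_type, Fintype.sum_sum_type] at this
        simpa [hh.2.1, hrad, Symplectic.alt_swap halt (bb (Sum.inl (Sum.inr _))) (bb (Sum.inl (Sum.inl i))),
          hh.1] using this
      simp only [h1, h2, zero_smul, Finset.sum_const_zero, zero_add]
      exact Submodule.sum_mem _ fun j _ => Submodule.smul_mem _ _ (Submodule.subset_span ⟨j, rfl⟩)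
    · rw [Submodule.span_le]
      rintro - ⟨j, rfl⟩
      exact (hker _).2 (hrad j)
  have hkerd : finrank F (W ⊓ LinearMap.ker N : Submodule F V) = k := by
    have e := (Submodule.equivMapOfInjective W.subtype W.injective_subtype
      (Submodule.comap W.subtype (LinearMap.ker N))).finrank_eq
    rw [Submodule.map_comap_subtype, hK] at e
    have hli : LinearIndependent F fun j => bb (Sum.inr j) :=
      bb.linearIndependent.comp Sum.inr Sum.inr_injective
    rw [← e, finrank_span_eq_card hli, Fintype.card_fin]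
  have hrange : finrank F (W.map N) = 2 * m' := by
    have h := LinearMap.finrank_range_add_finrank_ker (N.comp W.subtype)
    rw [LinearMap.range_comp, Submodule.range_subtype] at h
    have hk2 : finrank F (LinearMap.ker (N.comp W.subtype)) = k := by
      have hli : LinearIndependent F fun j => bb (Sum.inr j) :=
        bb.linearIndependent.comp Sum.inr Sum.inr_injective
      rw [LinearMap.ker_comp, hK, finrank_span_eq_card hli, Fintype.card_fin]
    omega
  have hle : W.map N ≤ W ⊓ LinearMap.ker N := by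
    rintro - ⟨x, hx, rfl⟩
    exact ⟨nOp_mem hinv hx, hNN x hx⟩
  refine ⟨2 * m', hrange, even_two_mul m', ?_, by omega, ?_, ?_⟩
  · have := Submodule.finrank_mono hle
    omega
  · rintro - ⟨x, hx, rfl⟩ y ⟨hy, hy'⟩
    have := hadj x hx y hy
    rw [LinearMap.mem_ker.1 hy', polar_zero_right, add_zero] at this
    exact this
  · intro h
    refine (sg_restr_eq_one_iff hW (a := 2 * m') (by omega)).2 ⟨W.map N, hle.trans inf_le_left, ?_, hrange⟩
    rintro - ⟨x, hx, rfl⟩
    exact hQN x hx

/-- The image of an invariant orthogonal decomposition. -/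
theorem range_split (hQ : Nondeg Q) (g : O Q) {W : Submodule F V} (hW : Nondeg (restr Q W))
    (hinv : ∀ x ∈ W, (g : V ≃ₗ[F] V) x ∈ W) :
    finrank F (W.map (nOp g)) + finrank F ((perp Q W).map (nOp g)) =
      finrank F (LinearMap.range (nOp g)) := by
  have h := Submodule.finrank_sup_add_finrank_inf_eq (W.map (nOp g)) ((perp Q W).map (nOp g))
  rw [← Submodule.map_sup, (hQ.isCompl_perp hW).sup_eq_top, Submodule.map_top] at h
  have hd : W.map (nOp g) ⊓ (perp Q W).map (nOp g) = ⊥ := by
    rw [eq_bot_iff]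
    rintro x ⟨⟨a, ha, rfl⟩, ⟨b, hb, hab⟩⟩
    have : nOp g a ∈ W ⊓ perp Q W := ⟨nOp_mem hinv ha, hab ▸ nOp_mem (inv_perp g hinv) hb⟩
    rwa [(nondeg_restr_iff W).1 hW] at this
  rw [hd, finrank_bot] at h
  omega

/-- A product of `u` Siegel elements on a frame. -/
theorem exists_siegel (hQ : Nondeg Q) (hn : 5 ≤ finrank F V) {k : ℕ} {e f : Fin k → V}
    (h : IsFrame Q e f) : ∀ u, ∀ hu : 2 * u ≤ k, ∃ g : O Q, g ∈ commutator (O Q) ∧ ∀ v, nOp g v =
      ∑ j : Fin u, (polar Q (e ⟨2 * j + 1, by omega⟩) v • e ⟨2 * j, by omega⟩ -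
        polar Q (e ⟨2 * j, by omega⟩) v • e ⟨2 * j + 1, by omega⟩) := by
  intro u
  induction u with
  | zero =>
    intro _
    refine ⟨1, one_mem _, fun v => ?_⟩
    rw [nOp_app, Fin.sum_univ_zero]
    exact sub_self v
  | succ u ih =>
    intro hu
    obtain ⟨g, hg, hN⟩ := ih (by omega)
    set a := e ⟨2 * u, by omega⟩
    set b := e ⟨2 * u + 1, by omega⟩
    have hab : polar Q a b = 0 := h.ee _ _
    refine ⟨g * sie a b (h.qe _) hab, mul_mem hg (sieGroup_eq_commutator hQ hn ▸ sie_mem _ _), fun v => ?_⟩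
    have hNe : ∀ i, nOp g (e i) = 0 := fun i => by
      rw [hN]; exact Finset.sum_eq_zero fun j _ => by rw [h.ee, h.ee, zero_smul, zero_smul, sub_self]
    rw [Fin.sum_univ_castSucc, nOp_app, Subgroup.coe_mul, mul_app, app_eq_add g, sie_app, h.qe, map_sub,
      map_add, map_smul, map_smul, hNe, hNe, smul_zero, smul_zero, add_zero, sub_zero, hN]
    simp only [Fin.val_castSucc, Fin.val_last, zero_mul, sub_zero]
    abel

theorem linearIndependent_e {k : ℕ} {e f : Fin k → V} (h : IsFrame Q e f) : LinearIndependent F e :=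
  h.linearIndependent.comp Sum.inl Sum.inl_injective

/-- The properties of the Siegel element. -/
theorem siegel_props (p : ℕ) [Fact p.Prime] [CharP F p] (hQ : Nondeg Q) (hn : 5 ≤ finrank F V) {k : ℕ}
    {e f : Fin k → V} (h : IsFrame Q e f) {u : ℕ} (hu : 2 * u ≤ k) (hu0 : 0 < u) :
    ∃ g : O Q, g ∈ commutator (O Q) ∧ g ≠ 1 ∧ g ^ p = 1 ∧
      ∀ W : Submodule F V, Nondeg (restr Q W) → (∀ x ∈ W, (g : V ≃ₗ[F] V) x ∈ W) →
        ∃ r a b : ℕ, Even r ∧ finrank F W = 2 * r + a ∧ a + b + 4 * u = finrank F V ∧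
          (a = 0 → sg (restr Q W) = 1) ∧ (b = 0 → sg (restr Q (perp Q W)) = 1) := by
  obtain ⟨g, hg, hN⟩ := exists_siegel hQ hn h u hu
  have hNe : ∀ i, nOp g (e i) = 0 := fun i => by
    rw [hN]; exact Finset.sum_eq_zero fun j _ => by rw [h.ee, h.ee, zero_smul, zero_smul, sub_self]
  set S := Submodule.span F (Set.range fun i : Fin (2 * u) => e (Fin.castLE hu i)) with hS
  have hSd : finrank F S = 2 * u := by
    have hli : LinearIndependent F fun i : Fin (2 * u) => e (Fin.castLE hu i) :=
      (linearIndependent_e h).comp _ (Fin.castLE_injective hu)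
    rw [hS, finrank_span_eq_card hli]
    simp
  have hrng : LinearMap.range (nOp g) = S := by
    apply le_antisymm
    · rintro - ⟨v, rfl⟩
      rw [hN]
      refine Submodule.sum_mem _ fun j _ => Submodule.sub_mem _ (Submodule.smul_mem _ _ ?_) (Submodule.smul_mem _ _ ?_)
      · exact Submodule.subset_span ⟨⟨2 * j, by omega⟩, rfl⟩
      · exact Submodule.subset_span ⟨⟨2 * j + 1, by omega⟩, rfl⟩
    · rw [hS, Submodule.span_le]
      rintro - ⟨i, rfl⟩
      obtain ⟨j, hj | hj⟩ := Nat.even_or_odd' (i : ℕ)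
      · refine ⟨f ⟨2 * j + 1, by omega⟩, ?_⟩
        rw [hN, Finset.sum_eq_single ⟨j, by omega⟩]
        · rw [h.ef, h.ef, if_pos rfl, if_neg (by simp [Fin.ext_iff]), one_smul, zero_smul, sub_zero]
          exact congrArg e (Fin.ext hj.symm)
        · intro j' _ hne
          rw [h.ef, h.ef, if_neg, if_neg, zero_smul, zero_smul, sub_self] <;>
            simp only [Fin.ext_iff] <;> simp only [ne_eq, Fin.ext_iff] at hne <;> omega
        · simp
      · refine ⟨-f ⟨2 * j, by omega⟩, ?_⟩
        rw [map_neg, hN, Finset.sum_eq_single ⟨j, by omega⟩]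
        · rw [h.ef, h.ef, if_pos rfl, if_neg (by simp [Fin.ext_iff]), one_smul, zero_smul, zero_sub, neg_neg]
          exact congrArg e (Fin.ext hj.symm)
        · intro j' _ hne
          rw [h.ef, h.ef, if_neg, if_neg, zero_smul, zero_smul, sub_self] <;>
            simp only [Fin.ext_iff] <;> simp only [ne_eq, Fin.ext_iff] at hne <;> omega
        · simp
  have hSN : ∀ x ∈ S, nOp g x = 0 := by
    intro x hx
    induction hx using Submodule.span_induction with
    | mem y hy => obtain ⟨i, rfl⟩ := hy; exact hNe _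
    | zero => exact map_zero _
    | add y z _ _ ay az => rw [map_add, ay, az, add_zero]
    | smul c y _ ay => rw [map_smul, ay, smul_zero]
  have hSQ : ∀ x ∈ S, Q x = 0 := by
    intro x hx
    obtain ⟨c, rfl⟩ := (Submodule.mem_span_range_iff_exists_fun F).1 hx
    have : ∀ s : Finset (Fin (2 * u)), Q (∑ i ∈ s, c i • e (Fin.castLE hu i)) = 0 := by
      intro s
      induction s using Finset.induction_on with
      | empty => simp
      | insert i s hi ih =>
        rw [Finset.sum_insert hi, map_add_polar, qmap_smul, h.qe, ih, ← polarBilin_apply', map_sum]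
        simp [h.ee]
    exact this _
  have hNN : ∀ x, nOp g (nOp g x) = 0 := fun x => hSN _ (hrng ▸ ⟨x, rfl⟩)
  have hQN : ∀ x, Q (nOp g x) = 0 := fun x => hSQ _ (hrng ▸ ⟨x, rfl⟩)
  have hpow : ∀ (j : ℕ) (v : V), ((g ^ j : O Q) : V ≃ₗ[F] V) v = v + (j : F) • nOp g v := by
    intro j
    induction j with
    | zero => intro v; simp
    | succ j ih =>
      intro v
      rw [pow_succ, Subgroup.coe_mul, mul_app, ih, app_eq_add g v, map_add, hNN]
      push_cast
      rw [add_zero, add_smul, one_smul]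
      abel
  refine ⟨g, hg, ?_, O.ext_app fun v => by rw [hpow, CharP.cast_eq_zero, zero_smul, add_zero]; rfl,
    fun W hW hinv => ?_⟩
  · intro h1
    have : finrank F (LinearMap.range (nOp g)) = 0 := by
      rw [show nOp g = 0 from LinearMap.ext fun v => by rw [nOp_app, h1]; exact sub_self v]
      simp
    rw [hrng, hSd] at this
    omega
  obtain ⟨r, hr, hre, hrle, -, -, hr1⟩ := two_step g hW hinv (fun x _ => hNN x) fun x _ => hQN x
  obtain ⟨r', hr', -, hr'le, -, -, hr1'⟩ :=
    two_step g (hQ.nondeg_perp hW) (inv_perp g hinv) (fun x _ => hNN x) fun x _ => hQN x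
  have hsplit := range_split hQ g hW hinv
  rw [hr, hr', hrng, hSd] at hsplit
  have hdim := hQ.finrank_add_perp W
  exact ⟨r, finrank F W - 2 * r, finrank F (perp Q W) - 2 * r', hre, by omega, by omega,
    fun h => hr1 (by omega), fun h => hr1' (by omega)⟩

/-! ### One Jordan block of size three -/

/-- An odd-dimensional space is a hyperbolic space plus a line of value `α`. -/
def HasVal (Q : QuadraticForm F V) (W : Submodule F V) (α : F) : Prop :=
  ∃ w ∈ W, Q w = α ∧ α ≠ 0 ∧ sg (restr Q (W ⊓ perp Q (Submodule.span F {w}))) = 1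

theorem nondeg_line (h2 : (2 : F) ≠ 0) {w : V} (hw : Q w ≠ 0) : Nondeg (restr Q (Submodule.span F {w})) := by
  rw [nondeg_restr_iff, eq_bot_iff]
  rintro x ⟨hx, hxp⟩
  obtain ⟨t, rfl⟩ := Submodule.mem_span_singleton.1 hx
  have h := hxp w (Submodule.mem_span_singleton_self w)
  rw [polar_smul_right', polar_self'] at h
  simp [(mul_eq_zero.1 h).resolve_right (mul_ne_zero h2 hw)]

theorem hasVal_exists (hQ : Nondeg Q) (h2 : (2 : F) ≠ 0) {W : Submodule F V} (hW : Nondeg (restr Q W))
    (hodd : Odd (finrank F W)) : ∃ α, HasVal Q W α := by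
  obtain ⟨a, ha⟩ := hodd
  obtain ⟨k, e, f, h, han⟩ := hW.exists_frame
  have hr := h.finrank_kernel hW
  have hle := finrank_le_two_of_aniso (h.nondeg_kernel hW) han
  have hk : k = a ∧ finrank F (IsFrame.kernel (restr Q W) e f) = 1 := by omega
  obtain ⟨x, hx, hx0⟩ := Submodule.exists_mem_ne_zero_of_ne_bot
    (p := IsFrame.kernel (restr Q W) e f) (fun hb => by rw [hb, finrank_bot] at hk; omega)
  have hQx : Q (x : V) ≠ 0 := fun h0 => hx0 (han x hx h0)
  have hline := nondeg_line h2 hQx
  obtain ⟨hMn, -, hMd, -⟩ := compl_in hQ hline hW ((Submodule.span_singleton_le_iff_mem _ _).2 x.2)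
  rw [finrank_span_singleton (fun h : (x : V) = 0 => hQx (by rw [h, QuadraticMap.map_zero]))] at hMd
  refine ⟨Q (x : V), x, x.2, rfl, hQx, (sg_restr_eq_one_iff hMn (a := a) (by omega)).2
    ⟨(Submodule.span F (Set.range e)).map W.subtype, ?_, ?_, ?_⟩⟩
  · rw [Submodule.map_span_le]
    rintro - ⟨i, rfl⟩
    refine ⟨(e i).2, (mem_perp_span_singleton Q).2 ?_⟩
    have := (IsFrame.mem_kernel.1 hx).1 i
    rw [polar_restr, polar_comm] at this
    exact this
  · rintro - ⟨y, hy, rfl⟩
    obtain ⟨c, rfl⟩ := (Submodule.mem_span_range_iff_exists_fun F).1 hy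
    have : ∀ s : Finset (Fin k), restr Q W (∑ i ∈ s, c i • e i) = 0 := by
      intro s
      induction s using Finset.induction_on with
      | empty => simp
      | insert i s hi ih =>
        rw [Finset.sum_insert hi, map_add_polar, qmap_smul, h.qe, ih, ← polarBilin_apply', map_sum]
        simp [h.ee]
    exact this _
  · rw [← (Submodule.equivMapOfInjective _ W.injective_subtype _).finrank_eq,
      finrank_span_eq_card (linearIndependent_e h), Fintype.card_fin, hk.1]

open scoped Classical in
theorem hasVal_count (hQ : Nondeg Q) (h2 : (2 : F) ≠ 0) {W : Submodule F V} (hW : Nondeg (restr Q W))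
    {α : F} (hα : HasVal Q W α) {k : ℕ} (hk : finrank F W = 2 * k + 1) :
    (Nat.card {x : W // Q (x : V) = 1} : ℤ) = (Nat.card F : ℤ) ^ (2 * k) +
      (if IsSquare α then 1 else -1) * (Nat.card F : ℤ) ^ k := by
  classical
  obtain ⟨w, hwW, hw, hα0, hs⟩ := hα
  have hw0 : w ≠ 0 := fun h => hα0 (by rw [← hw, h, QuadraticMap.map_zero])
  have hline := nondeg_line h2 (hw.symm ▸ hα0)
  obtain ⟨hMn, hsup, hMd, -⟩ := compl_in hQ hline hW ((Submodule.span_singleton_le_iff_mem _ _).2 hwW)
  set M := W ⊓ perp Q (Submodule.span F {w})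
  rw [finrank_span_singleton hw0] at hMd
  haveI : Finite V := Module.finite_of_finite F
  haveI : Fintype F := Fintype.ofFinite F
  let φ : (Σ t : F, {y : M // restr Q M y = 1 - t ^ 2 * α}) → {x : W // Q (x : V) = 1} := fun s =>
    ⟨⟨s.1 • w + s.2.1, W.add_mem (W.smul_mem _ hwW) s.2.1.2.1⟩, by
      show Q (s.1 • w + (s.2.1 : V)) = 1
      have h1 : Q (s.2.1 : V) = 1 - s.1 ^ 2 * α := s.2.2
      rw [map_add_polar, qmap_smul, hw, polar_smul_left', (mem_perp_span_singleton Q).1 s.2.1.2.2, h1]
      ring⟩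
  have hφ : Function.Bijective φ := by
    constructor
    · rintro ⟨t, y, hy⟩ ⟨t', y', hy'⟩ heq
      have h1 : t • w + (y : V) = t' • w + (y' : V) :=
        congrArg (fun x : {x : W // Q (x : V) = 1} => ((x : W) : V)) heq
      have h := congrArg (polar Q w) h1
      rw [polar_add_right, polar_add_right, polar_smul_right', polar_smul_right', polar_self', hw,
        (mem_perp_span_singleton Q).1 y.2.2, (mem_perp_span_singleton Q).1 y'.2.2, add_zero, add_zero] at h
      obtain rfl := mul_right_cancel₀ (mul_ne_zero h2 hα0) h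
      obtain rfl : y = y' := Subtype.ext (add_left_cancel h1)
      rfl
    · rintro ⟨⟨x, hxW⟩, hx⟩
      obtain ⟨a, ha, y, hy, hxy⟩ := Submodule.mem_sup.1 (hsup.symm ▸ hxW : x ∈ Submodule.span F {w} ⊔ M)
      obtain ⟨t, rfl⟩ := Submodule.mem_span_singleton.1 ha
      refine ⟨⟨t, ⟨y, hy⟩, ?_⟩, Subtype.ext (Subtype.ext hxy)⟩
      have hx' : Q x = 1 := hx
      rw [← hxy, map_add_polar, qmap_smul, hw, polar_smul_left', (mem_perp_span_singleton Q).1 hy.2] at hx'
      show Q y = _
      linear_combination hx'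
  rw [← Nat.card_eq_of_bijective φ hφ, Nat.card_sigma, Nat.cast_sum]
  have hc : ∀ t : F, (Nat.card F : ℤ) * Nat.card {y : M // restr Q M y = 1 - t ^ 2 * α} =
      ((Nat.card F : ℤ) ^ (2 * k) - (Nat.card F : ℤ) ^ k) +
        if t ^ 2 * α = 1 then (Nat.card F : ℤ) ^ (k + 1) else 0 := fun t => by
    have h := sphere_all hMn (m := k) (by omega) (1 - t ^ 2 * α)
    rw [hs, show (1 - t ^ 2 * α = 0) = (t ^ 2 * α = 1) from propext (sub_eq_zero.trans eq_comm)] at h
    simp only [one_mul] at h
    linarith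
  have hnum : ((Finset.univ.filter fun t : F => t ^ 2 * α = 1).card : ℤ) =
      (if IsSquare α then 1 else -1) + 1 := by
    by_cases hsq : IsSquare α
    · rw [if_pos hsq]
      obtain ⟨s, hs'⟩ := hsq
      have hs0 : s ≠ 0 := fun h => hα0 (by rw [hs', h, mul_zero])
      rw [show (Finset.univ.filter fun t : F => t ^ 2 * α = 1) = {s⁻¹, -s⁻¹} from ?_, Finset.card_pair]
      · norm_num
      · intro hh
        exact h2 (by
          have := congrArg (· * s) hh
          simp only [inv_mul_cancel₀ hs0, neg_mul] at this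
          linear_combination this)
      · ext t
        simp only [Finset.mem_filter, Finset.mem_univ, true_and, Finset.mem_insert, Finset.mem_singleton]
        constructor
        · intro ht
          have : (t * s - 1) * (t * s + 1) = 0 := by rw [hs'] at ht; linear_combination ht
          rcases mul_eq_zero.1 this with h | h
          · exact Or.inl (eq_inv_of_mul_eq_one_left (by linear_combination h))
          · exact Or.inr (neg_eq_iff_eq_neg.1 (eq_inv_of_mul_eq_one_left (by linear_combination -h)))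
        · rintro (rfl | rfl) <;> rw [hs'] <;> field_simp
    · rw [if_neg hsq, show (Finset.univ.filter fun t : F => t ^ 2 * α = 1) = ∅ from ?_]
      · simp
      · refine Finset.filter_eq_empty_iff.2 fun t _ ht => hsq ⟨t⁻¹, ?_⟩
        have ht0 : t ≠ 0 := fun h => by simp [h] at ht
        field_simp
        linear_combination ht
  have hq : (Nat.card F : ℤ) ≠ 0 := by exact_mod_cast (Nat.card_pos (α := F)).ne'
  refine mul_left_cancel₀ hq ?_
  rw [Finset.mul_sum, Finset.sum_congr rfl fun t _ => hc t, Finset.sum_add_distrib, Finset.sum_const,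
    ← Finset.sum_filter, Finset.sum_const, Finset.card_univ, ← Nat.card_eq_fintype_card, nsmul_eq_mul,
    nsmul_eq_mul, hnum]
  ring_nf

theorem hasVal_unique (hQ : Nondeg Q) (h2 : (2 : F) ≠ 0) {W W' : Submodule F V} (hW : Nondeg (restr Q W))
    (hiso : IsoOn Q W W') (hodd : Odd (finrank F W)) {α β : F} (hα : HasVal Q W α) (hβ : HasVal Q W' β) :
    IsSquare α ↔ IsSquare β := by
  classical
  obtain ⟨k, hk⟩ := hodd
  have hc1 := hasVal_count hQ h2 hW hα hk
  have hc2 := hasVal_count hQ h2 (hiso.nondeg hW) hβ (hiso.finrank_eq ▸ hk)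
  obtain ⟨e, he⟩ := hiso
  rw [← Nat.card_congr (e.toEquiv.subtypeEquiv (p := fun x : W => Q (x : V) = 1)
    (q := fun x : W' => Q (x : V) = 1) fun x => by rw [← he]; rfl), hc1] at hc2
  have hq : (Nat.card F : ℤ) ^ k ≠ 0 := pow_ne_zero _ (by exact_mod_cast (Nat.card_pos (α := F)).ne')
  have := mul_right_cancel₀ hq (add_left_cancel hc2)
  by_cases ha : IsSquare α <;> by_cases hb : IsSquare β <;> simp [ha, hb] at this ⊢

theorem isoOn_perp (hQ : Nondeg Q) {W W' : Submodule F V} (h : IsoOn Q W W') :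
    IsoOn Q (perp Q W) (perp Q W') := by
  obtain ⟨e, he⟩ := h
  obtain ⟨g, hg⟩ := witt hQ W (W'.subtype.comp e.toLinearMap) (W'.injective_subtype.comp e.injective) he
  have hmap : W.map ((g : V ≃ₗ[F] V) : V →ₗ[F] V) = W' := by
    refine SetLike.ext fun y => ⟨?_, fun hy => ?_⟩
    · rintro ⟨x, hx, rfl⟩
      show (g : V ≃ₗ[F] V) x ∈ W'
      rw [hg ⟨x, hx⟩]; exact (e ⟨x, hx⟩).2
    · obtain ⟨x, hx⟩ := e.surjective ⟨y, hy⟩
      exact ⟨x, x.2, (hg x).trans (congrArg Subtype.val hx)⟩
  have hmap' : (perp Q W).map ((g : V ≃ₗ[F] V) : V →ₗ[F] V) = perp Q W' := by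
    refine SetLike.ext fun y => ⟨?_, fun hy => ?_⟩
    · rintro ⟨x, hx, rfl⟩ w hw
      rw [← hmap] at hw
      obtain ⟨z, hz, rfl⟩ := hw
      exact (O.polar_app g z x).trans (hx z hz)
    · obtain ⟨x, rfl⟩ := (g : V ≃ₗ[F] V).surjective y
      refine ⟨x, fun z hz => ?_, rfl⟩
      rw [← O.polar_app g]
      exact hy _ (hmap ▸ ⟨z, hz, rfl⟩)
  exact ⟨((g : V ≃ₗ[F] V).submoduleMap (perp Q W)).trans (LinearEquiv.ofEq _ _ hmap'), fun w => O.map_app g w.1⟩

/-- On minus type `4 u + 4` dimensions an element of order `p` fixing only one class in each odd dimension. -/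
theorem exists_three (p : ℕ) [Fact p.Prime] [CharP F p] (hp : p ≠ 2) (hQ : Nondeg Q) (h2 : (2 : F) ≠ 0)
    {u : ℕ} (hn : finrank F V = 4 * u + 4) (hu : 0 < u) {e f : Fin (2 * u + 1) → V} (h : IsFrame Q e f)
    {α : F} (hα : α ≠ 0) :
    ∃ g : O Q, g ∈ commutator (O Q) ∧ g ≠ 1 ∧ g ^ p = 1 ∧
      ∀ W : Submodule F V, Nondeg (restr Q W) → Odd (finrank F W) → (∀ x ∈ W, (g : V ≃ₗ[F] V) x ∈ W) →
        (finrank F W % 4 = 1 ∧ ∃ s, s ≠ 0 ∧ HasVal Q W (s ^ 2 * α)) ∨
        (finrank F W % 4 = 3 ∧ ∃ s, s ≠ 0 ∧ HasVal Q (perp Q W) (s ^ 2 * α)) := by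
  have hn5 : 5 ≤ finrank F V := by omega
  obtain ⟨g₀, hg₀, hN⟩ := exists_siegel hQ hn5 h u (by omega)
  have hKn := h.nondeg_kernel hQ
  have hKd : finrank F (IsFrame.kernel Q e f) = 2 := by have := h.finrank_kernel hQ; omega
  obtain ⟨⟨l, hlK⟩, hl⟩ := hKn.exists_value (by omega) α
  rw [restr_apply] at hl
  have hQl : Q l ≠ 0 := hl.symm ▸ hα
  have hl0 : l ≠ 0 := fun h => hQl (by rw [h, QuadraticMap.map_zero])
  obtain ⟨hZn, hZsup, hZd, hZo⟩ := compl_in hQ (nondeg_line h2 hQl) hKn
    ((Submodule.span_singleton_le_iff_mem _ _).2 hlK)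
  set Z := IsFrame.kernel Q e f ⊓ perp Q (Submodule.span F {l})
  rw [finrank_span_singleton hl0] at hZd
  haveI : Nontrivial Z := Module.finrank_pos_iff.1 (show 0 < finrank F Z by omega)
  obtain ⟨⟨z, hzZ⟩, hz⟩ := exists_ne (0 : Z)
  have hQz : Q z ≠ 0 := fun h0 => hz (hZn ⟨z, hzZ⟩ fun y => by
    obtain ⟨c, rfl⟩ := (finrank_eq_one_iff_of_nonzero' ⟨z, hzZ⟩ hz).1 (show finrank F Z = 1 by omega) y
    rw [polar_smul_right', polar_self', restr_apply, h0]; ring)
  have hlz : polar Q l z = 0 := hzZ.2 l (Submodule.mem_span_singleton_self l)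
  obtain ⟨hez, hfz⟩ := IsFrame.mem_kernel.1 hzZ.1
  obtain ⟨hel, hfl⟩ := IsFrame.mem_kernel.1 hlK
  set e₀ := e (Fin.last (2 * u))
  set g := g₀ * sie e₀ z (h.qe _) (hez _)
  have hN₀e : ∀ i, nOp g₀ (e i) = 0 := fun i => by
    rw [hN]; exact Finset.sum_eq_zero fun j _ => by rw [h.ee, h.ee, zero_smul, zero_smul, sub_self]
  have hN₀z : nOp g₀ z = 0 := by
    rw [hN]; exact Finset.sum_eq_zero fun j _ => by rw [hez, hez, zero_smul, zero_smul, sub_self]
  have hNg : ∀ v, nOp g v = nOp g₀ v + ((polar Q z v - Q z * polar Q e₀ v) • e₀ - polar Q e₀ v • z) := fun v => by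
    rw [nOp_app, Subgroup.coe_mul, mul_app, app_eq_add g₀, sie_app, map_sub, map_add, map_smul, map_smul, hN₀e,
      hN₀z, smul_zero, smul_zero, add_zero, sub_zero]
    abel
  have hze : ∀ i, polar Q z (e i) = 0 := fun i => by rw [polar_comm]; exact hez i
  -- the image squared lies on a singular line
  have hNN : ∀ v, nOp g (nOp g v) = (-(2 * Q z) * polar Q e₀ v) • e₀ := by
    intro v
    have he₀ : nOp g e₀ = 0 := by
      rw [hNg, hN₀e, hze, h.ee]; simp
    have hz' : nOp g z = (2 * Q z) • e₀ := by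
      rw [hNg, hN₀z, polar_self', hez]; simp
    have h0 : nOp g (nOp g₀ v) = 0 := by
      rw [hN, map_sum]
      refine Finset.sum_eq_zero fun j _ => ?_
      have : ∀ i, nOp g (e i) = 0 := fun i => by rw [hNg, hN₀e, hze, h.ee]; simp
      rw [map_sub, map_smul, map_smul, this, this, smul_zero, smul_zero, sub_self]
    rw [hNg v, map_add, h0, map_sub, map_smul, map_smul, he₀, hz', smul_zero, zero_sub, zero_add, smul_smul,
      ← neg_smul]
    congr 1
    ring
  -- values on the fixed space
  have hkerQ : ∀ v, nOp g v = 0 → ∃ t : F, Q v = t ^ 2 * α := by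
    intro v hv
    have hall := h.linearIndependent
    have hez0 : polar Q e₀ v = 0 ∧ polar Q z v = 0 ∧ ∀ i, polar Q (e i) v = 0 := by
      have hzv := congrArg (polar Q z) (hv.symm.trans (hNg v))
      have h0 : polar Q z (nOp g₀ v) = 0 := by
        rw [hN, ← polarBilin_apply', map_sum]
        exact Finset.sum_eq_zero fun j _ => by
          rw [map_sub, map_smul, map_smul, polarBilin_apply', polarBilin_apply', hze, hze]; simp
      rw [polar_zero_right, polar_add_right, h0, polar_sub_right, polar_smul_right', polar_smul_right', hze,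
        polar_self', mul_zero, zero_sub, zero_add, zero_eq_neg] at hzv
      have he₀v := (mul_eq_zero.1 hzv).resolve_right (mul_ne_zero h2 hQz)
      have hfv : ∀ i, polar Q (f i) (nOp g v) = 0 := fun i => by rw [hv, polar_zero_right]
      have hval : ∀ i, polar Q (f i) (nOp g₀ v) +
          (if i = Fin.last (2 * u) then polar Q z v else 0) = 0 := fun i => by
        have := hfv i
        rw [hNg, polar_add_right, polar_sub_right, polar_smul_right', polar_smul_right', he₀v, h.fe, hfz] at this
        split_ifs at this ⊢ <;> simpa using this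
      have hsum : ∀ i, polar Q (f i) (nOp g₀ v) = ∑ j : Fin u,
          (polar Q (e ⟨2 * j + 1, by omega⟩) v * (if i = ⟨2 * j, by omega⟩ then 1 else 0) -
            polar Q (e ⟨2 * j, by omega⟩) v * (if i = ⟨2 * j + 1, by omega⟩ then 1 else 0)) := fun i => by
        rw [hN, ← polarBilin_apply', map_sum]
        exact Finset.sum_congr rfl fun j _ => by
          rw [map_sub, map_smul, map_smul, polarBilin_apply', polarBilin_apply', h.fe, h.fe, smul_eq_mul, smul_eq_mul]
      refine ⟨he₀v, ?_, fun i => ?_⟩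
      · have := hval (Fin.last _)
        rw [if_pos rfl, hsum, Finset.sum_eq_zero (fun j _ => by
          rw [if_neg, if_neg] <;> [ring; skip; skip] <;> simp [Fin.ext_iff] <;> omega), zero_add] at this
        exact this
      · rcases (show (i : ℕ) < 2 * u ∨ i = Fin.last (2 * u) by
          rcases lt_or_ge (i : ℕ) (2 * u) with hlt | hge
          · exact Or.inl hlt
          · exact Or.inr (Fin.ext (by simp; omega))) with hlt | rfl
        swap
        · exact he₀v
        obtain ⟨j, hj | hj⟩ := Nat.even_or_odd' (i : ℕ)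
        · have := hval ⟨2 * j + 1, by omega⟩
          rw [if_neg (by simp [Fin.ext_iff]; omega), hsum, Finset.sum_eq_single ⟨j, by omega⟩,
            if_neg (by simp [Fin.ext_iff]), if_pos rfl] at this
          · rw [show i = ⟨2 * j, by omega⟩ from Fin.ext hj]
            linear_combination -this
          · intro j' _ hne
            rw [if_neg, if_neg] <;> [ring; skip; skip] <;> simp only [Fin.ext_iff] <;>
              simp only [ne_eq, Fin.ext_iff] at hne <;> omega
          · simp
        · have := hval ⟨2 * j, by omega⟩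
          rw [if_neg (by simp [Fin.ext_iff]; omega), hsum, Finset.sum_eq_single ⟨j, by omega⟩,
            if_pos rfl, if_neg (by simp [Fin.ext_iff])] at this
          · rw [show i = ⟨2 * j + 1, by omega⟩ from Fin.ext hj]
            linear_combination this
          · intro j' _ hne
            rw [if_neg, if_neg] <;> [ring; skip; skip] <;> simp only [Fin.ext_iff] <;>
              simp only [ne_eq, Fin.ext_iff] at hne <;> omega
          · simp
    obtain ⟨-, hzv, hev⟩ := hez0
    set t := polar Q l v / (2 * α)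
    refine ⟨t, ?_⟩
    have htl : polar Q l (v - t • l) = 0 := by
      rw [polar_sub_right, polar_smul_right', polar_self', hl, div_mul_cancel₀ _ (mul_ne_zero h2 hα), sub_self]
    obtain ⟨a, ha, b, hb, hab⟩ := Submodule.mem_sup.1
      (show v - t • l ∈ IsFrame.hspan (F := F) e f ⊔ IsFrame.kernel Q e f by
        rw [(h.isCompl_kernel hQ).sup_eq_top]; trivial)
    have hb' : b = 0 := by
      have hKb : ∀ y ∈ IsFrame.kernel Q e f, polar Q y b = 0 := by
        intro y hy
        obtain ⟨y₁, hy₁, y₂, hy₂, rfl⟩ := Submodule.mem_sup.1 (hZsup.symm ▸ hy :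
          y ∈ Submodule.span F {l} ⊔ Z)
        obtain ⟨c₁, rfl⟩ := Submodule.mem_span_singleton.1 hy₁
        obtain ⟨c₂, hc₂⟩ := (finrank_eq_one_iff_of_nonzero' ⟨z, hzZ⟩ hz).1 (show finrank F Z = 1 by omega) ⟨y₂, hy₂⟩
        have hy2 : y₂ = c₂ • z := (congrArg Subtype.val hc₂).symm
        have hzb : polar Q z b = 0 := by
          have h1 : polar Q z (v - t • l) = 0 := by
            rw [polar_sub_right, polar_smul_right', hzv, polar_comm (⇑Q) z l, hlz, mul_zero, sub_zero]
          rwa [← hab, polar_add_right, show polar Q z a = 0 by rw [polar_comm]; exact hzZ.1 a ha, zero_add] at h1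
        have hlb : polar Q l b = 0 := by
          rwa [← hab, polar_add_right, show polar Q l a = 0 by rw [polar_comm]; exact hlK a ha, zero_add] at htl
        rw [polar_add_left, polar_smul_left', hlb, hy2, polar_smul_left', hzb]; ring
      have hmem : b ∈ IsFrame.kernel Q e f ⊓ perp Q (IsFrame.kernel Q e f) := ⟨hb, hKb⟩
      rwa [(nondeg_restr_iff _).1 hKn, Submodule.mem_bot] at hmem
    rw [hb', add_zero] at hab
    have hQa : Q a = 0 := by
      obtain ⟨co, hco⟩ := (Submodule.mem_span_range_iff_exists_fun F).1 ha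
      have hf0 : ∀ i, co (Sum.inr i) = 0 := fun i => by
        have h1 : polar Q (e i) a = 0 := by
          rw [hab, polar_sub_right, polar_smul_right', hev, hel, mul_zero, sub_zero]
        rw [← hco, ← polarBilin_apply', map_sum, Fintype.sum_sum_type] at h1
        simpa [h.ef, h.ee] using h1
      rw [← hco, Fintype.sum_sum_type]
      simp only [Sum.elim_inl, Sum.elim_inr, hf0, zero_smul, Finset.sum_const_zero, add_zero]
      have : ∀ s : Finset (Fin (2 * u + 1)), Q (∑ i ∈ s, co (Sum.inl i) • e i) = 0 := by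
        intro s
        induction s using Finset.induction_on with
        | empty => simp
        | insert i s hi ih =>
          rw [Finset.sum_insert hi, map_add_polar, qmap_smul, h.qe, ih, ← polarBilin_apply', map_sum]
          simp [h.ee]
      exact this _
    rw [show v = a + t • l by rw [hab]; abel, map_add_polar, hQa, qmap_smul, hl, polar_smul_right',
      show polar Q a l = 0 from hlK a ha]
    ring
  have hN3 : ∀ v, nOp g (nOp g (nOp g v)) = 0 := fun v => by
    rw [hNN v, map_smul, hNg, hN₀e, hze, h.ee]; simp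
  refine ⟨g, mul_mem hg₀ (sieGroup_eq_commutator hQ hn5 ▸ sie_mem _ _), ?_, ?_, ?_⟩
  · intro h1
    have h0 := hNN (f (Fin.last _))
    have hz0 : nOp (1 : O Q) = 0 := LinearMap.ext fun v => by
      rw [nOp_app]; exact sub_self v
    rw [h1, hz0, LinearMap.zero_apply, h.ef, if_pos rfl, mul_one] at h0
    have hne : e₀ ≠ 0 := (linearIndependent_e h).ne_zero _
    exact mul_ne_zero h2 hQz (neg_eq_zero.1 ((smul_eq_zero.1 h0.symm).resolve_right hne))
  · refine linHom_injective ?_
    rw [map_pow, map_one]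
    have h3 : nOp g ^ 3 = 0 := LinearMap.ext fun v => by
      rw [pow_succ, pow_two, Module.End.mul_apply, Module.End.mul_apply, LinearMap.zero_apply]; exact hN3 v
    have hp3 : 3 ≤ p := by have := (Fact.out : p.Prime).two_le; omega
    have hch : CharP (Module.End F V) p := by
      haveI : Nontrivial V := Module.finrank_pos_iff.1 (show 0 < finrank F V by omega)
      exact charP_of_injective_algebraMap (algebraMap F (Module.End F V)).injective p
    have hadd := add_pow_char_of_commute (R := Module.End F V) p (Commute.one_left (nOp g))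
    rw [show (1 : Module.End F V) + nOp g = linHom Q g by rw [nOp, add_sub_cancel], one_pow,
      pow_eq_zero_of_le hp3 h3, add_zero] at hadd
    exact hadd
  intro W hW hodd hinv
  have core : ∀ X : Submodule F V, Nondeg (restr Q X) → (∀ x ∈ X, (g : V ≃ₗ[F] V) x ∈ X) → Odd (finrank F X) →
      (∀ x ∈ X, nOp g (nOp g x) = 0) → finrank F X % 4 = 1 ∧ ∃ s, s ≠ 0 ∧ HasVal Q X (s ^ 2 * α) := by
    intro X hX hXi hXo hX2
    have hQN : ∀ x ∈ X, Q (nOp g x) = 0 := fun x hx => by
      have h1 := O.polar_app g (nOp g x) (nOp g x)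
      have h2' := O.polar_app g x (nOp g x)
      have hfix : (g : V ≃ₗ[F] V) (nOp g x) = nOp g x := by rw [app_eq_add, hX2 x hx, add_zero]
      rw [hfix, app_eq_add g x, polar_add_left, add_eq_left, polar_self'] at h2'
      exact (mul_eq_zero.1 h2').resolve_left h2
    obtain ⟨r, hr, hre, hrle, hker, hort, -⟩ := two_step g hX hXi hX2 hQN
    obtain ⟨k, hk⟩ := hXo
    obtain ⟨w, hw, hQw⟩ : ∃ w ∈ X ⊓ LinearMap.ker (nOp g), Q w ≠ 0 := by
      by_contra hall
      push Not at hall
      have hts : TotSing (restr Q X) ((X ⊓ LinearMap.ker (nOp g)).comap X.subtype) := fun y hy => hall _ hy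
      have := hts.two_mul_finrank_le hX
      rw [(Submodule.comapSubtypeEquivOfLe (inf_le_left : X ⊓ LinearMap.ker (nOp g) ≤ X)).finrank_eq] at this
      omega
    obtain ⟨s, hs⟩ := hkerQ w (LinearMap.mem_ker.1 hw.2)
    have hs0 : s ≠ 0 := fun h => hQw (by rw [hs, h]; ring)
    have hw0 : w ≠ 0 := fun h => hQw (by rw [h, QuadraticMap.map_zero])
    obtain ⟨hMn, -, hMd, -⟩ := compl_in hQ (nondeg_line h2 hQw) hX ((Submodule.span_singleton_le_iff_mem _ _).2 hw.1)
    set M := X ⊓ perp Q (Submodule.span F {w})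
    rw [finrank_span_singleton hw0] at hMd
    set K := X ⊓ LinearMap.ker (nOp g) ⊓ perp Q (Submodule.span F {w})
    have hKts : ∀ y ∈ K, Q y = 0 := by
      intro y hy
      by_contra hne
      obtain ⟨ν, hν⟩ := FiniteField.exists_nonsquare (F := F) (fun hc => h2 (by
        haveI := ringChar.of_eq hc; exact CharTwo.two_eq_zero))
      obtain ⟨a, b, hab⟩ := exists_sq_add_sq hQw hne (ν * α)
      obtain ⟨t, ht⟩ := hkerQ (a • w + b • y) (by
        rw [map_add, map_smul, map_smul, LinearMap.mem_ker.1 hw.2, LinearMap.mem_ker.1 hy.1.2]; simp)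
      rw [map_add_polar, qmap_smul, qmap_smul, polar_smul_left', polar_smul_right',
        (mem_perp_span_singleton Q).1 hy.2, mul_zero, mul_zero, add_zero] at ht
      refine hν ⟨t, mul_right_cancel₀ hα ?_⟩
      linear_combination ht - hab
    have hKd : finrank F (X ⊓ LinearMap.ker (nOp g) : Submodule F V) ≤ finrank F K + 1 := by
      have h := Submodule.finrank_sup_add_finrank_inf_eq (X ⊓ LinearMap.ker (nOp g)) (perp Q (Submodule.span F {w}))
      have := Submodule.finrank_le (X ⊓ LinearMap.ker (nOp g) ⊔ perp Q (Submodule.span F {w}))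
      have := hQ.finrank_perp_singleton hw0
      change _ + finrank F K = _ at h
      omega
    have hKM : K ≤ M := fun y hy => ⟨hy.1.1, hy.2⟩
    have hts : TotSing (restr Q M) (K.comap M.subtype) := fun y hy => hKts _ hy
    have hb := hts.two_mul_finrank_le hMn
    rw [(Submodule.comapSubtypeEquivOfLe hKM).finrank_eq] at hb
    obtain ⟨j, hj⟩ := hre
    refine ⟨by omega, s, hs0, w, hw.1, hs, mul_ne_zero (pow_ne_zero 2 hs0) hα, ?_⟩
    refine (sg_restr_eq_one_iff hMn (a := k) (by omega)).2 ⟨X.map (nOp g), ?_, ?_, by omega⟩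
    · rintro - ⟨x, hx, rfl⟩
      exact ⟨nOp_mem hXi hx, (mem_perp_span_singleton Q).2 (by
        rw [polar_comm]; exact hort _ ⟨x, hx, rfl⟩ w hw)⟩
    · rintro - ⟨x, hx, rfl⟩
      exact hQN x hx
  by_cases h2W : ∀ x ∈ W, nOp g (nOp g x) = 0
  · exact Or.inl (core W hW hinv hodd h2W)
  push Not at h2W
  obtain ⟨x, hx, hne⟩ := h2W
  have he₀W : e₀ ∈ W := by
    have hmem := nOp_mem hinv (nOp_mem hinv hx)
    rw [hNN] at hne hmem
    have hc : -(2 * Q z) * polar Q e₀ x ≠ 0 := fun h => hne (by rw [h, zero_smul])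
    have := W.smul_mem (-(2 * Q z) * polar Q e₀ x)⁻¹ hmem
    rwa [inv_smul_smul₀ hc] at this
  have hdim := hQ.finrank_add_perp W
  have hodd' : Odd (finrank F (perp Q W)) := by
    obtain ⟨k, hk⟩ := hodd
    exact ⟨2 * u + 1 - k, by omega⟩
  obtain ⟨h1, hs⟩ := core (perp Q W) (hQ.nondeg_perp hW) (inv_perp g hinv) hodd' fun y hy => by
    rw [hNN y, show polar Q e₀ y = 0 from hy e₀ he₀W, mul_zero, zero_smul]
  exact Or.inr ⟨by omega, hs⟩

end Cfsg.Agent.H58.Elusive
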